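import Mathlib

/-!
# Tables for the binary icosahedral and binary tetrahedral models

Words in two generators of order three, right-multiplication tables, and linear certificates
used in the proof of Zassenhaus's theorem. All tables are verified by kernel computation where used.
-/

set_option autoImplicit false

namespace CfsgLib.Icosa

/-- Words in the two generators, one for each element of the binary icosahedral group. -/
def words : List (List Bool) := [
  [],
  [false],
  [true],
  [false, false],
  [false, true],
  [true, false],
  [true, true],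
  [false, false, true],
  [false, true, false],
  [false, true, true],
  [true, false, false],
  [true, false, true],
  [true, true, false],
  [false, false, true, false],
  [false, false, true, true],
  [false, true, false, false],
  [false, true, false, true],
  [false, true, true, false],
  [true, false, false, true],
  [true, false, true, false],
  [true, false, true, true],
  [true, true, false, false],
  [true, true, false, true],
  [false, false, true, false, false],
  [false, false, true, false, true],
  [false, false, true, true, false],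
  [false, true, false, false, true],
  [false, true, false, true, false],
  [false, true, false, true, true],
  [false, true, true, false, false],
  [false, true, true, false, true],
  [true, false, false, true, false],
  [true, false, false, true, true],
  [true, false, true, false, false],
  [true, false, true, true, false],
  [true, true, false, false, true],
  [true, true, false, true, false],
  [true, true, false, true, true],
  [false, false, true, false, false, true],
  [false, false, true, false, true, false],
  [false, false, true, false, true, true],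
  [false, false, true, true, false, false],
  [false, false, true, true, false, true],
  [false, true, false, false, true, false],
  [false, true, false, false, true, true],
  [false, true, false, true, false, false],
  [false, true, false, true, true, false],
  [false, true, true, false, false, true],
  [false, true, true, false, true, false],
  [false, true, true, false, true, true],
  [true, false, false, true, false, false],
  [true, false, false, true, false, true],
  [true, false, false, true, true, false],
  [true, false, true, false, false, true],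
  [true, false, true, true, false, false],
  [true, false, true, true, false, true],
  [true, true, false, false, true, false],
  [true, true, false, false, true, true],
  [true, true, false, true, false, false],
  [true, true, false, true, true, false],
  [false, false, true, false, false, true, false],
  [false, false, true, false, false, true, true],
  [false, false, true, false, true, false, false],
  [false, false, true, false, true, true, false],
  [false, false, true, true, false, false, true],
  [false, false, true, true, false, true, false],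
  [false, false, true, true, false, true, true],
  [false, true, false, false, true, false, false],
  [false, true, false, false, true, false, true],
  [false, true, false, false, true, true, false],
  [false, true, false, true, false, false, true],
  [false, true, false, true, true, false, false],
  [false, true, false, true, true, false, true],
  [false, true, true, false, false, true, false],
  [false, true, true, false, false, true, true],
  [false, true, true, false, true, false, false],
  [false, true, true, false, true, true, false],
  [true, false, false, true, false, false, true],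
  [true, false, false, true, false, true, true],
  [true, false, false, true, true, false, false],
  [true, false, false, true, true, false, true],
  [true, false, true, false, false, true, false],
  [true, false, true, true, false, false, true],
  [true, false, true, true, false, true, false],
  [true, false, true, true, false, true, true],
  [true, true, false, false, true, false, false],
  [true, true, false, false, true, true, false],
  [true, true, false, true, false, false, true],
  [true, true, false, true, true, false, false],
  [true, true, false, true, true, false, true],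
  [false, false, true, false, false, true, false, true],
  [false, false, true, false, true, false, false, true],
  [false, false, true, false, true, true, false, false],
  [false, false, true, false, true, true, false, true],
  [false, false, true, true, false, false, true, false],
  [false, false, true, true, false, false, true, true],
  [false, false, true, true, false, true, false, false],
  [false, true, false, false, true, false, true, true],
  [false, true, false, false, true, true, false, false],
  [false, true, false, false, true, true, false, true],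
  [false, true, false, true, false, false, true, false],
  [false, true, false, true, true, false, false, true],
  [false, true, false, true, true, false, true, false],
  [false, true, false, true, true, false, true, true],
  [false, true, true, false, false, true, true, false],
  [true, false, false, true, true, false, false, true],
  [true, false, false, true, true, false, true, false],
  [true, false, true, false, false, true, false, true],
  [true, false, true, true, false, false, true, false],
  [true, false, true, true, false, true, false, false],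
  [true, true, false, false, true, true, false, false],
  [true, true, false, true, false, false, true, false],
  [false, false, true, false, true, false, false, true, false],
  [false, false, true, false, true, true, false, true, false],
  [false, false, true, true, false, false, true, true, false],
  [false, true, false, true, false, false, true, false, true],
  [false, true, false, true, true, false, true, false, false],
  [false, true, true, false, false, true, true, false, false],
  [false, false, true, false, true, false, false, true, false, true],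
  [false, false, true, true, false, false, true, true, false, false]]

def nextA : List ℕ := [1, 3, 5, 0, 8, 10, 12, 13, 15, 17, 2, 19, 21, 23, 25, 4, 27, 29, 31, 33, 34, 6, 36, 7, 39, 41, 43, 45, 46, 9, 48, 50, 52, 11, 54, 56, 58, 59, 60, 62, 63, 14, 65, 67, 69, 16, 71, 73, 75, 76, 18, 70, 79, 81, 20, 83, 85, 86, 22, 88, 77, 87, 24, 92, 94, 96, 89, 26, 91, 98, 100, 28, 102, 78, 104, 30, 84, 38, 47, 32, 106, 90, 108, 109, 49, 35, 110, 111, 37, 103, 53, 112, 40, 113, 97, 114, 42, 64, 44, 80, 51, 82, 116, 66, 117, 93, 99, 115, 101, 55, 57, 61, 68, 105, 119, 118, 72, 74, 107, 95]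

def nextB : List ℕ := [2, 4, 6, 7, 9, 11, 0, 14, 16, 1, 18, 20, 22, 24, 3, 26, 28, 30, 32, 27, 5, 35, 37, 38, 40, 42, 44, 39, 8, 47, 49, 51, 10, 53, 55, 57, 45, 12, 61, 19, 13, 64, 66, 68, 15, 70, 72, 74, 62, 17, 77, 78, 80, 65, 82, 84, 71, 21, 87, 89, 90, 23, 91, 93, 95, 33, 25, 50, 97, 99, 36, 101, 103, 92, 29, 52, 59, 67, 31, 105, 75, 107, 94, 100, 34, 60, 98, 106, 63, 76, 85, 48, 108, 88, 54, 41, 69, 43, 109, 96, 115, 56, 112, 46, 111, 114, 58, 113, 73, 86, 117, 116, 118, 81, 79, 83, 104, 119, 102, 110]

def mats : List (ℕ × ℕ × ℕ × ℕ) := [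
  (1, 0, 0, 1),
  (0, 2, 2, 4),
  (1, 1, 2, 3),
  (4, 3, 3, 0),
  (4, 1, 0, 4),
  (2, 1, 1, 1),
  (3, 4, 3, 1),
  (0, 3, 3, 3),
  (2, 2, 3, 1),
  (1, 2, 3, 2),
  (2, 3, 2, 1),
  (4, 0, 3, 4),
  (3, 2, 2, 0),
  (1, 2, 1, 3),
  (1, 4, 4, 2),
  (4, 2, 2, 0),
  (1, 3, 0, 1),
  (4, 0, 4, 4),
  (3, 1, 4, 0),
  (0, 3, 3, 2),
  (4, 4, 1, 0),
  (4, 4, 0, 4),
  (2, 4, 2, 2),
  (4, 0, 1, 4),
  (0, 2, 2, 0),
  (3, 3, 4, 1),
  (3, 0, 2, 2),
  (1, 4, 2, 4),
  (2, 0, 2, 3),
  (0, 3, 3, 4),
  (4, 4, 2, 1),
  (2, 0, 0, 3),
  (0, 1, 4, 4),
  (1, 2, 4, 4),
  (3, 4, 0, 2),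
  (2, 1, 3, 2),
  (3, 0, 4, 2),
  (0, 4, 1, 3),
  (4, 4, 4, 3),
  (4, 3, 0, 4),
  (4, 1, 2, 2),
  (1, 3, 2, 2),
  (4, 2, 1, 2),
  (0, 1, 4, 2),
  (3, 3, 1, 3),
  (3, 3, 3, 0),
  (0, 4, 1, 1),
  (1, 4, 1, 0),
  (3, 4, 2, 3),
  (2, 1, 4, 0),
  (0, 4, 1, 2),
  (2, 2, 1, 4),
  (2, 4, 3, 4),
  (0, 2, 2, 1),
  (3, 2, 4, 3),
  (1, 0, 4, 1),
  (2, 3, 4, 4),
  (4, 0, 2, 4),
  (0, 1, 4, 1),
  (3, 1, 1, 4),
  (3, 4, 1, 0),
  (2, 1, 0, 3),
  (1, 0, 3, 1),
  (2, 2, 4, 2),
  (2, 0, 1, 3),
  (4, 1, 4, 0),
  (3, 0, 0, 2),
  (2, 4, 4, 1),
  (2, 3, 3, 0),
  (1, 3, 1, 4),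
  (4, 2, 3, 3),
  (3, 1, 2, 1),
  (3, 2, 3, 4),
  (3, 3, 0, 2),
  (4, 3, 1, 1),
  (3, 2, 1, 1),
  (2, 3, 0, 3),
  (3, 2, 0, 2),
  (1, 3, 4, 3),
  (3, 0, 3, 2),
  (0, 4, 1, 0),
  (4, 3, 2, 3),
  (2, 4, 0, 3),
  (0, 2, 2, 2),
  (1, 1, 1, 2),
  (1, 1, 3, 4),
  (0, 3, 3, 0),
  (2, 3, 1, 2),
  (2, 0, 3, 3),
  (0, 1, 4, 3),
  (1, 0, 1, 1),
  (1, 1, 0, 1),
  (4, 2, 4, 1),
  (1, 3, 3, 0),
  (0, 4, 1, 4),
  (2, 2, 2, 0),
  (2, 2, 0, 3),
  (3, 1, 3, 3),
  (1, 4, 3, 3),
  (2, 0, 4, 3),
  (4, 1, 1, 3),
  (0, 1, 4, 0),
  (4, 4, 3, 2),
  (2, 4, 1, 0),
  (1, 0, 2, 1),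
  (3, 3, 2, 4),
  (3, 1, 0, 2),
  (0, 3, 3, 1),
  (3, 0, 1, 2),
  (4, 3, 4, 2),
  (1, 2, 0, 1),
  (1, 1, 4, 0),
  (2, 1, 2, 4),
  (1, 4, 0, 1),
  (4, 2, 0, 4),
  (1, 2, 2, 0),
  (3, 4, 4, 4),
  (0, 2, 2, 3),
  (4, 0, 0, 4),
  (4, 1, 3, 1)]

def genA5 : ℕ × ℕ × ℕ × ℕ := (0, 2, 2, 4)

def genB5 : ℕ × ℕ × ℕ × ℕ := (1, 1, 2, 3)

def classOne : List (List Bool) := [[true, true, false, false, true], [true, false, false, true, false, true, true], [false, false, true, true, false, false, true, false]]

def classTwo : List (List Bool) := [[true, false, false, true, true], [true, true, false, true, false, false, true], [false, true, false, false, true, true, false, false]]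

def certificates : List (Option (List Bool) × List (ℤ × List (Fin 3))) := [
  (some [true], [(-1, [0, 1]), (1, [0, 2]), (1, [1, 2]), (1, [2])]),
  (none, [(1, []), (1, [0]), (1, [0, 1]), (-1, [0, 1, 2, 1]), (-2, [0, 1, 2, 1, 2]), (1, [0, 2]), (-1, [0, 2, 1, 2]), (-1, [1, 2, 1]), (-1, [1, 2, 1, 2]), (1, [2])]),
  (none, [(-1, [0]), (-1, [0, 1]), (1, [0, 1, 2, 1]), (2, [0, 1, 2, 1, 2]), (-1, [0, 2]), (1, [0, 2, 1, 2]), (1, [1, 2, 1]), (1, [1, 2, 1, 2]), (-1, [2])]),
  (none, [(1, []), (1, [0]), (1, [0, 1]), (-1, [0, 1, 2, 1]), (-2, [0, 1, 2, 1, 2]), (1, [0, 2]), (-1, [0, 2, 1, 2]), (-1, [1, 2, 1]), (-1, [1, 2, 1, 2]), (1, [2])]),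
  (none, [(-1, [0]), (-1, [0, 1]), (1, [0, 1, 2, 1]), (2, [0, 1, 2, 1, 2]), (-1, [0, 2]), (1, [0, 2, 1, 2]), (1, [1, 2, 1]), (1, [1, 2, 1, 2]), (-1, [2])]),
  (some [false, true, false, false], [(-1, [0, 1]), (1, [0, 2]), (1, [1, 2]), (1, [2])]),
  (none, [(-1, [0]), (-1, [0, 1]), (1, [0, 1, 2, 1]), (2, [0, 1, 2, 1, 2]), (-1, [0, 2]), (1, [0, 2, 1, 2]), (1, [1, 2, 1]), (1, [1, 2, 1, 2]), (-1, [2])]),
  (some [false, false, true, false], [(-1, [0, 1]), (1, [0, 2]), (1, [1, 2]), (1, [2])]),
  (none, [(1, []), (1, [0]), (1, [0, 1]), (-1, [0, 1, 2, 1]), (-2, [0, 1, 2, 1, 2]), (1, [0, 2]), (-1, [0, 2, 1, 2]), (-1, [1, 2, 1]), (-1, [1, 2, 1, 2]), (1, [2])])]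

/-- Words in the two generators, one for each element of the binary tetrahedral group. -/
def wordsT : List (List Bool) := [
  [],
  [false],
  [true],
  [false, false],
  [false, true],
  [true, false],
  [true, true],
  [false, false, true],
  [false, true, false],
  [false, true, true],
  [true, false, false],
  [true, false, true],
  [true, true, false],
  [false, false, true, false],
  [false, false, true, true],
  [false, true, false, false],
  [false, true, false, true],
  [false, true, true, false],
  [true, false, false, true],
  [true, false, true, true],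
  [true, true, false, false],
  [true, true, false, true],
  [false, false, true, false, true],
  [false, true, false, true, true]]

def nextAT : List ℕ := [1, 3, 5, 0, 8, 10, 12, 13, 15, 17, 2, 16, 20, 18, 21, 4, 22, 19, 7, 9, 6, 23, 11, 14]

def nextBT : List ℕ := [2, 4, 6, 7, 9, 11, 0, 14, 16, 1, 18, 19, 21, 22, 3, 10, 23, 12, 15, 5, 13, 17, 20, 8]

def classT : List (List Bool) := [[true, true], [true, false, true, true], [true, true, false, true]]

def certificatesT : List (ℤ × List (ℤ × List (Fin 4))) := [
  (2, [(1, []), (-1, [0, 1]), (-2, [0, 1, 2]), (-1, [0, 2]), (-1, [1]), (-1, [1, 2])]),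
  (2, [(1, []), (-1, [0, 1]), (-2, [0, 1, 2]), (-1, [0, 2]), (-1, [1]), (-1, [1, 2])]),
  (2, [(1, []), (-1, [0, 1]), (-2, [0, 1, 2]), (-1, [0, 2]), (-1, [1]), (-1, [1, 2])])]

/-- Indices of the elements of order three. -/
def threeIdx : List ℕ := [1, 2, 3, 6, 13, 15, 20, 22, 25, 29, 32, 35, 63, 65, 71, 75, 78, 87, 94, 98]

/-- Icosahedral pairs, each with a conjugator and a twist. -/
def pairTable : List (ℕ × ℕ × ℕ × Bool) := [
  (1, 2, 0, false),
  (1, 6, 0, true),
  (1, 13, 3, false),
  (1, 15, 1, false),
  (1, 25, 3, true),
  (1, 29, 1, true),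
  (2, 1, 27, false),
  (2, 3, 27, true),
  (2, 20, 45, false),
  (2, 22, 16, false),
  (2, 32, 45, true),
  (2, 35, 16, true),
  (3, 2, 99, true),
  (3, 6, 99, false),
  (3, 13, 80, true),
  (3, 15, 82, true),
  (3, 25, 80, false),
  (3, 29, 82, false),
  (6, 1, 76, true),
  (6, 3, 76, false),
  (6, 20, 49, true),
  (6, 22, 38, true),
  (6, 32, 49, false),
  (6, 35, 38, false),
  (13, 1, 19, false),
  (13, 3, 19, true),
  (13, 63, 33, false),
  (13, 65, 11, false),
  (13, 87, 33, true),
  (13, 94, 11, true),
  (15, 1, 39, false),
  (15, 3, 39, true),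
  (15, 71, 57, false),
  (15, 75, 24, false),
  (15, 78, 24, true),
  (15, 98, 57, true),
  (20, 2, 2, false),
  (20, 6, 2, true),
  (20, 65, 5, false),
  (20, 75, 10, true),
  (20, 78, 10, false),
  (20, 94, 5, true),
  (22, 2, 6, false),
  (22, 6, 6, true),
  (22, 63, 12, true),
  (22, 71, 21, false),
  (22, 87, 12, false),
  (22, 98, 21, true),
  (25, 1, 59, true),
  (25, 3, 59, false),
  (25, 63, 37, true),
  (25, 65, 26, true),
  (25, 87, 37, false),
  (25, 94, 26, false),
  (29, 1, 50, true),
  (29, 3, 50, false),
  (29, 71, 31, true),
  (29, 75, 18, true),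
  (29, 78, 18, false),
  (29, 98, 31, false),
  (32, 2, 69, true),
  (32, 6, 69, false),
  (32, 65, 44, true),
  (32, 75, 40, false),
  (32, 78, 40, true),
  (32, 94, 44, false),
  (35, 2, 73, true),
  (35, 6, 73, false),
  (35, 63, 47, false),
  (35, 71, 42, true),
  (35, 87, 47, true),
  (35, 98, 42, false),
  (63, 13, 7, false),
  (63, 22, 23, true),
  (63, 25, 7, true),
  (63, 35, 23, false),
  (63, 75, 13, false),
  (63, 78, 13, true),
  (65, 13, 14, false),
  (65, 20, 41, false),
  (65, 25, 14, true),
  (65, 32, 41, true),
  (65, 71, 25, true),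
  (65, 98, 25, false),
  (71, 15, 4, false),
  (71, 22, 8, false),
  (71, 29, 4, true),
  (71, 35, 8, true),
  (71, 65, 15, true),
  (71, 94, 15, false),
  (75, 15, 9, false),
  (75, 20, 17, true),
  (75, 29, 9, true),
  (75, 32, 17, false),
  (75, 63, 29, false),
  (75, 87, 29, true),
  (78, 15, 58, true),
  (78, 20, 36, false),
  (78, 29, 58, false),
  (78, 32, 36, true),
  (78, 63, 22, true),
  (78, 87, 22, false),
  (87, 13, 52, true),
  (87, 22, 28, false),
  (87, 25, 52, false),
  (87, 35, 28, true),
  (87, 75, 32, true),
  (87, 78, 32, false),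
  (94, 13, 56, true),
  (94, 20, 30, true),
  (94, 25, 56, false),
  (94, 32, 30, false),
  (94, 71, 35, false),
  (94, 98, 35, true),
  (98, 15, 54, true),
  (98, 22, 34, true),
  (98, 29, 54, false),
  (98, 35, 34, false),
  (98, 65, 20, false),
  (98, 94, 20, true)]

def negIdx : ℕ := 118

/-- A word in the first generator and two class members giving the second generator. -/
def bWord : List (Fin 3) := [0, 1, 0, 0, 2, 0]

end CfsgLib.Icosa
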