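import Mathlib
import Cfsg.Agent.Lib.Icosa.Data

/-!
# The four-dimensional model algebra of two elements of order three

For a commutative ring `K` and `X : K`, `Q K` carries the multiplication of the algebra on `1, a, b, a b`
with `a² = -1 - a`, `b² = -1 - b` and `a b + b a + a + b + 1 = X`.
-/

set_option autoImplicit false

namespace CfsgLib.Icosa

/-- The ring `ℤ[φ]` with `φ² = φ + 1`. -/
@[ext] structure Phi where
  p : ℤ
  q : ℤ
  deriving DecidableEq

namespace Phi

instance : Zero Phi := ⟨⟨0, 0⟩⟩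
instance : One Phi := ⟨⟨1, 0⟩⟩
instance : Add Phi := ⟨fun u v => ⟨u.p + v.p, u.q + v.q⟩⟩
instance : Neg Phi := ⟨fun u => ⟨-u.p, -u.q⟩⟩
instance : Sub Phi := ⟨fun u v => ⟨u.p - v.p, u.q - v.q⟩⟩
instance : Mul Phi := ⟨fun u v => ⟨u.p * v.p + u.q * v.q, u.p * v.q + u.q * v.p + u.q * v.q⟩⟩

@[simp] theorem zero_p : (0 : Phi).p = 0 := rfl
@[simp] theorem zero_q : (0 : Phi).q = 0 := rfl
@[simp] theorem one_p : (1 : Phi).p = 1 := rfl
@[simp] theorem one_q : (1 : Phi).q = 0 := rfl
@[simp] theorem add_p (u v : Phi) : (u + v).p = u.p + v.p := rfl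
@[simp] theorem add_q (u v : Phi) : (u + v).q = u.q + v.q := rfl
@[simp] theorem neg_p (u : Phi) : (-u).p = -u.p := rfl
@[simp] theorem neg_q (u : Phi) : (-u).q = -u.q := rfl
@[simp] theorem sub_p (u v : Phi) : (u - v).p = u.p - v.p := rfl
@[simp] theorem sub_q (u v : Phi) : (u - v).q = u.q - v.q := rfl
@[simp] theorem mul_p (u v : Phi) : (u * v).p = u.p * v.p + u.q * v.q := rfl
@[simp] theorem mul_q (u v : Phi) : (u * v).q = u.p * v.q + u.q * v.p + u.q * v.q := rfl

instance : CommRing Phi where
  add_assoc u v w := by ext <;> simp <;> ring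
  zero_add u := by ext <;> simp
  add_zero u := by ext <;> simp
  add_comm u v := by ext <;> simp <;> ring
  neg_add_cancel u := by ext <;> simp
  sub_eq_add_neg u v := by ext <;> simp <;> ring
  mul_assoc u v w := by ext <;> simp <;> ring
  one_mul u := by ext <;> simp
  mul_one u := by ext <;> simp
  mul_comm u v := by ext <;> simp <;> ring
  left_distrib u v w := by ext <;> simp <;> ring
  right_distrib u v w := by ext <;> simp <;> ring
  zero_mul u := by ext <;> simp
  mul_zero u := by ext <;> simp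
  nsmul := nsmulRec
  zsmul := zsmulRec

/-- The generator. -/
def phi : Phi := ⟨0, 1⟩

/-- The norm to `ℤ`. -/
def norm (u : Phi) : ℤ := u.p * u.p + u.p * u.q - u.q * u.q

/-- The Galois conjugate. -/
def bar (u : Phi) : Phi := ⟨u.p + u.q, -u.q⟩

end Phi

/-- Coefficient quadruples. -/
abbrev Q (K : Type*) := K × K × K × K

variable {K : Type*} [CommRing K] (X : K)

/-- A scalar as a quadruple. -/
def scal (k : K) : Q K := (k, 0, 0, 0)

/-- The first generator. -/
def genA : Q K := (0, 1, 0, 0)

/-- The second generator. -/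
def genB : Q K := (0, 0, 1, 0)

/-- Right multiplication by the first generator. -/
def mulA (u : Q K) : Q K :=
  (-u.2.1 + (X - 1) * u.2.2.1 + u.2.2.2, u.1 - u.2.1 - u.2.2.1 + X * u.2.2.2, -u.2.2.1 + u.2.2.2, -u.2.2.1)

/-- Right multiplication by the second generator. -/
def mulB (u : Q K) : Q K :=
  (-u.2.2.1, -u.2.2.2, u.1 - u.2.2.1, u.2.1 - u.2.2.2)

/-- Multiplication by a scalar. -/
def csmul (k : K) (u : Q K) : Q K := (k * u.1, k * u.2.1, k * u.2.2.1, k * u.2.2.2)

/-- Multiplication in the model algebra. -/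
def qmul (u v : Q K) : Q K :=
  csmul v.1 u + csmul v.2.1 (mulA X u) + csmul v.2.2.1 (mulB u) + csmul v.2.2.2 (mulB (mulA X u))

/-- The standard involution. -/
def qconj (u : Q K) : Q K :=
  (u.1 - u.2.1 - u.2.2.1 + X * u.2.2.2, -u.2.1, -u.2.2.1, -u.2.2.2)

/-- Evaluation of a word (`false` is the first generator, `true` the second). -/
def evalW (w : List Bool) : Q K :=
  w.foldl (fun u g => bif g then mulB u else mulA X u) (scal 1)

/-- The scalar `e f + f e + e + f + 1`. -/
def link (e f : Q K) : Q K := qmul X e f + qmul X f e + e + f + scal 1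

section Twisted

/-- A triple `(U, Y, Z)` records a relation `c U = Y c + Z`. -/
abbrev T3 (K : Type*) := Q K × Q K × Q K

/-- The triple of an element `e` of order three whose link with `c` is `x`. -/
def triple (e : Q K) (x : K) : T3 K := (e, -scal 1 - e, scal (x - 1) - e)

/-- Composition of relations. -/
def tmul (s t : T3 K) : T3 K :=
  (qmul X s.1 t.1, qmul X s.2.1 t.2.1, qmul X s.2.1 t.2.2 + qmul X s.2.2 t.1)

/-- Evaluation of a product of triples. -/
def evalT {n : ℕ} (gens : Fin n → T3 K) (w : List (Fin n)) : T3 K :=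
  w.foldl (fun s i => tmul X s (gens i)) (scal 1, scal 1, 0)

/-- An integer combination of products of triples. -/
def combT {n : ℕ} (gens : Fin n → T3 K) (cert : List (ℤ × List (Fin n))) : T3 K :=
  (cert.map fun t =>
    (csmul (t.1 : K) (evalT X gens t.2).1, csmul (t.1 : K) (evalT X gens t.2).2.1,
      csmul (t.1 : K) (evalT X gens t.2).2.2)).sum

end Twisted

end CfsgLib.Icosa
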