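import Mathlib
import Cfsg.Agent.Lib.Icosa.Model

/-!
# Fixed-point-free complex representations and evaluation of the model algebra
-/

set_option autoImplicit false

namespace CfsgLib.Icosa

section FPF

variable {G : Type*} [Group G] {V : Type*} [AddCommGroup V] [Module ℂ V] {ρ : G →* Module.End ℂ V}

/-- Only the identity fixes a nonzero vector. -/
def IsFPF (ρ : G →* Module.End ℂ V) : Prop := ∀ g : G, g ≠ 1 → ∀ v, ρ g v = v → v = 0

variable (h : IsFPF ρ)
include h

theorem IsFPF.cancel {g : G} (hg : g ≠ 1) {y : Module.End ℂ V} (hy : ρ g * y = y) : y = 0 := by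
  ext v
  exact h g hg _ (LinearMap.congr_fun hy v)

theorem IsFPF.injective [Nontrivial V] : Function.Injective ρ := by
  rw [injective_iff_map_eq_one]
  intro g hg
  by_contra hne
  obtain ⟨v, hv⟩ := exists_ne (0 : V)
  exact hv (h g hne v (by rw [hg, Module.End.one_apply]))

/-- The powers of a nontrivial element sum to zero over a period. -/
theorem IsFPF.sum_pow_eq_zero {g : G} (hg : g ≠ 1) {n : ℕ} (hn : g ^ n = 1) :
    ∑ i ∈ Finset.range n, ρ g ^ i = 0 := by
  refine h.cancel hg ?_
  have h1 := mul_geom_sum (ρ g) n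
  rw [← map_pow, hn, map_one, sub_self, sub_mul, one_mul, sub_eq_zero] at h1
  exact h1

theorem IsFPF.three {g : G} (hg : g ≠ 1) (hn : g ^ 3 = 1) : ρ g * ρ g + ρ g + 1 = 0 := by
  have h1 := h.sum_pow_eq_zero hg hn
  simp only [Finset.sum_range_succ, Finset.sum_range_zero, zero_add, pow_zero, pow_one, pow_two] at h1
  rw [← h1]
  abel

theorem IsFPF.inv_three {g : G} (hg : g ≠ 1) (hn : g ^ 3 = 1) : ρ g⁻¹ = -1 - ρ g := by
  have h1 := h.three hg hn
  have h2 : g⁻¹ = g * g := inv_eq_of_mul_eq_one_right (by rw [← hn, pow_three])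
  rw [h2, map_mul, eq_sub_iff_add_eq, eq_neg_iff_add_eq_zero]
  exact h1

/-- An element with square one acts as minus one. -/
theorem IsFPF.sq_one {g : G} (hg : g ≠ 1) (hn : g ^ 2 = 1) : ρ g = -1 := by
  have h1 := h.sum_pow_eq_zero hg hn
  simp only [Finset.sum_range_succ, Finset.sum_range_zero, zero_add, pow_zero, pow_one] at h1
  rw [eq_neg_iff_add_eq_zero, ← h1]
  abel

theorem IsFPF.eq_of_sq_one [Nontrivial V] {g g' : G} (hg : g ≠ 1) (hn : g ^ 2 = 1) (hg' : g' ≠ 1)
    (hn' : g' ^ 2 = 1) : g = g' :=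
  h.injective (by rw [h.sq_one hg hn, h.sq_one hg' hn'])

theorem IsFPF.natCast_ne_zero [Nontrivial V] {n : ℕ} (hn : n ≠ 0) : (n : Module.End ℂ V) ≠ 0 := by
  intro h1
  obtain ⟨v, hv⟩ := exists_ne (0 : V)
  have h2 : (n : ℂ) • v = 0 := by
    have h3 := LinearMap.congr_fun h1 v
    rw [Module.End.natCast_apply, LinearMap.zero_apply] at h3
    rwa [Nat.cast_smul_eq_nsmul]
  exact hv ((smul_eq_zero.1 h2).resolve_left (Nat.cast_ne_zero.2 hn))

theorem IsFPF.intCast_eq_zero [Nontrivial V] {n : ℤ} (hn : (n : Module.End ℂ V) = 0) : n = 0 := by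
  obtain ⟨v, hv⟩ := exists_ne (0 : V)
  have h2 : (n : ℂ) • v = 0 := by
    have h3 := LinearMap.congr_fun hn v
    rw [Module.End.intCast_apply, LinearMap.zero_apply] at h3
    rwa [Int.cast_smul_eq_zsmul]
  exact_mod_cast (smul_eq_zero.1 h2).resolve_right hv

/-- Commuting elements of the same prime order generate the same subgroup. -/
theorem IsFPF.exists_pow_eq [Nontrivial V] {v w : G} {p : ℕ} (hp : p.Prime) (hv : v ≠ 1) (hvp : v ^ p = 1)
    (hwp : w ^ p = 1) (hc : Commute v w) : ∃ i < p, w = v ^ i := by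
  by_contra! hne
  have hz : ∀ i ∈ Finset.range p, ∑ j ∈ Finset.range p, ρ ((v ^ i * w) ^ j) = 0 := by
    intro i hi
    have hi' := Finset.mem_range.1 hi
    simp only [map_pow]
    refine h.sum_pow_eq_zero (fun e => ?_) ?_
    · rw [mul_eq_one_iff_eq_inv'] at e
      have h2 : w = v ^ ((p - i) % p) := by
        rw [e, inv_eq_iff_mul_eq_one, ← pow_eq_pow_mod (p - i) hvp, ← pow_add,
          Nat.add_sub_cancel' hi'.le, hvp]
      exact hne _ (Nat.mod_lt _ hp.pos) h2
    · rw [(hc.pow_left i).mul_pow, hwp, mul_one, ← pow_mul, mul_comm, pow_mul, hvp, one_pow]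
  have h1 : ∑ j ∈ Finset.range p, ∑ i ∈ Finset.range p, ρ ((v ^ i * w) ^ j) = (p : Module.End ℂ V) := by
    rw [← Finset.sum_eq_single (s := Finset.range p) (f := fun j => if j = 0 then (p : Module.End ℂ V) else 0) 0
      (fun j _ hj => if_neg hj) (fun h0 => absurd (Finset.mem_range.2 hp.pos) h0) |>.trans (if_pos rfl)]
    refine Finset.sum_congr rfl fun j hj => ?_
    rcases eq_or_ne j 0 with rfl | hj0
    · simp
    · rw [if_neg hj0]
      have hvj : v ^ j ≠ 1 := fun e => by
        have h2 : orderOf v = p :=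
          (Nat.dvd_prime hp).1 (orderOf_dvd_of_pow_eq_one hvp) |>.resolve_left fun h3 => hv (orderOf_eq_one_iff.1 h3)
        have h3 := Nat.le_of_dvd (Nat.pos_of_ne_zero hj0) (h2 ▸ orderOf_dvd_of_pow_eq_one e)
        exact absurd (Finset.mem_range.1 hj) (by omega)
      calc ∑ i ∈ Finset.range p, ρ ((v ^ i * w) ^ j) = (∑ i ∈ Finset.range p, ρ (v ^ j) ^ i) * ρ (w ^ j) := by
            rw [Finset.sum_mul]
            exact Finset.sum_congr rfl fun i _ => by
              rw [(hc.pow_left i).mul_pow, map_mul, ← pow_mul, mul_comm i j, pow_mul, map_pow]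
        _ = 0 := by rw [h.sum_pow_eq_zero hvj (by rw [← pow_mul, mul_comm, pow_mul, hvp, one_pow]), zero_mul]
  rw [Finset.sum_comm, Finset.sum_eq_zero hz] at h1
  exact h.natCast_ne_zero hp.ne_zero h1.symm

theorem IsFPF.eq_or_eq_inv_of_commute_three [Nontrivial V] {v w : G} (hv : v ≠ 1) (hv3 : v ^ 3 = 1) (hw : w ≠ 1)
    (hw3 : w ^ 3 = 1) (hc : Commute v w) : w = v ∨ w = v⁻¹ := by
  obtain ⟨i, hi, rfl⟩ := h.exists_pow_eq Nat.prime_three hv hv3 hw3 hc
  interval_cases i
  · exact absurd (pow_zero v) hw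
  · exact Or.inl (pow_one v)
  · exact Or.inr (eq_inv_of_mul_eq_one_left (by rw [← pow_succ, hv3]))

end FPF

section Eval

variable {K R : Type*} [CommRing K] [Ring R] (κ : K →+* R) (X : K) (a b : R)

/-- Evaluation of a quadruple at two elements. -/
def ev (u : Q K) : R := κ u.1 + κ u.2.1 * a + κ u.2.2.1 * b + κ u.2.2.2 * (a * b)

/-- Hypotheses under which `ev` is multiplicative. -/
structure IsPair : Prop where
  ha : a * a + a + 1 = 0
  hb : b * b + b + 1 = 0
  hl : a * b + b * a + a + b + 1 = κ X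
  hca : ∀ k, Commute (κ k) a
  hcb : ∀ k, Commute (κ k) b

variable {κ X a b}

@[simp] theorem ev_zero : ev κ a b 0 = 0 := by simp [ev]

theorem ev_add (u v : Q K) : ev κ a b (u + v) = ev κ a b u + ev κ a b v := by
  simp only [ev, Prod.fst_add, Prod.snd_add, map_add, add_mul]
  abel

theorem ev_neg (u : Q K) : ev κ a b (-u) = -ev κ a b u := by
  simp only [ev, Prod.fst_neg, Prod.snd_neg, map_neg, neg_mul, neg_add]

theorem ev_sub (u v : Q K) : ev κ a b (u - v) = ev κ a b u - ev κ a b v := by
  rw [sub_eq_add_neg, ev_add, ev_neg, sub_eq_add_neg]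

theorem ev_csmul (k : K) (u : Q K) : ev κ a b (csmul k u) = κ k * ev κ a b u := by
  simp only [ev, csmul, map_mul, mul_add, mul_assoc]

theorem ev_scal (k : K) : ev κ a b (scal k) = κ k := by simp [ev, scal]

theorem ev_genA : ev κ a b (genA : Q K) = a := by simp [ev, genA]

theorem ev_genB : ev κ a b (genB : Q K) = b := by simp [ev, genB]

variable (H : IsPair κ X a b)
include H

theorem ev_mulA (u : Q K) : ev κ a b (mulA X u) = ev κ a b u * a := by
  have haa : a * a = -1 - a := by rw [eq_sub_iff_add_eq, eq_neg_iff_add_eq_zero]; exact H.ha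
  have hba : b * a = κ X - 1 - a - b - a * b := by rw [← H.hl]; abel
  have haba : a * b * a = 1 + κ X * a + b := by
    rw [mul_assoc, hba, mul_sub, mul_sub, mul_sub, mul_sub, ← (H.hca X).eq, ← mul_assoc a a b, haa]
    noncomm_ring
  simp only [ev, mulA]
  rw [mul_comm (X - 1), mul_comm X u.2.2.2]
  simp only [map_add, map_sub, map_mul, map_neg, map_one, add_mul, mul_assoc (κ _) _ a, haa, hba, haba]
  noncomm_ring

theorem ev_mulB (u : Q K) : ev κ a b (mulB u) = ev κ a b u * b := by
  have hbb : b * b = -1 - b := by rw [eq_sub_iff_add_eq, eq_neg_iff_add_eq_zero]; exact H.hb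
  have habb : a * b * b = -a - a * b := by
    rw [mul_assoc, hbb]
    noncomm_ring
  simp only [ev, mulB, map_sub, map_neg, add_mul, mul_assoc (κ _) _ b, hbb, habb]
  noncomm_ring

theorem commute_ev (k : K) (u : Q K) : Commute (κ k) (ev κ a b u) :=
  ((((Commute.all _ _).map κ).add_right (((Commute.all _ _).map κ).mul_right (H.hca k))).add_right
    (((Commute.all _ _).map κ).mul_right (H.hcb k))).add_right
    (((Commute.all _ _).map κ).mul_right ((H.hca k).mul_right (H.hcb k)))

theorem ev_qmul (u v : Q K) : ev κ a b (qmul X u v) = ev κ a b u * ev κ a b v := by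
  simp only [qmul, ev_add, ev_csmul, ev_mulA H, ev_mulB H]
  conv_rhs => arg 2; rw [ev]
  rw [mul_add, mul_add, mul_add, ← (commute_ev H _ u).eq, ← mul_assoc _ (κ v.2.1), ← (commute_ev H v.2.1 u).eq,
    ← mul_assoc _ (κ v.2.2.1), ← (commute_ev H v.2.2.1 u).eq, ← mul_assoc _ (κ v.2.2.2),
    ← (commute_ev H v.2.2.2 u).eq]
  noncomm_ring

theorem ev_evalW {G : Type*} [Monoid G] (ρ : G →* R) (x y : G) (hx : ρ x = a) (hy : ρ y = b) (w : List Bool) :
    ev κ a b (evalW X w) = ρ (w.foldl (fun g t => g * bif t then y else x) 1) := by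
  induction w using List.reverseRecOn with
  | nil => simp [evalW, ev_scal]
  | append_singleton w t ih =>
    simp only [evalW, List.foldl_append, List.foldl_cons, List.foldl_nil, map_mul] at ih ⊢
    cases t
    · simp only [cond_false, ev_mulA H, ih, hx]
    · simp only [cond_true, ev_mulB H, ih, hy]

/-- A relation triple holds for `c`. -/
def Holds (κ : K →+* R) (a b c : R) (t : T3 K) : Prop :=
  c * ev κ a b t.1 = ev κ a b t.2.1 * c + ev κ a b t.2.2

omit H in
theorem holds_triple {c : R} (e : Q K) (x : K)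
    (hx : c * ev κ a b e + ev κ a b e * c + ev κ a b e + c + 1 = κ x) :
    Holds κ a b c (triple e x) := by
  simp only [Holds, triple, ev_sub, ev_neg, ev_scal, map_sub, map_one, ← hx]
  noncomm_ring

theorem holds_tmul {c : R} {s t : T3 K} (hs : Holds κ a b c s) (ht : Holds κ a b c t) :
    Holds κ a b c (tmul X s t) := by
  simp only [Holds, tmul, ev_add, ev_qmul H] at hs ht ⊢
  rw [← mul_assoc, hs, add_mul, mul_assoc, ht]
  noncomm_ring

theorem holds_evalT {c : R} {n : ℕ} (gens : Fin n → T3 K) (hg : ∀ i, Holds κ a b c (gens i)) (w : List (Fin n)) :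
    Holds κ a b c (evalT X gens w) := by
  induction w using List.reverseRecOn with
  | nil => simp [Holds, evalT, ev_scal]
  | append_singleton w i ih =>
    simp only [evalT, List.foldl_append, List.foldl_cons, List.foldl_nil]
    exact holds_tmul H ih (hg i)

theorem holds_combT {c : R} {n : ℕ} (gens : Fin n → T3 K) (hg : ∀ i, Holds κ a b c (gens i))
    (cert : List (ℤ × List (Fin n))) : Holds κ a b c (combT X gens cert) := by
  induction cert with
  | nil => simp [Holds, combT]
  | cons t l ih =>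
    have h1 := holds_evalT H gens hg t.2
    simp only [Holds, combT, List.map_cons, List.sum_cons, Prod.fst_add, Prod.snd_add, ev_add, ev_csmul] at ih h1 ⊢
    rw [mul_add, ih, ← mul_assoc, map_intCast, ← Int.cast_comm, mul_assoc, h1]
    noncomm_ring

end Eval

section PhiHom

variable {R : Type*} [Ring R] (x : R) (hx : x * x = x + 1)

/-- The homomorphism `ℤ[φ] → R` at a root of `X² - X - 1`. -/
def phiHom : Phi →+* R where
  toFun u := u.p • (1 : R) + u.q • x
  map_one' := by simp
  map_zero' := by simp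
  map_add' u v := by simp only [Phi.add_p, Phi.add_q, add_smul]; abel
  map_mul' u v := by
    simp only [Phi.mul_p, Phi.mul_q, mul_add, add_mul, smul_mul_assoc, mul_smul_comm, one_mul, mul_one, hx,
      smul_add, smul_smul, add_smul]
    rw [mul_comm v.p u.p, mul_comm v.p u.q, mul_comm v.q u.p, mul_comm v.q u.q]
    abel

theorem phiHom_phi : phiHom x hx Phi.phi = x := by
  show (0 : ℤ) • (1 : R) + (1 : ℤ) • x = x
  simp

theorem phiHom_commute {a : R} (ha : Commute x a) (u : Phi) : Commute (phiHom x hx u) a :=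
  ((Commute.one_left a).smul_left u.p).add_left (ha.smul_left u.q)

theorem norm_eq_zero_of_phiHom {u : Phi} (hu : phiHom x hx u = 0) : (Phi.norm u : R) = 0 := by
  have h1 : phiHom x hx (u * Phi.bar u) = 0 := by rw [map_mul, hu, zero_mul]
  have h2 : u * Phi.bar u = ((Phi.norm u : ℤ) : Phi) := by
    have h3 : ∀ n : ℤ, (n : Phi) = ⟨n, 0⟩ := by
      intro n
      induction n using Int.induction_on with
      | zero => simp; rfl
      | succ i ih => rw [Int.cast_add, ih, Int.cast_one]; ext <;> simp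
      | pred i ih => rw [Int.cast_sub, ih, Int.cast_one]; ext <;> simp
    rw [h3]
    ext <;> simp [Phi.bar, Phi.norm] <;> ring
  rwa [h2, map_intCast] at h1

end PhiHom

end CfsgLib.Icosa
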