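import Mathlib
import Cfsg.Agent.Lib.Icosa.Rep
import Cfsg.Agent.Lib.FGS.FPFCharChange

/-!
# Fixed-point-free complex representations from the group algebra criterion
-/

set_option autoImplicit false

universe u

namespace CfsgLib.Icosa

open CfsgLib.FGS MonoidAlgebra
open scoped TensorProduct

variable {A : Type u} [Group A] [Finite A]

/-- Every element of `ℚ[A]` has a multiple with integer coefficients. -/
theorem exists_int_multiple (z : MonoidAlgebra ℚ A) :
    ∃ N : ℕ, N ≠ 0 ∧ ∃ x : MonoidAlgebra ℤ A, mapRingHom A (Int.castRingHom ℚ) x = N • z := by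
  induction z using MonoidAlgebra.induction_on with
  | of g => exact ⟨1, one_ne_zero, of ℤ A g, by simp⟩
  | add u v hu hv =>
    obtain ⟨N, hN, x, hx⟩ := hu
    obtain ⟨M, hM, y, hy⟩ := hv
    refine ⟨N * M, Nat.mul_ne_zero hN hM, M • x + N • y, ?_⟩
    rw [map_add, map_nsmul, map_nsmul, hx, hy, smul_add, mul_smul, mul_smul, smul_comm M N u]
  | smul q u hu =>
    obtain ⟨N, hN, x, hx⟩ := hu
    refine ⟨q.den * N, Nat.mul_ne_zero q.den_pos.ne' hN, q.num • x, ?_⟩
    rw [map_zsmul, hx, mul_smul, ← Int.cast_smul_eq_zsmul ℚ, ← Rat.den_mul_eq_num, smul_comm N q u,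
      ← Nat.cast_smul_eq_nsmul ℚ q.den (q • (N • u)), smul_smul]

theorem exists_int_multiple_idl {z : MonoidAlgebra ℚ A} (hz : z ∈ CharChange.idl ℚ A) :
    ∃ N : ℕ, N ≠ 0 ∧ ∃ x ∈ CharChange.idl ℤ A, mapRingHom A (Int.castRingHom ℚ) x = N • z := by
  induction hz using Submodule.span_induction with
  | mem z hz =>
    obtain ⟨c, b, hc, rfl⟩ := hz
    exact ⟨1, one_ne_zero, CharChange.sC ℤ A c * single b 1, CharChange.mul_mem_right (CharChange.sC_mem c hc) _, by
      rw [map_mul, CharChange.map_sC, one_smul]; congr 1; simp⟩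
  | zero => exact ⟨1, one_ne_zero, 0, Submodule.zero_mem _, by simp⟩
  | add a b _ _ ha hb =>
    obtain ⟨N, hN, x, hx, hxe⟩ := ha
    obtain ⟨M, hM, y, hy, hye⟩ := hb
    refine ⟨N * M, Nat.mul_ne_zero hN hM, M • x + N • y,
      Submodule.add_mem _ (Submodule.smul_of_tower_mem _ M hx) (Submodule.smul_of_tower_mem _ N hy), ?_⟩
    rw [map_add, map_nsmul, map_nsmul, hxe, hye, smul_add, mul_smul, mul_smul, smul_comm M N a]
  | smul a z _ hz =>
    obtain ⟨N, hN, x, hx, hxe⟩ := hz
    obtain ⟨M, hM, a', ha'⟩ := exists_int_multiple a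
    refine ⟨M * N, Nat.mul_ne_zero hM hN, a' * x, Ideal.mul_mem_left _ _ hx, ?_⟩
    rw [map_mul, hxe, ha', smul_eq_mul, smul_mul_assoc, mul_smul_comm, smul_smul]

theorem one_notMem_rat {r : ℕ} [Fact r.Prime] (hrA : ¬ r ∣ Nat.card A)
    (h1 : (1 : MonoidAlgebra (ZMod r) A) ∉ CharChange.idl (ZMod r) A) :
    (1 : MonoidAlgebra ℚ A) ∉ CharChange.idl ℚ A := by
  intro h
  obtain ⟨N, hN, x, hx, hxe⟩ := exists_int_multiple_idl h
  have hinj : Function.Injective (mapRingHom A (Int.castRingHom ℚ)) := by
    intro u v huv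
    ext g
    have h2 := congrArg (fun w => w.coeff g) huv
    simpa using h2
  have hx' : x = (N : ℤ) • (1 : MonoidAlgebra ℤ A) := hinj (by
    rw [hxe, map_zsmul, map_one, natCast_zsmul])
  exact hN (by exact_mod_cast CharChange.int_notMem hrA h1 (hx' ▸ hx))

/-- A fixed-point-free representation over any field of characteristic zero. -/
theorem exists_field_rep (K : Type) [Field K] [Algebra ℚ K] {r : ℕ} [Fact r.Prime] (hrA : ¬ r ∣ Nat.card A)
    (h1 : (1 : MonoidAlgebra (ZMod r) A) ∉ CharChange.idl (ZMod r) A) :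
    ∃ (V : Type u) (_ : AddCommGroup V) (_ : Module K V) (_ : FiniteDimensional K V) (_ : Nontrivial V)
      (ρ : A →* Module.End K V), ∀ a : A, a ≠ 1 → ∀ v : V, ρ a v = v → v = 0 := by
  have h0 := one_notMem_rat hrA h1
  let L := MonoidAlgebra ℚ A ⧸ CharChange.idl ℚ A
  have hL : Nontrivial L := Submodule.Quotient.nontrivial_iff.2 fun e => h0 (e ▸ Submodule.mem_top)
  have : Module.Finite ℚ (MonoidAlgebra ℚ A) := Module.Finite.of_surjective
    ({ toFun := fun f => MonoidAlgebra.ofCoeff (Finsupp.equivFunOnFinite.symm f)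
       map_add' := fun f g => by ext a; simp
       map_smul' := fun n f => by ext a; rfl } : (A → ℚ) →ₗ[ℚ] MonoidAlgebra ℚ A)
    fun z => ⟨fun a => z.coeff a, by ext a; simp⟩
  have : Module.Finite ℚ L := Module.Finite.of_surjective ((CharChange.idl ℚ A).mkQ.restrictScalars ℚ)
    (Submodule.Quotient.mk_surjective _)
  let σ : A →* Module.End ℚ L :=
    { toFun := fun a =>
        { toFun := fun q => single a (1 : ℚ) • q
          map_add' := fun q q' => smul_add _ q q'
          map_smul' := fun t q => smul_comm (single a (1 : ℚ)) t q }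
      map_one' := LinearMap.ext fun q => by
        show single (1 : A) (1 : ℚ) • q = q
        rw [← one_def, one_smul]
      map_mul' := fun a b => LinearMap.ext fun q => by
        show single (a * b) (1 : ℚ) • q = single a (1 : ℚ) • single b (1 : ℚ) • q
        rw [smul_smul, single_mul_single, mul_one] }
  have hfix : ∀ a : A, a ≠ 1 → ∀ q, σ a q = q → q = 0 := by
    intro a ha q hq
    obtain ⟨p, hp, hpd⟩ := Nat.exists_prime_and_dvd (fun h => ha (orderOf_eq_one_iff.1 h))
    set c := a ^ (orderOf a / p)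
    have hco : orderOf c = p := orderOf_pow_orderOf_div (orderOf_pos a).ne' hpd
    have hpow : ∀ i : ℕ, σ (a ^ i) q = q := by
      intro i
      induction i with
      | zero => rw [pow_zero, map_one, Module.End.one_apply]
      | succ i ih => rw [pow_succ, map_mul, Module.End.mul_apply, hq, ih]
    obtain ⟨w, rfl⟩ := Submodule.Quotient.mk_surjective _ q
    have hsum : CharChange.sC ℚ A c • (Submodule.Quotient.mk w : L) =
        (orderOf c : ℚ) • (Submodule.Quotient.mk w : L) := by
      rw [CharChange.sC, Finset.sum_smul, Finset.sum_congr rfl (fun i _ =>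
        show single (c ^ i) (1 : ℚ) • (Submodule.Quotient.mk w : L) = Submodule.Quotient.mk w by
          rw [show c ^ i = a ^ (orderOf a / p * i) by rw [pow_mul]]; exact hpow _),
        Finset.sum_const, Finset.card_range, Nat.cast_smul_eq_nsmul]
    rw [← Submodule.Quotient.mk_smul, smul_eq_mul, (Submodule.Quotient.mk_eq_zero _).2
      (CharChange.mul_mem_right (CharChange.sC_mem c (hco ▸ hp)) w)] at hsum
    exact (smul_eq_zero.1 hsum.symm).resolve_left (Nat.cast_ne_zero.2 (orderOf_pos c).ne')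
  have : Nontrivial (K ⊗[ℚ] L) := Module.nontrivial_of_finrank_pos (R := K) (by
    rw [Module.finrank_baseChange]
    exact Module.finrank_pos)
  refine ⟨K ⊗[ℚ] L, inferInstance, inferInstance, inferInstance, this,
    ((Module.End.baseChangeHom ℚ K L : Module.End ℚ L →* Module.End K (K ⊗[ℚ] L))).comp σ, fun a ha v hv => ?_⟩
  have hu : IsUnit (σ a - 1) := (Module.End.isUnit_iff _).2 (by
    have hinj : Function.Injective (σ a - 1 : Module.End ℚ L) := by
      refine (injective_iff_map_eq_zero _).2 fun q hq => hfix a ha q ?_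
      rwa [LinearMap.sub_apply, Module.End.one_apply, sub_eq_zero] at hq
    exact ⟨hinj, LinearMap.surjective_of_injective hinj⟩)
  have hb := ((Module.End.isUnit_iff _).1 (hu.map (Module.End.baseChangeHom ℚ K L))).1
  apply hb
  rw [map_sub, map_one, map_zero, LinearMap.sub_apply, Module.End.one_apply, sub_eq_zero]
  exact hv

/-- A fixed-point-free complex representation. -/
theorem exists_complex_rep {r : ℕ} [Fact r.Prime] (hrA : ¬ r ∣ Nat.card A)
    (h1 : (1 : MonoidAlgebra (ZMod r) A) ∉ CharChange.idl (ZMod r) A) :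
    ∃ (V : Type u) (_ : AddCommGroup V) (_ : Module ℂ V) (_ : FiniteDimensional ℂ V) (_ : Nontrivial V)
      (ρ : A →* Module.End ℂ V), IsFPF ρ :=
  exists_field_rep ℂ hrA h1

end CfsgLib.Icosa
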