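import Mathlib
import Cfsg.Agent.Lib.Icosa.Rep
import Cfsg.Agent.Lib.Solvable.UniqueSubgroup
import Cfsg.Agent.Lib.Transfer.Frobenius
import Cfsg.Agent.Lib.Invol.Quaternion
import Cfsg.Agent.Lib.InvolChar.A8Normalizer

/-!
# Sylow subgroups and solvability criteria for fixed-point-free groups
-/

set_option autoImplicit false
set_option linter.unusedSectionVars false

namespace CfsgLib.Icosa

open Subgroup

section Cyclic

variable {G : Type*} [Group G] [Finite G]

/-- An odd-order element normalizing a cyclic `2`-subgroup centralizes it. -/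
theorem commute_of_odd_normalize {x g : G} {n : ℕ} (hx : orderOf x = 2 ^ n) (hg : (orderOf g).Coprime 2)
    (hgx : g * x * g⁻¹ ∈ zpowers x) : Commute g x := by
  classical
  have hmap : (zpowers x).map (MulAut.conj g).toMonoidHom = zpowers x := by
    refine eq_of_le_of_card_ge ?_ ?_
    · rw [MonoidHom.map_zpowers]
      exact zpowers_le.2 (by simpa using hgx)
    · rw [Subgroup.card_map_of_injective (MulAut.conj g).injective]
  have hgn : g ∈ normalizer ((zpowers x : Subgroup G) : Set G) := by
    refine mem_normalizer_iff.2 fun y => ?_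
    conv_rhs => rw [← hmap]
    rw [mem_map_equiv, MulAut.conj_symm_apply]
    constructor <;> intro h <;> simpa [mul_assoc] using h
  let φ := MulAut.conjNormal (H := (zpowers x).subgroupOf (normalizer ((zpowers x : Subgroup G) : Set G)))
  set a := φ ⟨g, hgn⟩ with ha
  have h1 : orderOf a ∣ orderOf g := by
    refine (orderOf_map_dvd φ _).trans ?_
    rw [← Subgroup.orderOf_coe]
  have hcyc : IsCyclic ((zpowers x).subgroupOf (normalizer ((zpowers x : Subgroup G) : Set G))) :=
    (subgroupOfEquivOfLe le_normalizer).isCyclic.2 inferInstance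
  have h2 : orderOf a ∣ 2 ^ (n - 1) := by
    refine (orderOf_dvd_natCard a).trans ?_
    rw [hcyc.card_mulAut, Nat.card_congr (subgroupOfEquivOfLe le_normalizer).toEquiv, Nat.card_zpowers, hx]
    rcases Nat.eq_zero_or_pos n with rfl | hn
    · simp
    · rw [Nat.totient_prime_pow Nat.prime_two hn]
      simp
  have h3 : a = 1 := orderOf_eq_one_iff.1 (Nat.dvd_one.1
    (((hg.coprime_dvd_left h1).pow_right (n - 1)) ▸ Nat.dvd_gcd dvd_rfl h2))
  have h4 := congrArg (fun f : MulAut _ =>
    (((f ⟨⟨x, le_normalizer (mem_zpowers x)⟩, mem_zpowers x⟩ : (zpowers x).subgroupOf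
      (normalizer ((zpowers x : Subgroup G) : Set G))) : normalizer ((zpowers x : Subgroup G) : Set G)) : G)) h3
  simp only [ha, φ] at h4
  rw [MulAut.conjNormal_apply] at h4
  simp only [Subgroup.coe_mul, Subgroup.coe_inv, MulAut.one_apply] at h4
  exact mul_inv_eq_iff_eq_mul.1 h4

/-- A permutation of at most three cyclic subgroups induced by an element of order prime to six is trivial. -/
theorem fix_of_coprime_six {α : Type*} [Finite α] (hα : Nat.card α ≤ 3) (σ : Equiv.Perm α) {m : ℕ}
    (hm : m.Coprime 6) (hσ : σ ^ m = 1) : σ = 1 := by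
  have h1 : orderOf σ ∣ 6 := by
    refine (orderOf_dvd_natCard σ).trans ?_
    rw [Nat.card_perm]
    exact Nat.factorial_dvd_factorial hα
  exact orderOf_eq_one_iff.1 (Nat.dvd_one.1 (hm ▸ Nat.dvd_gcd (orderOf_dvd_of_pow_eq_one hσ) h1))

end Cyclic

variable {G : Type*} [Group G] [Finite G] {V : Type*} [AddCommGroup V] [Module ℂ V] [Nontrivial V]
  {ρ : G →* Module.End ℂ V}

/-- Restriction of a fixed-point-free representation. -/
theorem IsFPF.restrict (h : IsFPF ρ) (H : Subgroup G) : IsFPF (ρ.comp H.subtype) :=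
  fun g hg => h g fun e => hg (Subtype.ext e)

/-- In a `p`-subgroup of a fixed-point-free group all elements of order `p` generate the same subgroup. -/
theorem IsFPF.unique_order_p (h : IsFPF ρ) {p : ℕ} [hp : Fact p.Prime] {P : Subgroup G} (hP : IsPGroup p P)
    {x y : P} (hx : orderOf x = p) (hy : orderOf y = p) : x ∈ zpowers y := by
  have : Nontrivial P := ⟨⟨x, 1, fun e => hp.out.ne_one (by rw [← hx, e, orderOf_one])⟩⟩
  have := hP.center_nontrivial
  obtain ⟨k, hk⟩ := IsPGroup.iff_card.1 (hP.to_subgroup (center P))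
  have hk0 : k ≠ 0 := by
    rintro rfl
    rw [pow_zero] at hk
    exact absurd (Finite.one_lt_card (α := center P)) (by omega)
  obtain ⟨z, hz⟩ := exists_prime_orderOf_dvd_card' (G := center P) p (hk ▸ dvd_pow_self p hk0)
  have hzo : orderOf ((z : P) : G) = p := by rw [orderOf_coe, orderOf_coe, hz]
  have key : ∀ w : P, orderOf w = p → w ∈ zpowers (z : P) := by
    intro w hw
    obtain ⟨i, -, hi⟩ := h.exists_pow_eq hp.out
      (v := ((z : P) : G)) (w := (w : G)) (fun e => hp.out.ne_one (by rw [← hzo, e, orderOf_one]))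
      (by rw [← hzo]; exact pow_orderOf_eq_one _) (by rw [← hw, ← orderOf_coe w]; exact pow_orderOf_eq_one _)
      (congrArg Subtype.val (mem_center_iff.1 z.2 w)).symm
    exact ⟨i, Subtype.ext (by simpa using hi.symm)⟩
  have h1 : zpowers y = zpowers (z : P) :=
    eq_of_le_of_card_ge (zpowers_le.2 (key y hy)) (by
      rw [Nat.card_zpowers, Nat.card_zpowers, hy, orderOf_coe, hz])
  rw [h1]
  exact key x hx

theorem IsFPF.cyclic_or_quaternion (h : IsFPF ρ) {p : ℕ} [Fact p.Prime] {P : Subgroup G} (hP : IsPGroup p P) :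
    IsCyclic P ∨ (p = 2 ∧ ∃ n : ℕ, Nonempty (P ≃* QuaternionGroup (2 ^ n))) :=
  CfsgLib.Solvable.isCyclic_or_quaternion hP fun _ _ hx hy => h.unique_order_p hP hx hy

theorem IsFPF.isCyclic_of_odd (h : IsFPF ρ) {p : ℕ} [Fact p.Prime] (hp2 : p ≠ 2) {P : Subgroup G}
    (hP : IsPGroup p P) : IsCyclic P :=
  (h.cyclic_or_quaternion hP).resolve_right fun e => hp2 e.1

/-- Without elements of order three, odd-order elements centralize the `2`-subgroups they normalize. -/
theorem IsFPF.frobeniusCond_two (h : IsFPF ρ) (h3 : ¬ 3 ∣ Nat.card G) : CfsgLib.Transfer.FrobeniusCond 2 G := by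
  intro Q hQ g hg hgo
  have hg6 : (orderOf g).Coprime 6 := by
    rw [show (6 : ℕ) = 2 * 3 from rfl]
    exact hgo.mul_right ((Nat.prime_three.coprime_iff_not_dvd.2 fun hd =>
      h3 (hd.trans (orderOf_dvd_natCard g))).symm)
  have hn : ∀ {q}, q ∈ Q → g * q * g⁻¹ ∈ Q := fun hq => (mem_normalizer_iff.1 hg _).1 hq
  have hcomm : ∀ x, x ∈ Q → g * x * g⁻¹ ∈ zpowers x → Commute g x := fun x hx hgx => by
    obtain ⟨n, hn⟩ := IsPGroup.iff_orderOf.1 hQ ⟨x, hx⟩
    exact commute_of_odd_normalize (n := n) (by rw [← hn, ← orderOf_coe (⟨x, hx⟩ : Q)]) hgo hgx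
  have hcyc : IsCyclic Q → g ∈ centralizer (Q : Set G) := by
    intro hc
    obtain ⟨x₀, hgen⟩ := hc.exists_generator
    have hQx : ∀ q ∈ Q, q ∈ zpowers (x₀ : G) := fun q hq => by
      obtain ⟨i, hi⟩ := hgen ⟨q, hq⟩
      exact ⟨i, by simpa using congrArg Subtype.val hi⟩
    have hgx := hcomm _ x₀.2 (hQx _ (hn x₀.2))
    intro q hq
    obtain ⟨i, rfl⟩ := hQx q hq
    exact (hgx.zpow_right i).eq.symm
  rcases h.cyclic_or_quaternion hQ with hc | ⟨-, n, ⟨e⟩⟩
  · exact hcyc hc
  rcases n with _ | n
  · refine hcyc (e.isCyclic.2 ?_)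
    rw [pow_zero]
    exact isCyclic_of_orderOf_eq_card (QuaternionGroup.xa 0) (by
      rw [QuaternionGroup.orderOf_xa, Nat.card_eq_fintype_card, QuaternionGroup.card]; rfl)
  obtain ⟨x, y, hx, hy, hox, hoy, hyx, hyy, hS⟩ := CfsgLib.Invol.quaternion_gens Q n e
  have hyx' : ∀ i : ℕ, (y * x ^ i) * (y * x ^ i) = y * y := fun i => by
    have hyi : y * x ^ i * y⁻¹ = x⁻¹ ^ i := by rw [← hyx, conj_pow]
    calc (y * x ^ i) * (y * x ^ i) = (y * x ^ i * y⁻¹) * (y * y) * x ^ i := by group
      _ = y * y := by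
        rw [hyi, hyy, inv_pow, mul_assoc, (Commute.pow_pow_self x _ i).eq, inv_mul_cancel_left]
  have hgx : g * x * g⁻¹ ∈ zpowers x := by
    obtain ⟨i, hi | hi⟩ := hS _ (hn hx)
    · exact ⟨i, by simpa using hi.symm⟩
    -- an image outside `⟨x⟩` forces `x` to have order four
    have h4 : orderOf x = 4 := by
      have hoc : orderOf (g * x * g⁻¹) = orderOf x := orderOf_injective (MulAut.conj g).toMonoidHom
        (MulAut.conj g).injective x
      have h5 : orderOf (y * x ^ i) ∣ 4 := orderOf_dvd_of_pow_eq_one (by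
        rw [show (4 : ℕ) = 2 * 2 from rfl, pow_mul, pow_two (y * x ^ i), hyx', ← pow_two y, ← pow_mul,
          show 2 * 2 = orderOf y from hoy.symm]
        exact pow_orderOf_eq_one y)
      rw [← hi, hoc, hox] at h5
      have h6 := Nat.le_of_dvd (by norm_num) h5
      have h7 : 2 ^ 2 ≤ 2 ^ (n + 2) := Nat.pow_le_pow_right (by norm_num) (by omega)
      rw [hox]
      norm_num at h7
      omega
    set S : Set (Subgroup G) := {zpowers x, zpowers y, zpowers (y * x)} with hSdef
    have hn0 : n = 0 := by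
      have h7 : 2 ^ (n + 2) = 2 ^ 2 := by rw [← hox, h4]; norm_num
      have := Nat.pow_right_injective le_rfl h7
      omega
    subst hn0
    have hmem : ∀ s ∈ Q, orderOf s = 4 → zpowers s ∈ S := by
      intro s hs ho
      obtain ⟨j, hj⟩ := hS s hs
      have hmod : x ^ j = x ^ (j % 4) := by rw [← h4, pow_mod_orderOf]
      rw [hmod] at hj
      have hlt := Nat.mod_lt j (show 4 > 0 by norm_num)
      have hinv : ∀ z : G, orderOf z = 4 → ∀ w, w = z⁻¹ → zpowers w = zpowers z := fun z _ w hw => by
        rw [hw, zpowers_inv]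
      have hyy2 : y * y = x ^ 2 := hyy
      have hy3 : y⁻¹ = y * x ^ 2 := inv_eq_of_mul_eq_one_right (by
        rw [← mul_assoc, hyy2, ← pow_add, show 2 + 2 = orderOf x from h4.symm]; exact pow_orderOf_eq_one x)
      have hyx3 : (y * x)⁻¹ = y * x ^ 3 := inv_eq_of_mul_eq_one_right (by
        have h1 := hyx' 1
        rw [pow_one] at h1
        rw [show y * x * (y * x ^ 3) = y * x * (y * x) * x ^ 2 by
          rw [show x ^ 3 = x * x ^ 2 from pow_succ' x 2]; simp only [mul_assoc], h1, hyy2, ← pow_add, show 2 + 2 = orderOf x from h4.symm]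
        exact pow_orderOf_eq_one x)
      interval_cases hjm : j % 4
      all_goals rcases hj with rfl | rfl
      · simp at ho
      · exact Or.inr (Or.inl (by simp))
      · exact Or.inl (by simp)
      · exact Or.inr (Or.inr (by simp))
      · exfalso
        have h8 : (x ^ 2) ^ 2 = 1 := by rw [← pow_mul, show 2 * 2 = orderOf x from h4.symm, pow_orderOf_eq_one]
        have := orderOf_dvd_of_pow_eq_one h8
        rw [ho] at this
        norm_num at this
      · exact Or.inr (Or.inl (by rw [← hy3, zpowers_inv]))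
      · refine Or.inl ?_
        rw [show x ^ 3 = x⁻¹ from eq_inv_of_mul_eq_one_left (by rw [← pow_succ, show 3 + 1 = orderOf x from h4.symm, pow_orderOf_eq_one]),
          zpowers_inv]
      · exact Or.inr (Or.inr (by rw [← hyx3, zpowers_inv, pow_one y |>.symm]; simp))
    let T := {K : Subgroup G // ∃ s ∈ Q, orderOf s = 4 ∧ K = zpowers s}
    have hT : Nat.card T ≤ 3 := by
      have hsub : {K : Subgroup G | ∃ s ∈ Q, orderOf s = 4 ∧ K = zpowers s} ⊆ S := by
        rintro K ⟨s, hs, ho, rfl⟩
        exact hmem s hs ho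
      have h1 : S.ncard ≤ 3 := (Set.ncard_insert_le _ _).trans (by
        have := Set.ncard_insert_le (zpowers y) ({zpowers (y * x)} : Set (Subgroup G))
        rw [Set.ncard_singleton] at this
        omega)
      exact (Nat.card_coe_set_eq _).trans_le ((Set.ncard_le_ncard hsub (Set.toFinite _)).trans h1)
    have hcl : ∀ h, h ∈ normalizer (Q : Set G) → ∀ K : T, ∃ s ∈ Q, orderOf s = 4 ∧
        (K.1.map (MulAut.conj h).toMonoidHom) = zpowers s := fun h hh K => by
      obtain ⟨s, hs, ho, hK⟩ := K.2
      exact ⟨h * s * h⁻¹, (mem_normalizer_iff.1 hh _).1 hs,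
        by rw [← ho]; exact orderOf_injective (MulAut.conj h).toMonoidHom (MulAut.conj h).injective s,
        by rw [hK, MonoidHom.map_zpowers]; rfl⟩
    let act : normalizer (Q : Set G) →* Equiv.Perm T := MonoidHom.toHomPerm
      { toFun := fun h K => ⟨K.1.map (MulAut.conj (h : G)).toMonoidHom, hcl h h.2 K⟩
        map_one' := funext fun K => Subtype.ext (by
          simp only [OneMemClass.coe_one, map_one]
          exact Subgroup.map_id _)
        map_mul' := fun a b => funext fun K => Subtype.ext (by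
          show K.1.map _ = (K.1.map _).map _
          rw [Subgroup.map_map]
          congr 1
          ext z
          simp [mul_assoc]) }
    have hfix := fix_of_coprime_six hT (act ⟨g, hg⟩) hg6 (by
      rw [← map_pow, show (⟨g, hg⟩ : normalizer (Q : Set G)) ^ orderOf g = 1 from
        Subtype.ext (pow_orderOf_eq_one g), map_one])
    have hx' := congrArg (fun σ : Equiv.Perm T => (σ ⟨zpowers x, x, hx, h4, rfl⟩).1) hfix
    have h9 : g * x * g⁻¹ ∈ (zpowers x).map (MulAut.conj g).toMonoidHom := ⟨x, mem_zpowers x, rfl⟩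
    rw [show (zpowers x).map (MulAut.conj g).toMonoidHom = zpowers x from hx'] at h9
    exact h9
  have hgc := hcomm x hx hgx
  have hgy : Commute g y := by
    obtain ⟨i, hi | hi⟩ := hS _ (hn hy)
    · exfalso
      have h1 : y = x ^ i := by
        have h2 : g * y * g⁻¹ = g * x ^ i * g⁻¹ := by
          rw [hi, (hgc.pow_right i).eq, mul_inv_cancel_right]
        exact mul_left_cancel (mul_right_cancel h2)
      have h3 : y * x * y⁻¹ = x := by rw [h1, ((Commute.refl x).pow_left i).eq, mul_inv_cancel_right]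
      rw [hyx, inv_eq_iff_mul_eq_one, ← pow_two] at h3
      have := Nat.le_of_dvd (by norm_num) (orderOf_dvd_of_pow_eq_one h3)
      have h7 : 2 ^ 2 ≤ 2 ^ (n + 2) := Nat.pow_le_pow_right (by norm_num) (by omega)
      norm_num at h7
      omega
    · have hit : ∀ m : ℕ, g ^ m * y * (g ^ m)⁻¹ = y * x ^ (i * m) := by
        intro m
        induction m with
        | zero => simp
        | succ m ih =>
          calc g ^ (m + 1) * y * (g ^ (m + 1))⁻¹ = g * (g ^ m * y * (g ^ m)⁻¹) * g⁻¹ := by
                rw [pow_succ']; group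
            _ = (g * y * g⁻¹) * (g * x ^ (i * m) * g⁻¹) := by rw [ih]; group
            _ = y * x ^ (i * (m + 1)) := by
              rw [hi, (hgc.pow_right _).eq, mul_inv_cancel_right, mul_assoc, ← pow_add]
              congr 2
              ring
      have h1 := hit (orderOf g)
      rw [pow_orderOf_eq_one, inv_one, mul_one, one_mul, left_eq_mul] at h1
      have h2 : x ^ i = 1 := by
        rw [← orderOf_dvd_iff_pow_eq_one, hox]
        have h3 := orderOf_dvd_of_pow_eq_one h1
        rw [hox] at h3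
        exact ((Nat.coprime_comm.1 hgo).pow_left (n + 2)).dvd_of_dvd_mul_right h3
      rw [h2, mul_one] at hi
      exact mul_inv_eq_iff_eq_mul.1 hi
  intro q hq
  obtain ⟨i, rfl | rfl⟩ := hS q hq
  · exact (hgc.pow_right i).eq.symm
  · exact (hgy.mul_right (hgc.pow_right i)).eq.symm

/-- A fixed-point-free group of order prime to three is solvable. -/
theorem IsFPF.isSolvable_of_three_not_dvd (h : IsFPF ρ) (h3 : ¬ 3 ∣ Nat.card G) : Group.IsSolvable G := by
  obtain ⟨P, N, hN, hc⟩ := CfsgLib.Transfer.hasNormalPComplement_of_frobeniusCond (h.frobeniusCond_two h3)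
  have hP2 : ¬ 2 ∣ Nat.card N := by
    have h1 : N.index = Nat.card P := hc.symm.index_eq_card
    intro hd
    refine P.not_dvd_index ?_
    rwa [hc.index_eq_card]
  have : IsZGroup N := ⟨fun p hp Q => by
    have : Fact p.Prime := ⟨hp⟩
    rcases eq_or_ne p 2 with rfl | hp2
    · have hb : (Q : Subgroup N) = ⊥ := eq_bot_of_card_eq _ (by
        rw [Q.card_eq_multiplicity, Nat.factorization_eq_zero_of_not_dvd hP2, pow_zero])
      rw [hb]
      infer_instance
    · exact (h.restrict N).isCyclic_of_odd hp2 Q.2⟩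
  have hq : Group.IsSolvable (G ⧸ N) := by
    have hpg : IsPGroup 2 (G ⧸ N) := by
      obtain ⟨k, hk⟩ := IsPGroup.iff_card.1 P.2
      exact IsPGroup.of_card (n := k) (by rw [← Subgroup.index_eq_card, hc.symm.index_eq_card, hk])
    have := hpg.isNilpotent
    infer_instance
  exact CfsgLib.InvolChar.A8Normalizer.isSolvable_of_normal N inferInstance hq

end CfsgLib.Icosa
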