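import Mathlib
import Cfsg.Agent.Lib.Icosa.Model

/-!
# Kernel checks of the icosahedral tables and certificates
-/

set_option autoImplicit false

namespace CfsgLib.Icosa

open Phi

/-- The `i`-th element of the binary icosahedral model. -/
def elem (i : ℕ) : Q Phi := evalW phi (words.getD i [])

/-- Product of two matrices over `ZMod 5`, stored as natural numbers. -/
def mat5mul (x y : ℕ × ℕ × ℕ × ℕ) : ℕ × ℕ × ℕ × ℕ :=
  ((x.1 * y.1 + x.2.1 * y.2.2.1) % 5, (x.1 * y.2.1 + x.2.1 * y.2.2.2) % 5,
    (x.2.2.1 * y.1 + x.2.2.2 * y.2.2.1) % 5, (x.2.2.1 * y.2.1 + x.2.2.2 * y.2.2.2) % 5)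

set_option maxRecDepth 100000
set_option synthInstance.maxSize 2000
set_option synthInstance.maxHeartbeats 200000

theorem words_table : ∀ i : Fin 120,
    mulA phi (elem i) = elem (nextA.getD i 0) ∧ mulB (elem i) = elem (nextB.getD i 0) ∧
      nextA.getD i 0 < 120 ∧ nextB.getD i 0 < 120 := by
  decide +kernel

theorem words_zero : elem 0 = scal 1 := by decide +kernel

theorem mats_table : ∀ i : Fin 120,
    mat5mul (mats.getD i 0) genA5 = mats.getD (nextA.getD i 0) 0 ∧
      mat5mul (mats.getD i 0) genB5 = mats.getD (nextB.getD i 0) 0 := by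
  decide +kernel

theorem mats_surj : ∀ a b c d : Fin 5, ((a : ℕ) * d + 4 * (b * c)) % 5 = 1 →
    ((a : ℕ), (b : ℕ), (c : ℕ), (d : ℕ)) ∈ mats := by
  decide +kernel

theorem mats_zero : mats.getD 0 0 = (1, 0, 0, 1) := by decide +kernel

theorem mats_nodup : mats.Nodup ∧ mats.length = 120 := by decide +kernel

theorem elem_faithful : ∀ i : Fin 120, (i : ℕ) ≠ 0 →
    qmul phi (elem i - scal 1) (qconj phi (elem i - scal 1)) =
        scal (qmul phi (elem i - scal 1) (qconj phi (elem i - scal 1))).1 ∧
      Phi.norm (qmul phi (elem i - scal 1) (qconj phi (elem i - scal 1))).1 ≠ 0 := by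
  decide +kernel

/-- A member of one of the two tetrahedral classes. -/
def cls (l : List (List Bool)) (i : Fin 3) : Q Phi := evalW phi (l.getD i [])

theorem class_sums :
    genA + cls classOne 0 + cls classOne 1 + cls classOne 2 = (-scal 2 : Q Phi) ∧
    genA + cls classTwo 0 + cls classTwo 1 + cls classTwo 2 = (-scal 2 : Q Phi) := by
  decide +kernel

theorem class_order : ∀ i : Fin 3,
    qmul phi (cls classOne i) (cls classOne i) + cls classOne i + scal 1 = 0 ∧
      qmul phi (cls classTwo i) (cls classTwo i) + cls classTwo i + scal 1 = 0 := by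
  decide +kernel

/-- The three elements of case `k`. -/
def gensI (i j : Fin 3) : Fin 3 → T3 Phi :=
  ![triple genA 0, triple (cls classOne i) 1, triple (cls classTwo j) 1]

/-- The certificate of case `(i, j)`. -/
def certI (i j : Fin 3) : Option (List Bool) × List (ℤ × List (Fin 3)) :=
  certificates.getD (3 * i + j) (none, [])

/-- Nonvanishing test: `u` times its conjugate is a scalar of nonzero norm. -/
def nonvanish (u : Q Phi) : Prop :=
  qmul phi u (qconj phi u) = scal (qmul phi u (qconj phi u)).1 ∧ Phi.norm (qmul phi u (qconj phi u)).1 ≠ 0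

instance (u : Q Phi) : Decidable (nonvanish u) := inferInstanceAs (Decidable (_ ∧ _))

/-- The total of certificate `(i, j)`. -/
def totI (i j : Fin 3) : T3 Phi := combT phi (gensI i j) (certI i j).2

/-- The word of certificate `(i, j)`, if it has one. -/
def wordI (i j : Fin 3) : List Bool := (certI i j).1.getD []

theorem certificates_ok : ∀ i j : Fin 3,
    ((certI i j).1.isSome = true ∧
      totI i j = (evalW phi (wordI i j), evalW phi (wordI i j), 0) ∧
      qmul phi (evalW phi (wordI i j)) (evalW phi (wordI i j)) + evalW phi (wordI i j) + scal 1 = 0) ∨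
    (totI i j = (0, scal 1, (totI i j).2.2) ∧
      nonvanish (qmul phi (totI i j).2.2 (totI i j).2.2 - (totI i j).2.2 + scal 1)) := by
  decide +kernel

end CfsgLib.Icosa
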