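import Mathlib
import Cfsg.Agent.Lib.Icosa.Checks

/-!
# Kernel checks for normality and automorphisms of the icosahedral model
-/

set_option autoImplicit false
set_option maxRecDepth 100000
set_option synthInstance.maxSize 2000
set_option synthInstance.maxHeartbeats 200000

namespace CfsgLib.Icosa

theorem three_complete : ∀ i : Fin 120, (i : ℕ) ∉ threeIdx →
    nonvanish (qmul Phi.phi (elem i) (elem i) + elem i + scal 1) := by
  decide +kernel

theorem pair_complete : ∀ i : Fin 120, (i : ℕ) ∈ threeIdx → ∀ j : Fin 120, (j : ℕ) ∈ threeIdx →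
    ((∃ t ∈ pairTable, t.1 = (i : ℕ) ∧ t.2.1 = (j : ℕ)) ∨
      nonvanish (qmul Phi.phi (link Phi.phi (elem i) (elem j)) (link Phi.phi (elem i) (elem j))
        - link Phi.phi (elem i) (elem j) - scal 1)) := by
  decide +kernel

theorem pair_conj : ∀ t ∈ pairTable, t.2.2.1 < 120 ∧
    qmul Phi.phi (elem t.2.2.1) genA = qmul Phi.phi (elem t.1) (elem t.2.2.1) ∧
    qmul Phi.phi (elem t.2.2.1) (bif t.2.2.2 then -scal 1 - genB else genB) =
      qmul Phi.phi (elem t.2.1) (elem t.2.2.1) := by
  decide +kernel

theorem central_idx : ∀ i : Fin 120,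
    qmul Phi.phi (elem i) genA = qmul Phi.phi genA (elem i) →
    qmul Phi.phi (elem i) genB = qmul Phi.phi genB (elem i) → (i : ℕ) = 0 ∨ (i : ℕ) = negIdx := by
  decide +kernel

theorem elem_neg : elem negIdx = -scal 1 ∧ negIdx < 120 := by decide +kernel

theorem class_tame : link Phi.phi (cls classOne 0) genA = scal 0 ∨ link Phi.phi (cls classOne 0) genA = scal 1 := by
  decide +kernel

theorem class_tame' : link Phi.phi (cls classTwo 0) genA = scal 0 ∨ link Phi.phi (cls classTwo 0) genA = scal 1 := by
  decide +kernel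

/-- The three generators used to recover the second generator. -/
def genWords : Fin 3 → List Bool := ![[false], classOne.getD 0 [], classTwo.getD 0 []]

theorem bWord_spec : evalW Phi.phi (bWord.flatMap genWords) = (genB : Q Phi) := by decide +kernel

end CfsgLib.Icosa

namespace CfsgLib.Icosa

/-- A word for an element of order four. -/
def fourWord : List Bool := false :: false :: classOne.getD 0 []

theorem fourWord_sq : qmul Phi.phi (evalW Phi.phi fourWord) (evalW Phi.phi fourWord) = (-scal 1 : Q Phi) := by
  decide +kernel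

/-- A member of the tetrahedral class. -/
def clsT (i : Fin 3) : Q ℤ := evalW 0 (classT.getD i [])

theorem classT_sum : genA + clsT 0 + clsT 1 + clsT 2 = (-scal 2 : Q ℤ) := by decide +kernel

theorem classT_order : ∀ i : Fin 3, qmul 0 (clsT i) (clsT i) + clsT i + scal 1 = 0 := by decide +kernel

/-- The four relations of tame case `k`. -/
def gensT (k : Fin 3) : Fin 4 → T3 ℤ :=
  ![triple genA 0, triple (clsT 0) (bif k = 0 then 0 else 1), triple (clsT 1) (bif k = 1 then 0 else 1),
    triple (clsT 2) (bif k = 2 then 0 else 1)]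

/-- The total of tame certificate `k`. -/
def totT (k : Fin 3) : T3 ℤ := combT 0 (gensT k) (certificatesT.getD k (0, [])).2

/-- The denominator of tame certificate `k`. -/
def denT (k : Fin 3) : ℤ := (certificatesT.getD k (0, [])).1

/-- The element refuted in tame case `k`. -/
def elemT (k : Fin 3) : Q ℤ :=
  qmul 0 (totT k).2.2 (totT k).2.2 - csmul (denT k) (totT k).2.2 + scal (denT k * denT k)

theorem certificatesT_ok : ∀ k : Fin 3,
    (totT k).1 = 0 ∧ (totT k).2.1 = scal (denT k) ∧
      qmul 0 (elemT k) (qconj 0 (elemT k)) = scal (qmul 0 (elemT k) (qconj 0 (elemT k))).1 ∧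
      (qmul 0 (elemT k) (qconj 0 (elemT k))).1 ≠ 0 := by
  decide +kernel

end CfsgLib.Icosa
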