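import Mathlib
import Cfsg.Agent.Lib.Icosa.Rep

/-!
# Two elements of order three in a fixed-point-free group

If `a, b` have order three and `b ∉ ⟨a⟩`, then `x = a b + b a + a + b + 1` (in the representation) is
`0`, `1` or a root of `X² - X - 1`.
-/

set_option autoImplicit false

namespace CfsgLib.Icosa

open Complex

theorem exists_bad_exponent {n : ℕ} (h1 : n ≠ 1) (h3 : n ≠ 3) (h4 : n ≠ 4) (h6 : n ≠ 6) (h10 : n ≠ 10)
    (hn : n ≠ 0) : ∃ t, t.Coprime n ∧ n < 3 * t ∧ 3 * t < 2 * n := by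
  have hodd : ∀ {t d : ℕ}, Odd t → d ∣ t → d ∣ 4 → d = 1 := by
    intro t d ht h h'
    have h2 : d ≤ 4 := Nat.le_of_dvd (by norm_num) h'
    have h0 : ¬ 2 ∣ d := fun h2 => by
      have := Nat.dvd_trans h2 h
      rw [Nat.odd_iff] at ht
      omega
    interval_cases d <;> omega
  have key : ∀ {t : ℕ}, (∀ d, d ∣ t → d ∣ n → d = 1) → t.Coprime n := fun {t} h =>
    h _ (Nat.gcd_dvd_left t n) (Nat.gcd_dvd_right t n)
  rcases eq_or_ne n 2 with rfl | h2
  · exact ⟨1, by norm_num, by norm_num, by norm_num⟩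
  rcases Nat.even_or_odd n with ⟨k, hk⟩ | ⟨k, hk⟩
  · rcases Nat.even_or_odd k with ⟨j, hj⟩ | ⟨j, hj⟩
    · -- `4 ∣ n`
      refine ⟨k - 1, key fun d hd hdn => hodd ⟨j - 1, by omega⟩ hd ?_, by omega, by omega⟩
      have h5 := Nat.dvd_sub hdn (dvd_mul_of_dvd_right hd 2)
      exact (show n - 2 * (k - 1) = 2 by omega) ▸ h5 |>.trans (by norm_num)
    · refine ⟨k - 2, key fun d hd hdn => hodd ⟨j - 1, by omega⟩ hd ?_, by omega, by omega⟩
      exact (show n - 2 * (k - 2) = 4 by omega) ▸ Nat.dvd_sub hdn (dvd_mul_of_dvd_right hd 2)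
  · refine ⟨k, key fun d hd hdn => Nat.dvd_one.1 ?_, by omega, by omega⟩
    exact (show n - 2 * k = 1 by omega) ▸ Nat.dvd_sub hdn (dvd_mul_of_dvd_right hd 2)

theorem cos_lt_neg_half {n t : ℕ} (hn : n ≠ 0) (h1 : n < 3 * t) (h2 : 3 * t < 2 * n) :
    Real.cos (2 * Real.pi * t / n) < -(1 / 2) := by
  set θ : ℝ := 2 * Real.pi * t / n with hθ
  have hnR : (0 : ℝ) < n := Nat.cast_pos.2 (Nat.pos_of_ne_zero hn)
  have ht1 : (n : ℝ) < 3 * t := by exact_mod_cast h1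
  have ht2 : 3 * (t : ℝ) < 2 * n := by exact_mod_cast h2
  have hlo : Real.pi - Real.pi / 3 < θ := by
    rw [hθ, lt_div_iff₀ hnR]; nlinarith [Real.pi_pos]
  have hhi : θ < Real.pi + Real.pi / 3 := by
    rw [hθ, div_lt_iff₀ hnR]; nlinarith [Real.pi_pos]
  have hd : |θ - Real.pi| < Real.pi / 3 := abs_lt.2 ⟨by linarith, by linarith⟩
  have h3 := Real.cos_lt_cos_of_nonneg_of_le_pi_div_two (abs_nonneg _) (by linarith [Real.pi_pos] : Real.pi / 3 ≤ Real.pi / 2) hd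
  rw [Real.cos_pi_div_three, Real.cos_abs, Real.cos_sub_pi] at h3
  linarith

/-- Galois argument: if `ζ + ζ⁻¹ + ν + ν⁻¹ = 1` for roots of unity, every conjugate of `ζ` has real part at least `-1/2`. -/
theorem re_pow_ge {n m : ℕ} (hn : n ≠ 0) (hm : m ≠ 0) {ζ ν : ℂ} (hζ : IsPrimitiveRoot ζ n) (hν : ν ^ m = 1)
    (he : ζ + ζ⁻¹ + ν + ν⁻¹ = 1) {k : ℕ} (hk : k.Coprime n) : -(1 / 2 : ℝ) ≤ (ζ ^ k).re := by
  set N := n * m with hN
  have hN0 : N ≠ 0 := Nat.mul_ne_zero hn hm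
  have : NeZero N := ⟨hN0⟩
  set ω := Complex.exp (2 * Real.pi * I / N) with hω
  have hωp : IsPrimitiveRoot ω N := Complex.isPrimitiveRoot_exp N hN0
  obtain ⟨i, hi, hiζ⟩ := hωp.eq_pow_of_pow_eq_one (ξ := ζ) (by rw [hN, pow_mul, hζ.pow_eq_one, one_pow])
  obtain ⟨j, hj, hjν⟩ := hωp.eq_pow_of_pow_eq_one (ξ := ν) (by rw [hN, mul_comm, pow_mul, hν, one_pow])
  have hinv : ∀ {z : ℂ}, z ^ N = 1 → ∀ l, l < N → (z ^ l)⁻¹ = z ^ (N - l) := fun {z} hz l hl => by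
    exact inv_eq_of_mul_eq_one_right (by rw [← pow_add, Nat.add_sub_cancel' hl.le, hz])
  let P : Polynomial ℚ := .X ^ i + .X ^ (N - i) + .X ^ j + .X ^ (N - j) - 1
  have hP : ∀ z : ℂ, z ^ N = 1 → Polynomial.aeval z P = z ^ i + (z ^ i)⁻¹ + z ^ j + (z ^ j)⁻¹ - 1 := fun z hz => by
    rw [hinv hz i hi, hinv hz j hj]
    simp [P]
  have hdiv : Polynomial.cyclotomic N ℚ ∣ P := by
    rw [Polynomial.cyclotomic_eq_minpoly_rat hωp (Nat.pos_of_ne_zero hN0)]
    exact minpoly.dvd ℚ ω (by rw [hP ω hωp.pow_eq_one, hiζ, hjν, he, sub_self])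
  obtain ⟨u, hu⟩ := ZMod.unitsMap_surjective (dvd_mul_right n m : n ∣ N) (ZMod.unitOfCoprime k hk)
  set k' := (u : ZMod N).val with hk'
  have hkn : ζ ^ k' = ζ ^ k := by
    rw [← pow_mod_orderOf ζ k', ← pow_mod_orderOf ζ k, ← hζ.eq_orderOf]
    congr 1
    have h1 : ((u : ZMod N).val : ZMod n) = (k : ZMod n) := by
      rw [← ZMod.coe_unitOfCoprime k hk, ← hu, ZMod.unitsMap_val, ZMod.natCast_val]
    exact (ZMod.natCast_eq_natCast_iff' _ _ _).1 h1
  have hωk : IsPrimitiveRoot (ω ^ k') N := hωp.pow_of_coprime k' (ZMod.val_coe_unit_coprime u)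
  have h0 : Polynomial.aeval (ω ^ k') P = 0 := by
    refine Polynomial.aeval_eq_zero_of_dvd_aeval_eq_zero hdiv ?_
    rw [Polynomial.cyclotomic_eq_minpoly_rat hωk (Nat.pos_of_ne_zero hN0)]
    exact minpoly.aeval ℚ _
  rw [hP _ hωk.pow_eq_one, ← pow_mul, ← pow_mul, mul_comm k', mul_comm k' j, pow_mul, pow_mul, hiζ, hjν, hkn,
    sub_eq_zero] at h0
  have hnu : ‖ν ^ k'‖ = 1 :=
    Complex.norm_eq_one_of_pow_eq_one (by rw [← pow_mul, mul_comm, pow_mul, hν, one_pow]) hm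
  have hze : ‖ζ ^ k‖ = 1 :=
    Complex.norm_eq_one_of_pow_eq_one (by rw [← pow_mul, mul_comm, pow_mul, hζ.pow_eq_one, one_pow]) hn
  rw [Complex.inv_eq_conj hnu, Complex.inv_eq_conj hze] at h0
  have h1 := congrArg Complex.re h0
  simp only [Complex.add_re, Complex.conj_re, Complex.one_re] at h1
  have h2 := (abs_le.1 ((Complex.abs_re_le_norm (ν ^ k')).trans hnu.le)).2
  linarith

theorem order_mem {n m : ℕ} (hn : n ≠ 0) (hm : m ≠ 0) {ζ ν : ℂ} (hζ : IsPrimitiveRoot ζ n) (hν : ν ^ m = 1)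
    (he : ζ + ζ⁻¹ + ν + ν⁻¹ = 1) : n = 1 ∨ n = 3 ∨ n = 4 ∨ n = 6 ∨ n = 10 := by
  by_contra! hne
  obtain ⟨t, ht, h1, h2⟩ := exists_bad_exponent hne.1 hne.2.1 hne.2.2.1 hne.2.2.2.1 hne.2.2.2.2 hn
  have : NeZero n := ⟨hn⟩
  have hw : IsPrimitiveRoot (Complex.exp (2 * Real.pi * I * (t / n))) n :=
    Complex.isPrimitiveRoot_exp_of_coprime t n hn ht
  obtain ⟨k, _, hk⟩ := hζ.eq_pow_of_pow_eq_one hw.pow_eq_one
  have hkc : k.Coprime n := (hζ.pow_iff_coprime (Nat.pos_of_ne_zero hn) k).1 (hk.symm ▸ hw)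
  have h3 := re_pow_ge hn hm hζ hν he hkc
  rw [hk] at h3
  have h4 : (Complex.exp (2 * Real.pi * I * (t / n))).re = Real.cos (2 * Real.pi * t / n) := by
    rw [show (2 * Real.pi * I * (t / n) : ℂ) = ((2 * Real.pi * t / n : ℝ) : ℂ) * I by push_cast; ring,
      Complex.exp_ofReal_mul_I_re]
  rw [h4] at h3
  linarith [cos_lt_neg_half hn h1 h2]

section Link

set_option linter.unusedSectionVars false

variable {G : Type*} [Group G] [Finite G] {V : Type*} [AddCommGroup V] [Module ℂ V] [FiniteDimensional ℂ V]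
  [Nontrivial V] {ρ : G →* Module.End ℂ V}

/-- The link of two elements of order three. -/
def lnk (ρ : G →* Module.End ℂ V) (a b : G) : Module.End ℂ V :=
  ρ a * ρ b + ρ b * ρ a + ρ a + ρ b + 1

variable (h : IsFPF ρ) {a b : G} (ha : a ≠ 1) (ha3 : a ^ 3 = 1) (hb : b ≠ 1) (hb3 : b ^ 3 = 1)
include h ha ha3 hb hb3

theorem lnk_eq : lnk ρ a b = ρ (a * b) + ρ (a * b)⁻¹ := by
  rw [mul_inv_rev, map_mul, map_mul, h.inv_three ha ha3, h.inv_three hb hb3, lnk]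
  noncomm_ring

theorem lnk_inv_left : lnk ρ a⁻¹ b = 1 - lnk ρ a b := by
  rw [lnk, lnk, h.inv_three ha ha3]
  noncomm_ring

theorem lnk_commute : Commute (lnk ρ a b) (ρ a) ∧ Commute (lnk ρ a b) (ρ b) := by
  have h1 : ρ a * ρ a = -1 - ρ a := by
    rw [eq_sub_iff_add_eq, eq_neg_iff_add_eq_zero]; exact h.three ha ha3
  have h2 : ρ b * ρ b = -1 - ρ b := by
    rw [eq_sub_iff_add_eq, eq_neg_iff_add_eq_zero]; exact h.three hb hb3
  constructor
  · show lnk ρ a b * ρ a = ρ a * lnk ρ a b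
    simp only [lnk, add_mul, mul_add, one_mul, mul_one, mul_assoc, h1]
    simp only [← mul_assoc, h1]
    noncomm_ring
  · show lnk ρ a b * ρ b = ρ b * lnk ρ a b
    simp only [lnk, add_mul, mul_add, one_mul, mul_one, mul_assoc, h2]
    simp only [← mul_assoc, h2]
    noncomm_ring

theorem orderOf_mem : orderOf (a * b) = 1 ∨ orderOf (a * b) = 3 ∨ orderOf (a * b) = 4 ∨ orderOf (a * b) = 6 ∨
    orderOf (a * b) = 10 := by
  set g := a * b
  set g' := a⁻¹ * b with hg'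
  obtain ⟨ζ, hζ⟩ := Module.End.exists_eigenvalue (ρ g)
  obtain ⟨v, hv, hv0⟩ := hζ.exists_hasEigenvector
  rw [Module.End.mem_eigenspace_iff] at hv
  have hpow : ∀ (f : Module.End ℂ V) (z : ℂ) (w : V), f w = z • w → ∀ d, (f ^ d) w = z ^ d • w := by
    intro f z w hf d
    induction d with
    | zero => simp
    | succ d ih => rw [pow_succ, Module.End.mul_apply, hf, map_smul, ih, smul_smul, pow_succ']
  have hone : ∀ d, g ^ d = 1 → ζ ^ d = 1 := fun d hd => by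
    have h1 := hpow _ _ _ hv d
    rw [← map_pow, hd, map_one, Module.End.one_apply] at h1
    exact smul_left_injective ℂ hv0 (h1.symm.trans (one_smul ℂ v).symm)
  have hζp : IsPrimitiveRoot ζ (orderOf g) := by
    refine ⟨hone _ (pow_orderOf_eq_one g), fun d hd => orderOf_dvd_of_pow_eq_one ?_⟩
    by_contra hne
    refine hv0 (h _ hne v ?_)
    rw [map_pow, hpow _ _ _ hv, hd, one_smul]
  have hζ0 : ζ ≠ 0 := hζp.ne_zero (orderOf_pos g).ne'
  have hvi : ρ g⁻¹ v = ζ⁻¹ • v := by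
    have h1 : ρ g⁻¹ (ρ g v) = v := by rw [← Module.End.mul_apply, ← map_mul, inv_mul_cancel, map_one]; rfl
    rw [hv, map_smul] at h1
    rw [← smul_right_inj hζ0, h1, smul_smul, mul_inv_cancel₀ hζ0, one_smul]
  set μ := 1 - ζ - ζ⁻¹ with hμ
  have ha1 : a⁻¹ ≠ 1 := inv_ne_one.2 ha
  have ha13 : a⁻¹ ^ 3 = 1 := by rw [inv_pow, ha3, inv_one]
  have hlink : (ρ g' + ρ g'⁻¹) v = μ • v := by
    rw [hg', ← lnk_eq h ha1 ha13 hb hb3, lnk_inv_left h ha ha3 hb hb3, lnk_eq h ha ha3 hb hb3,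
      LinearMap.sub_apply, LinearMap.add_apply, Module.End.one_apply, hv, hvi, hμ, sub_smul, sub_smul, one_smul]
    abel
  have hquad : ρ g' (ρ g' v) - μ • ρ g' v + v = 0 := by
    have h1 := congrArg (ρ g') hlink
    rw [LinearMap.add_apply, map_add, map_smul, ← Module.End.mul_apply (ρ g') (ρ g'⁻¹), ← map_mul,
      mul_inv_cancel, map_one, Module.End.one_apply] at h1
    rw [sub_add_eq_add_sub, h1, sub_self]
  obtain ⟨η, hη⟩ := IsAlgClosed.exists_root (Polynomial.X ^ 2 - Polynomial.C μ * Polynomial.X + 1 : Polynomial ℂ)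
    (by
      rw [show (Polynomial.X ^ 2 - Polynomial.C μ * Polynomial.X + 1 : Polynomial ℂ)
        = Polynomial.X ^ 2 + (1 - Polynomial.C μ * Polynomial.X) by ring,
        Polynomial.degree_add_eq_left_of_degree_lt (lt_of_le_of_lt (Polynomial.degree_sub_le _ _) (by
          refine max_lt ?_ ?_
          · simp
          · exact lt_of_le_of_lt (Polynomial.degree_C_mul_X_le μ) (by rw [Polynomial.degree_X_pow]; norm_num)))]
      rw [Polynomial.degree_X_pow]; norm_num)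
  simp only [Polynomial.IsRoot, Polynomial.eval_add, Polynomial.eval_sub, Polynomial.eval_pow,
    Polynomial.eval_mul, Polynomial.eval_C, Polynomial.eval_X, Polynomial.eval_one] at hη
  have hη0 : η ≠ 0 := fun e => by subst e; simp at hη
  have hμη : μ = η + η⁻¹ := by field_simp; linear_combination -hη
  obtain ⟨ν, w, hw0, hw, hνμ⟩ : ∃ ν : ℂ, ∃ w : V, w ≠ 0 ∧ ρ g' w = ν • w ∧ ν + ν⁻¹ = μ := by
    by_cases h1 : ρ g' v - η • v = 0
    · exact ⟨η, v, hv0, sub_eq_zero.1 h1, hμη.symm⟩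
    · refine ⟨η⁻¹, _, h1, ?_, by rw [inv_inv, hμη, add_comm]⟩
      rw [sub_add_eq_add_sub, sub_eq_zero] at hquad
      rw [map_sub, map_smul, smul_sub, smul_smul, inv_mul_cancel₀ hη0, one_smul,
        eq_sub_of_add_eq hquad, hμη, add_smul]
      abel
  have hν : ν ^ orderOf g' = 1 := by
    have h1 := hpow _ _ _ hw (orderOf g')
    rw [← map_pow, pow_orderOf_eq_one, map_one, Module.End.one_apply] at h1
    exact smul_left_injective ℂ hw0 (h1.symm.trans (one_smul ℂ w).symm)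
  exact order_mem (orderOf_pos g).ne' (orderOf_pos g').ne' hζp hν (by rw [add_assoc, hνμ, hμ]; ring)

/-- The trichotomy for the link of two elements of order three. -/
theorem lnk_trichotomy (h1 : b ≠ a) (h2 : b ≠ a⁻¹) :
    lnk ρ a b = 0 ∨ lnk ρ a b = 1 ∨ lnk ρ a b * lnk ρ a b = lnk ρ a b + 1 := by
  set g := a * b
  have hg1 : g ≠ 1 := fun e => h2 (eq_inv_of_mul_eq_one_right e)
  have hinv : ∀ {d : ℕ}, g ^ (d + 1) = 1 → ρ g⁻¹ = ρ g ^ d := fun {d} hd => by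
    rw [← map_pow, show g⁻¹ = g ^ d from inv_eq_of_mul_eq_one_right (by rw [← pow_succ', hd])]
  have hx : lnk ρ a b = ρ g + ρ g⁻¹ := lnk_eq h ha ha3 hb hb3
  rcases orderOf_mem h ha ha3 hb hb3 with hn | hn | hn | hn | hn <;>
    have hgn : g ^ orderOf g = 1 := pow_orderOf_eq_one g <;> rw [hn] at hgn
  · exact absurd (pow_one g ▸ hgn) hg1
  · exfalso
    have hsum : ρ g + ρ g⁻¹ = -1 := by
      rw [h.inv_three hg1 hgn]; abel
    have hlink' : ρ (a⁻¹ * b) + ρ (a⁻¹ * b)⁻¹ = 2 := by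
      rw [← lnk_eq h (inv_ne_one.2 ha) (by rw [inv_pow, ha3, inv_one]) hb hb3, lnk_inv_left h ha ha3 hb hb3, hx,
        hsum]
      norm_num
    set g' := a⁻¹ * b
    have hg' : g' ≠ 1 := fun e => h1 (inv_mul_eq_one.1 e).symm
    have h4 : ρ g' * ρ g' + 1 = 2 * ρ g' := by
      rw [← hlink', add_mul, ← map_mul ρ g'⁻¹, inv_mul_cancel, map_one]
    have h5 : ρ g' * (ρ g' - 1) = ρ g' - 1 := by
      rw [mul_sub, mul_one, eq_sub_of_add_eq h4, two_mul]; abel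
    have h6 := h.cancel hg' h5
    exact hg' (h.injective (by rw [map_one]; exact sub_eq_zero.1 h6))
  · left
    have h4 : ρ (g ^ 2) = -1 := h.sq_one (fun e => by
      have := orderOf_dvd_of_pow_eq_one e; rw [hn] at this; omega) (by rw [← pow_mul]; exact hgn)
    rw [hx, hinv (d := 3) hgn, pow_succ, ← map_pow, h4]
    noncomm_ring
  · right; left
    have h4 : ρ (g ^ 3) = -1 := h.sq_one (fun e => by
      have := orderOf_dvd_of_pow_eq_one e; rw [hn] at this; omega) (by rw [← pow_mul]; exact hgn)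
    have h5 : ρ g ^ 2 - ρ g + 1 = 0 := by
      refine h.cancel (g := g ^ 2) (fun e => by
        have := orderOf_dvd_of_pow_eq_one e; rw [hn] at this; omega) ?_
      rw [map_pow, ← sub_eq_zero]
      rw [map_pow] at h4
      calc ρ g ^ 2 * (ρ g ^ 2 - ρ g + 1) - (ρ g ^ 2 - ρ g + 1)
          = ρ g ^ 3 * ρ g - ρ g ^ 3 + ρ g - 1 := by noncomm_ring
        _ = 0 := by rw [h4]; noncomm_ring
    rw [hx, hinv (d := 5) hgn, show (5 : ℕ) = 3 + 2 from rfl, pow_add, ← map_pow ρ g 3, h4]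
    rw [← sub_eq_zero, ← neg_eq_zero, ← h5]
    noncomm_ring
  · right; right
    have h4 : ρ (g ^ 5) = -1 := h.sq_one (fun e => by
      have := orderOf_dvd_of_pow_eq_one e; rw [hn] at this; omega) (by rw [← pow_mul]; exact hgn)
    rw [map_pow] at h4
    have h5 : ρ g ^ 4 - ρ g ^ 3 + ρ g ^ 2 - ρ g + 1 = 0 := by
      refine h.cancel (g := g ^ 2) (fun e => by
        have := orderOf_dvd_of_pow_eq_one e; rw [hn] at this; omega) ?_
      rw [map_pow, ← sub_eq_zero]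
      calc ρ g ^ 2 * (ρ g ^ 4 - ρ g ^ 3 + ρ g ^ 2 - ρ g + 1) - (ρ g ^ 4 - ρ g ^ 3 + ρ g ^ 2 - ρ g + 1)
          = ρ g ^ 5 * ρ g - ρ g ^ 5 + ρ g - 1 := by noncomm_ring
        _ = 0 := by rw [h4]; noncomm_ring
    rw [hx, hinv (d := 9) hgn, show (9 : ℕ) = 5 + 4 from rfl, pow_add, h4]
    rw [← sub_eq_zero]
    calc (ρ g + -1 * ρ g ^ 4) * (ρ g + -1 * ρ g ^ 4) - (ρ g + -1 * ρ g ^ 4 + 1)
        = ρ g ^ 5 * ρ g ^ 3 - 2 * ρ g ^ 5 + ρ g ^ 2 - ρ g + ρ g ^ 4 - 1 := by noncomm_ring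
      _ = ρ g ^ 4 - ρ g ^ 3 + ρ g ^ 2 - ρ g + 1 := by rw [h4]; noncomm_ring
      _ = 0 := h5

end Link

end CfsgLib.Icosa
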