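import Mathlib
import Cfsg.Agent.Lib.Icosa.Checks
import Cfsg.Agent.Lib.Icosa.Pair

/-!
# An icosahedral pair generates a copy of `SL(2, 5)`

A pair `a, b` of elements of order three whose link is a root of `X² - X - 1` generates a subgroup
isomorphic to `SL(2, 5)`; its image in the representation consists of the evaluations of the model.
-/

set_option autoImplicit false
set_option linter.unusedSectionVars false

namespace CfsgLib.Icosa

/-- Evaluation of a word in a monoid. -/
def wordG {M : Type*} [Monoid M] (a b : M) (w : List Bool) : M :=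
  w.foldl (fun g t => g * bif t then b else a) 1

theorem wordG_append {M : Type*} [Monoid M] (a b : M) (w w' : List Bool) :
    wordG a b (w ++ w') = wordG a b w * wordG a b w' := by
  induction w' using List.reverseRecOn with
  | nil => simp [wordG]
  | append_singleton w' t ih =>
    simp only [wordG, ← List.append_assoc, List.foldl_append, List.foldl_cons, List.foldl_nil] at ih ⊢
    rw [ih, mul_assoc]

/-- The index of a word in the tables. -/
def idxW (w : List Bool) : ℕ := w.foldl (fun i t => bif t then nextB.getD i 0 else nextA.getD i 0) 0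

theorem idxW_spec (w : List Bool) :
    idxW w < 120 ∧ evalW Phi.phi w = elem (idxW w) := by
  induction w using List.reverseRecOn with
  | nil => exact ⟨Nat.succ_pos _, words_zero.symm⟩
  | append_singleton w t ih =>
    obtain ⟨hA, hB, hAl, hBl⟩ := words_table ⟨idxW w, ih.1⟩
    simp only [idxW, evalW, List.foldl_append, List.foldl_cons, List.foldl_nil]
    cases t
    · refine ⟨hAl, ?_⟩
      simp only [cond_false]
      rw [← evalW, ih.2]
      exact hA
    · refine ⟨hBl, ?_⟩
      simp only [cond_true]
      rw [← evalW, ih.2]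
      exact hB

abbrev SL25 := Matrix.SpecialLinearGroup (Fin 2) (ZMod 5)

/-- The numerical code of a matrix over `ZMod 5`. -/
def code (m : SL25) : ℕ × ℕ × ℕ × ℕ := ((m 0 0).val, (m 0 1).val, (m 1 0).val, (m 1 1).val)

/-- First generator of `SL(2,5)`. -/
def A5 : SL25 := ⟨!![0, 2; 2, 4], by decide⟩

/-- Second generator of `SL(2,5)`. -/
def B5 : SL25 := ⟨!![1, 1; 2, 3], by decide⟩

theorem code_mul (m n : SL25) : code (m * n) = mat5mul (code m) (code n) := by
  simp [code, mat5mul, Matrix.SpecialLinearGroup.coe_mul, Matrix.mul_apply, Fin.sum_univ_two, ZMod.val_add,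
    ZMod.val_mul, Nat.add_mod, Nat.mul_mod]

theorem code_injective : Function.Injective code := by
  intro m n h
  simp only [code, Prod.mk.injEq] at h
  ext i j
  fin_cases i <;> fin_cases j <;> apply ZMod.val_injective <;> simp_all

theorem code_mem (m : SL25) : code m ∈ mats := by
  refine mats_surj (m 0 0) (m 0 1) (m 1 0) (m 1 1) ?_
  have h1 : (((m 0 0).val * (m 1 1).val + 4 * ((m 0 1).val * (m 1 0).val) : ℕ) : ZMod 5) = ((1 : ℕ) : ZMod 5) := by
    push_cast
    rw [ZMod.natCast_zmod_val, ZMod.natCast_zmod_val, ZMod.natCast_zmod_val, ZMod.natCast_zmod_val]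
    have h2 := m.2
    rw [Matrix.det_fin_two] at h2
    rw [show (4 : ZMod 5) = -1 from rfl, neg_one_mul, ← sub_eq_add_neg]
    exact h2
  rw [ZMod.natCast_eq_natCast_iff'] at h1
  exact h1

theorem code_word (w : List Bool) : code (wordG A5 B5 w) = mats.getD (idxW w) 0 := by
  induction w using List.reverseRecOn with
  | nil => rw [show idxW [] = 0 from rfl, mats_zero]; decide
  | append_singleton w t ih =>
    obtain ⟨hA, hB⟩ := mats_table ⟨idxW w, (idxW_spec w).1⟩
    simp only [idxW, wordG, List.foldl_append, List.foldl_cons, List.foldl_nil] at ih ⊢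
    rw [code_mul, ih]
    cases t
    · exact hA
    · exact hB

theorem wordG_surjective (m : SL25) : ∃ w, wordG A5 B5 w = m := by
  obtain ⟨i, hi, he⟩ := List.getElem_of_mem (code_mem m)
  have key : ∀ j : Fin 120, idxW (words.getD j []) = j := by decide +kernel
  refine ⟨words.getD i [], code_injective ?_⟩
  rw [code_word, key ⟨i, by rw [← mats_nodup.2]; exact hi⟩, ← he]
  exact List.getD_eq_getElem _ _ hi

variable {G : Type*} [Group G] [Finite G] {V : Type*} [AddCommGroup V] [Module ℂ V] [FiniteDimensional ℂ V]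
  [Nontrivial V] {ρ : G →* Module.End ℂ V}

/-- A pair generating an icosahedral subgroup. -/
structure IcosaPair (ρ : G →* Module.End ℂ V) (a b : G) : Prop where
  fpf : IsFPF ρ
  ha : a ≠ 1
  ha3 : a ^ 3 = 1
  hb : b ≠ 1
  hb3 : b ^ 3 = 1
  hx : lnk ρ a b * lnk ρ a b = lnk ρ a b + 1

namespace IcosaPair

variable {a b : G} (P : IcosaPair ρ a b)
include P

/-- The coefficient map of the pair. -/
noncomputable def kap : Phi →+* Module.End ℂ V := phiHom (lnk ρ a b) P.hx

theorem kap_phi : P.kap Phi.phi = lnk ρ a b := phiHom_phi _ _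

theorem isPair : IsPair P.kap Phi.phi (ρ a) (ρ b) where
  ha := P.fpf.three P.ha P.ha3
  hb := P.fpf.three P.hb P.hb3
  hl := P.kap_phi.symm
  hca := phiHom_commute _ _ (lnk_commute P.fpf P.ha P.ha3 P.hb P.hb3).1
  hcb := phiHom_commute _ _ (lnk_commute P.fpf P.ha P.ha3 P.hb P.hb3).2

theorem rho_word (w : List Bool) : ρ (wordG a b w) = ev P.kap (ρ a) (ρ b) (evalW Phi.phi w) :=
  (ev_evalW P.isPair ρ a b rfl rfl w).symm

/-- A quadruple with nonzero norm does not evaluate to zero. -/
theorem ne_zero_of_nonvanish {u : Q Phi}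
    (h1 : qmul Phi.phi u (qconj Phi.phi u) = scal (qmul Phi.phi u (qconj Phi.phi u)).1)
    (h2 : Phi.norm (qmul Phi.phi u (qconj Phi.phi u)).1 ≠ 0) : ev P.kap (ρ a) (ρ b) u ≠ 0 := by
  intro h0
  have h3 : P.kap (qmul Phi.phi u (qconj Phi.phi u)).1 = 0 := by
    rw [← ev_scal (κ := P.kap) (a := ρ a) (b := ρ b), ← h1, ev_qmul P.isPair, h0, zero_mul]
  exact h2 (P.fpf.intCast_eq_zero (norm_eq_zero_of_phiHom _ P.hx h3))

theorem eq_of_evalW_eq {w w' : List Bool} (h : evalW Phi.phi w = evalW Phi.phi w') : wordG a b w = wordG a b w' :=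
  P.fpf.injective (by rw [P.rho_word, P.rho_word, h])

theorem word_eq (w : List Bool) : wordG a b w = wordG a b (words.getD (idxW w) []) :=
  P.eq_of_evalW_eq (idxW_spec w).2

theorem idxW_eq {w w' : List Bool} (h : wordG a b w = wordG a b w') : idxW w = idxW w' := by
  have key : ∀ j : Fin 120, idxW (words.getD j [] ) = j := by decide +kernel
  obtain ⟨v, hv⟩ : ∃ v, wordG a b v = (wordG a b w')⁻¹ := by
    have hrep : ∀ n : ℕ, ∃ v, wordG a b v = wordG a b w' ^ n := by
      intro n
      induction n with
      | zero => exact ⟨[], by simp [wordG]⟩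
      | succ n ih =>
        obtain ⟨v, hv⟩ := ih
        exact ⟨v ++ w', by rw [wordG_append, hv, pow_succ]⟩
    obtain ⟨v, hv⟩ := hrep (orderOf (wordG a b w') - 1)
    refine ⟨v, hv.trans (eq_inv_of_mul_eq_one_left ?_)⟩
    rw [← pow_succ, Nat.sub_add_cancel (orderOf_pos _), pow_orderOf_eq_one]
  have h1 : ∀ u, wordG a b u = 1 → idxW u = 0 := by
    intro u hu
    by_contra hne
    obtain ⟨hn1, hn2⟩ := elem_faithful ⟨idxW u, (idxW_spec u).1⟩ hne
    apply P.ne_zero_of_nonvanish hn1 hn2
    rw [ev_sub, ev_scal, map_one, ← (idxW_spec u).2, ← P.rho_word, hu, map_one, sub_self]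
  have hm : wordG A5 B5 v * wordG A5 B5 w = wordG A5 B5 v * wordG A5 B5 w' := by
    rw [← wordG_append, ← wordG_append]
    apply code_injective
    rw [code_word, code_word, h1 (v ++ w) (by rw [wordG_append, h, hv, inv_mul_cancel]),
      h1 (v ++ w') (by rw [wordG_append, hv, inv_mul_cancel])]
  have h2 := congrArg code (mul_left_cancel hm)
  rw [code_word, code_word] at h2
  have hl := mats_nodup
  rw [List.getD_eq_getElem _ _ (by rw [hl.2]; exact (idxW_spec w).1),
    List.getD_eq_getElem _ _ (by rw [hl.2]; exact (idxW_spec w').1)] at h2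
  exact (List.Nodup.getElem_inj_iff hl.1).1 h2

/-- The isomorphism from `SL(2,5)`. -/
theorem exists_hom : ∃ θ : SL25 →* G, Function.Injective θ ∧ θ A5 = a ∧ θ B5 = b ∧
    θ.range = Subgroup.closure {a, b} := by
  choose W hW using wordG_surjective
  have hwd : ∀ w, wordG a b (W (wordG A5 B5 w)) = wordG a b w := fun w => by
    rw [P.word_eq, P.word_eq w]
    congr 2
    have h := congrArg code (hW (wordG A5 B5 w))
    rw [code_word, code_word] at h
    have hl := mats_nodup
    rw [List.getD_eq_getElem _ _ (by rw [hl.2]; exact (idxW_spec _).1),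
      List.getD_eq_getElem _ _ (by rw [hl.2]; exact (idxW_spec w).1)] at h
    exact (List.Nodup.getElem_inj_iff hl.1).1 h
  let θ : SL25 →* G := MonoidHom.mk' (fun m => wordG a b (W m)) fun m n => by
    rw [← wordG_append, ← hwd (W m ++ W n), wordG_append A5 B5, hW, hW]
  have hA : θ A5 = a := by
    show wordG a b (W A5) = a
    rw [show A5 = wordG A5 B5 [false] by simp [wordG], hwd]; simp [wordG]
  have hB : θ B5 = b := by
    show wordG a b (W B5) = b
    rw [show B5 = wordG A5 B5 [true] by simp [wordG], hwd]; simp [wordG]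
  have hinj : Function.Injective θ := by
    intro m n h
    have h1 := P.idxW_eq h
    rw [← hW m, ← hW n]
    exact code_injective (by rw [code_word, code_word, h1])
  refine ⟨θ, hinj, hA, hB, le_antisymm ?_ ((Subgroup.closure_le _).2 ?_)⟩
  · rintro _ ⟨m, rfl⟩
    show wordG a b (W m) ∈ _
    induction W m using List.reverseRecOn with
    | nil => exact one_mem _
    | append_singleton w t ih =>
      rw [wordG_append]
      refine mul_mem ih ?_
      cases t <;> simp [wordG, Subgroup.mem_closure_of_mem]
  · rintro g (rfl | rfl)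
    exacts [⟨A5, hA⟩, ⟨B5, hB⟩]

theorem nonempty_iso : Nonempty (Subgroup.closure ({a, b} : Set G) ≃* SL25) := by
  obtain ⟨θ, hθ, -, -, hr⟩ := P.exists_hom
  exact ⟨((MonoidHom.ofInjective hθ).trans (MulEquiv.subgroupCongr hr)).symm⟩

/-- Every element of the subgroup is the value of a word. -/
theorem exists_word {g : G} (hg : g ∈ Subgroup.closure ({a, b} : Set G)) :
    ∃ w, g = wordG a b w := by
  refine Subgroup.closure_induction_right ⟨[], rfl⟩ (fun x _ y hy hw => ?_) (fun x _ y hy hw => ?_) hg
  · obtain ⟨w, rfl⟩ := hw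
    rcases hy with rfl | rfl
    exacts [⟨w ++ [false], by rw [wordG_append]; simp [wordG]⟩, ⟨w ++ [true], by rw [wordG_append]; simp [wordG]⟩]
  · obtain ⟨w, rfl⟩ := hw
    rcases hy with rfl | rfl
    · exact ⟨w ++ [false, false], by
        rw [wordG_append]; simp [wordG, inv_eq_of_mul_eq_one_right (show y * (y * y) = 1 by rw [← pow_three, P.ha3])]⟩
    · exact ⟨w ++ [true, true], by
        rw [wordG_append]; simp [wordG, inv_eq_of_mul_eq_one_right (show y * (y * y) = 1 by rw [← pow_three, P.hb3])]⟩

end IcosaPair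

end CfsgLib.Icosa
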