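import Mathlib
import Cfsg.Agent.Lib.Icosa.Checks2
import Cfsg.Agent.Lib.Icosa.Iso

/-!
# Tame elements lie in the icosahedral subgroup

The key lemma: if `⟨a, b⟩` is icosahedral and an element `c` of order three has link `0` or `1` with `a`,
then `c ∈ ⟨a, b⟩`.  The same computation for a tetrahedral pair shows that, when all links are tame,
the elements of order three are the eight obvious ones.
-/

set_option autoImplicit false
set_option linter.unusedSectionVars false

namespace CfsgLib.Icosa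

section Parity

variable {R : Type*} [Ring R]

theorem two_roots_comm {S : Type*} [CommRing S] {v w : S} (hv : v * v = v + 1) (hw : w * w = w + 1)
    (h : v + w = 2) : (4 : S) = 0 := by
  have h2 : 2 * v = 2 := by linear_combination (w - v + 1) * h + hv - hw
  linear_combination 2 * v * h2 - 4 * hv

theorem three_roots_comm {S : Type*} [CommRing S] {u v : S} (hu : u * u = u + 1) (hv : v * v = v + 1)
    (hS : 2 * (u * v) = 2 * u + 2 * v - 3) : (11 : S) = 0 := by
  have h2 : 2 * v = 2 - u := by linear_combination u * hS - (2 * v - 2) * hu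
  have h3 : u = -3 := by linear_combination (2 * v - u) * h2 - 4 * hv + hu
  linear_combination hu - (u - 4) * h3

theorem eq_one_of_sum_eq_two (hR : ∀ n : ℤ, (n : R) = 0 → n = 0) {x y z : R}
    (hx : x = 0 ∨ x = 1 ∨ x * x = x + 1) (hy : y = 0 ∨ y = 1 ∨ y * y = y + 1)
    (hz : z = 0 ∨ z = 1 ∨ z * z = z + 1) (hs : x + y + z = 2) : x = 1 ∨ y = 1 ∨ z = 1 := by
  have bad : ∀ n : ℤ, n ≠ 0 → (n : R) ≠ 0 := fun n hn h => hn (hR n h)
  have hcl : ∀ v w : R, Commute v w → ∀ x ∈ ({v, w} : Set R), ∀ y ∈ ({v, w} : Set R), x * y = y * x := by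
    rintro v w hc a (rfl | rfl) b (rfl | rfl)
    exacts [rfl, hc.eq, hc.eq.symm, rfl]
  have one_root : ∀ w : R, w * w = w + 1 → w ≠ 2 := by
    rintro w hw rfl
    refine bad 1 one_ne_zero ?_
    push_cast
    rw [show (2 : R) * 2 = 2 + 1 + 1 by norm_num] at hw
    exact add_eq_left.1 hw
  have two_roots : ∀ v w : R, v * v = v + 1 → w * w = w + 1 → v + w ≠ 2 := by
    intro v w hv hw h
    have hc : Commute v w := by
      rw [show w = 2 - v from eq_sub_of_add_eq' h]
      exact ((Commute.ofNat_right v 2).sub_right (Commute.refl v))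
    letI : CommRing (Subring.closure ({v, w} : Set R)) :=
      { (inferInstance : Ring (Subring.closure ({v, w} : Set R))) with
        mul_comm := fun p q => (Subring.isMulCommutative_closure (hcl v w hc)).is_comm.comm p q }
    let v' : Subring.closure ({v, w} : Set R) := ⟨v, Subring.subset_closure (Or.inl rfl)⟩
    let w' : Subring.closure ({v, w} : Set R) := ⟨w, Subring.subset_closure (Or.inr rfl)⟩
    have h4 := congrArg (Subring.closure ({v, w} : Set R)).subtype (two_roots_comm (v := v') (w := w')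
      (Subtype.ext hv) (Subtype.ext hw) ((Subring.closure ({v, w} : Set R)).subtype_injective (by
        rw [map_add, map_ofNat]; exact h)))
    rw [map_ofNat, map_zero] at h4
    exact bad 4 four_ne_zero (by simpa using h4)
  have three_roots : ∀ u v w : R, u * u = u + 1 → v * v = v + 1 → w * w = w + 1 → u + v + w ≠ 2 := by
    intro u v w hu hv hw h
    have hS : u * v + v * u = u + u + (v + v) - (1 + 1 + 1) := by
      obtain rfl : w = 1 + 1 - u - v := by rw [one_add_one_eq_two, ← h]; abel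
      have e : (1 + 1 - u - v) * (1 + 1 - u - v) =
          1 + 1 + 1 + 1 - u - u - u - u - v - v - v - v + u * u + v * v + (u * v + v * u) := by noncomm_ring
      rw [e, hu, hv] at hw
      rw [← sub_eq_zero] at hw ⊢
      rw [← hw]
      abel
    have hcomm : u * v = v * u := by
      have h1 : u * (u * v + v * u) - (u * v + v * u) * u = u * v - v * u := by
        calc u * (u * v + v * u) - (u * v + v * u) * u = u * u * v - v * (u * u) := by noncomm_ring
          _ = _ := by rw [hu]; noncomm_ring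
      rw [hS] at h1
      have h2 : u * v - v * u = (u * v - v * u) + (u * v - v * u) :=
        calc u * v - v * u = _ := h1.symm
          _ = _ := by noncomm_ring
      exact sub_eq_zero.1 (left_eq_add.1 h2)
    letI : CommRing (Subring.closure ({u, v} : Set R)) :=
      { (inferInstance : Ring (Subring.closure ({u, v} : Set R))) with
        mul_comm := fun p q => (Subring.isMulCommutative_closure (hcl u v hcomm)).is_comm.comm p q }
    let u' : Subring.closure ({u, v} : Set R) := ⟨u, Subring.subset_closure (Or.inl rfl)⟩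
    let v' : Subring.closure ({u, v} : Set R) := ⟨v, Subring.subset_closure (Or.inr rfl)⟩
    rw [← hcomm] at hS
    have h11 := congrArg (Subring.closure ({u, v} : Set R)).subtype (three_roots_comm (u := u') (v := v')
      (Subtype.ext hu) (Subtype.ext hv) ((Subring.closure ({u, v} : Set R)).subtype_injective (by
        simp only [map_sub, map_add, map_mul, map_ofNat]
        show 2 * (u * v) = 2 * u + 2 * v - 3
        rw [two_mul, two_mul, two_mul, hS, show (3 : R) = 1 + 1 + 1 by norm_num])))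
    rw [map_ofNat, map_zero] at h11
    exact bad 11 (by norm_num) (by simpa using h11)
  by_contra hne
  push Not at hne
  obtain ⟨hx1, hy1, hz1⟩ := hne
  have hx' : x = 0 ∨ x * x = x + 1 := hx.imp_right (fun h => h.resolve_left hx1)
  have hy' : y = 0 ∨ y * y = y + 1 := hy.imp_right (fun h => h.resolve_left hy1)
  have hz' : z = 0 ∨ z * z = z + 1 := hz.imp_right (fun h => h.resolve_left hz1)
  rcases hx' with rfl | hx <;> rcases hy' with rfl | hy <;> rcases hz' with rfl | hz <;>
    (try simp only [zero_add, add_zero] at hs)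
  · exact bad 2 two_ne_zero (by push_cast; exact hs.symm)
  · exact one_root _ hz hs
  · exact one_root _ hy hs
  · exact two_roots _ _ hy hz hs
  · exact one_root _ hx hs
  · exact two_roots _ _ hx hz hs
  · exact two_roots _ _ hx hy hs
  · exact three_roots _ _ _ hx hy hz hs

end Parity

variable {G : Type*} [Group G] [Finite G] {V : Type*} [AddCommGroup V] [Module ℂ V] [FiniteDimensional ℂ V]
  [Nontrivial V] {ρ : G →* Module.End ℂ V}

theorem wordG_mem (a b : G) (w : List Bool) : wordG a b w ∈ Subgroup.closure ({a, b} : Set G) := by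
  induction w using List.reverseRecOn with
  | nil => exact one_mem _
  | append_singleton w t ih =>
    rw [wordG_append]
    refine mul_mem ih ?_
    cases t <;> simp [wordG, Subgroup.mem_closure_of_mem]

theorem IsFPF.three_of_rho (h : IsFPF ρ) {e : G} (he : ρ e * ρ e + ρ e + 1 = 0) : e ≠ 1 ∧ e ^ 3 = 1 := by
  refine ⟨fun e1 => ?_, h.injective ?_⟩
  · rw [e1, map_one] at he
    refine h.natCast_ne_zero (n := 3) (by norm_num) ?_
    rw [← he]
    norm_num
  · rw [map_pow, map_one, ← sub_eq_zero]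
    calc ρ e ^ 3 - 1 = (ρ e - 1) * (ρ e * ρ e + ρ e + 1) := by noncomm_ring
      _ = 0 := by rw [he, mul_zero]

theorem ne_inv_comm {c e : G} (h : e ≠ c⁻¹) : c ≠ e⁻¹ := fun e1 => h (by rw [e1, inv_inv])

/-- Links with the members of a class with vanishing total. -/
theorem sum_lnk {a : G} (c : G) {e : Fin 3 → G} (he : ρ a + ρ (e 0) + ρ (e 1) + ρ (e 2) = -2) :
    lnk ρ c a + lnk ρ c (e 0) + lnk ρ c (e 1) + lnk ρ c (e 2) = 2 := by
  calc lnk ρ c a + lnk ρ c (e 0) + lnk ρ c (e 1) + lnk ρ c (e 2)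
      = ρ c * (ρ a + ρ (e 0) + ρ (e 1) + ρ (e 2)) + (ρ a + ρ (e 0) + ρ (e 1) + ρ (e 2)) * ρ c +
          (ρ a + ρ (e 0) + ρ (e 1) + ρ (e 2)) + 4 * ρ c + (1 + 1 + 1 + 1) := by simp only [lnk]; noncomm_ring
    _ = 2 := by rw [he]; noncomm_ring <;> norm_num

/-- The key lemma, with the link normalised to zero. -/
theorem mem_of_lnk_zero {a b : G} (P : IcosaPair ρ a b) {c : G} (hc : c ≠ 1) (hc3 : c ^ 3 = 1)
    (hca : lnk ρ c a = 0) : c ∈ Subgroup.closure ({a, b} : Set G) := by
  have h := P.fpf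
  by_contra hmem
  set H := Subgroup.closure ({a, b} : Set G) with hH
  have hclass : ∀ l : List (List Bool), genA + cls l 0 + cls l 1 + cls l 2 = (-scal 2 : Q Phi) →
      (∀ i, qmul Phi.phi (cls l i) (cls l i) + cls l i + scal 1 = 0) →
      ∃ i : Fin 3, lnk ρ c (wordG a b (l.getD i [])) = 1 := by
    intro l hsum hord
    set e : Fin 3 → G := fun i => wordG a b (l.getD i []) with he
    have hev : ∀ i, ρ (e i) = ev P.kap (ρ a) (ρ b) (cls l i) := fun i => P.rho_word _
    have he3 : ∀ i, e i ≠ 1 ∧ e i ^ 3 = 1 := fun i => h.three_of_rho (by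
      have h1 := congrArg (ev P.kap (ρ a) (ρ b)) (hord i)
      rw [ev_add, ev_add, ev_qmul P.isPair, ev_scal, map_one, ev_zero, ← hev] at h1
      exact h1)
    have htri : ∀ i, lnk ρ c (e i) = 0 ∨ lnk ρ c (e i) = 1 ∨ lnk ρ c (e i) * lnk ρ c (e i) = lnk ρ c (e i) + 1 :=
      fun i => lnk_trichotomy h hc hc3 (he3 i).1 (he3 i).2
        (fun e1 => hmem (e1 ▸ wordG_mem a b _))
        (fun e1 => hmem (by
          rw [← inv_inv c, ← e1]
          exact inv_mem (wordG_mem a b _)))
    have hs : ρ a + ρ (e 0) + ρ (e 1) + ρ (e 2) = -2 := by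
      have h1 := congrArg (ev P.kap (ρ a) (ρ b)) hsum
      rw [ev_add, ev_add, ev_add, ev_neg, ev_scal, ev_genA, ← hev, ← hev, ← hev] at h1
      rw [h1, map_ofNat]
    have h2 := sum_lnk c hs
    rw [hca, zero_add] at h2
    rcases eq_one_of_sum_eq_two (fun n hn => h.intCast_eq_zero hn) (htri 0) (htri 1) (htri 2) h2 with h3 | h3 | h3
    exacts [⟨0, h3⟩, ⟨1, h3⟩, ⟨2, h3⟩]
  obtain ⟨i, hi⟩ := hclass classOne class_sums.1 fun i => (class_order i).1
  obtain ⟨j, hj⟩ := hclass classTwo class_sums.2 fun i => (class_order i).2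
  have hholds : Holds P.kap (ρ a) (ρ b) (ρ c) (totI i j) := by
    refine holds_combT P.isPair _ (fun k => ?_) _
    fin_cases k
    · refine holds_triple genA 0 ?_
      rw [ev_genA, map_zero, ← hca, lnk]
      abel
    · refine holds_triple (cls classOne i) 1 ?_
      rw [cls, ← P.rho_word, map_one]
      refine Eq.trans ?_ hi
      rw [lnk]
      abel
    · refine holds_triple (cls classTwo j) 1 ?_
      rw [cls, ← P.rho_word, map_one]
      refine Eq.trans ?_ hj
      rw [lnk]
      abel
  rcases certificates_ok i j with ⟨-, htot, hv⟩ | ⟨htot, hnv⟩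
  · set v := wordG a b (wordI i j)
    have hv' : ρ v = ev P.kap (ρ a) (ρ b) (evalW Phi.phi (wordI i j)) := P.rho_word _
    have hv3 := h.three_of_rho (e := v) (by
      have h1 := congrArg (ev P.kap (ρ a) (ρ b)) hv
      rw [ev_add, ev_add, ev_qmul P.isPair, ev_scal, map_one, ev_zero, ← hv'] at h1
      exact h1)
    rw [Holds, htot] at hholds
    simp only [ev_zero, add_zero, ← hv'] at hholds
    have hcomm : Commute v c := h.injective (by rw [map_mul, map_mul]; exact hholds.symm)
    rcases h.eq_or_eq_inv_of_commute_three hv3.1 hv3.2 hc hc3 hcomm with e1 | e1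
    · exact hmem (e1 ▸ wordG_mem a b _)
    · exact hmem (e1 ▸ inv_mem (wordG_mem a b _))
  · rw [Holds, htot] at hholds
    simp only [ev_zero, mul_zero, ev_scal, map_one, one_mul] at hholds
    have hZ : ev P.kap (ρ a) (ρ b) (totI i j).2.2 = -ρ c :=
      eq_neg_of_add_eq_zero_right hholds.symm
    refine P.ne_zero_of_nonvanish hnv.1 hnv.2 ?_
    rw [ev_add, ev_sub, ev_qmul P.isPair, hZ, ev_scal, map_one, ← h.three hc hc3]
    noncomm_ring

/-- The key lemma. -/
theorem mem_of_tame {a b : G} (P : IcosaPair ρ a b) {c : G} (hc : c ≠ 1) (hc3 : c ^ 3 = 1)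
    (hca : lnk ρ c a = 0 ∨ lnk ρ c a = 1) : c ∈ Subgroup.closure ({a, b} : Set G) := by
  rcases hca with hca | hca
  · exact mem_of_lnk_zero P hc hc3 hca
  · have h1 := mem_of_lnk_zero P (inv_ne_one.2 hc) (by rw [inv_pow, hc3, inv_one]) (by
      rw [lnk_inv_left P.fpf hc hc3 P.ha P.ha3, hca, sub_self])
    simpa using inv_mem h1

/-- The elements of order three in the tame case. -/
theorem mem_eight (h : IsFPF ρ) {a b : G} (ha : a ≠ 1) (ha3 : a ^ 3 = 1) (hb : b ≠ 1) (hb3 : b ^ 3 = 1)
    (hab : lnk ρ a b = 0)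
    (htame : ∀ x y : G, x ≠ 1 → x ^ 3 = 1 → y ≠ 1 → y ^ 3 = 1 → y ≠ x → y ≠ x⁻¹ → lnk ρ x y = 0 ∨ lnk ρ x y = 1)
    {c : G} (hc : c ≠ 1) (hc3 : c ^ 3 = 1) :
    c = a ∨ c = a⁻¹ ∨ ∃ k : Fin 3, c = wordG a b (classT.getD k []) ∨ c = (wordG a b (classT.getD k []))⁻¹ := by
  wlog hca : lnk ρ c a = 0 generalizing c
  · by_contra hne
    have hne' := hne
    push Not at hne'
    obtain ⟨hn1, hn2, hn3⟩ := hne'
    have h1 := (htame c a hc hc3 ha ha3 hn1.symm (ne_inv_comm hn2)).resolve_left hca
    rcases this (inv_ne_one.2 hc) (by rw [inv_pow, hc3, inv_one])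
        (by rw [lnk_inv_left h hc hc3 ha ha3, h1, sub_self]) with e1 | e1 | ⟨k, e1 | e1⟩
    · exact hn2 (inv_eq_iff_eq_inv.1 e1)
    · exact hn1 (inv_injective e1)
    · exact (hn3 k).2 (inv_eq_iff_eq_inv.1 e1)
    · exact (hn3 k).1 (inv_injective e1)
  by_contra hne
  push Not at hne
  obtain ⟨hn1, hn2, hn3⟩ := hne
  let κ : ℤ →+* Module.End ℂ V := Int.castRingHom _
  have H : IsPair κ 0 (ρ a) (ρ b) :=
    ⟨h.three ha ha3, h.three hb hb3, by rw [map_zero, ← hab]; rfl, fun k => (Int.cast_commute k _),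
      fun k => (Int.cast_commute k _)⟩
  set e : Fin 3 → G := fun i => wordG a b (classT.getD i []) with he
  have hev : ∀ i, ρ (e i) = ev κ (ρ a) (ρ b) (clsT i) := fun i => (ev_evalW H ρ a b rfl rfl _).symm
  have he3 : ∀ i, e i ≠ 1 ∧ e i ^ 3 = 1 := fun i => h.three_of_rho (by
    have h1 := congrArg (ev κ (ρ a) (ρ b)) (classT_order i)
    rw [ev_add, ev_add, ev_qmul H, ev_scal, map_one, ev_zero, ← hev] at h1
    exact h1)
  have htri : ∀ i, lnk ρ c (e i) = 0 ∨ lnk ρ c (e i) = 1 := fun i =>
    htame c _ hc hc3 (he3 i).1 (he3 i).2 (fun e1 => (hn3 i).1 e1.symm) (fun e1 => (hn3 i).2 (by rw [show wordG a b (classT.getD i []) = c⁻¹ from e1, inv_inv]))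
  have hs : ρ a + ρ (e 0) + ρ (e 1) + ρ (e 2) = -2 := by
    have h1 := congrArg (ev κ (ρ a) (ρ b)) classT_sum
    rw [ev_add, ev_add, ev_add, ev_neg, ev_scal, ev_genA, ← hev, ← hev, ← hev] at h1
    rw [h1, map_ofNat]
  have h2 := sum_lnk c hs
  rw [hca, zero_add] at h2
  have hint : ∀ n : ℤ, n ≠ 0 → (n : Module.End ℂ V) ≠ 0 := fun n hn e1 => hn (h.intCast_eq_zero e1)
  obtain ⟨k, hk⟩ : ∃ k : Fin 3, ∀ i : Fin 3, lnk ρ c (e i) = κ (bif i = k then 0 else 1) := by
    rcases htri 0 with h0 | h0 <;> rcases htri 1 with h1 | h1 <;> rcases htri 2 with h3 | h3 <;>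
      rw [h0, h1, h3] at h2
    · exact absurd (by push_cast; simpa using h2.symm) (hint 2 two_ne_zero)
    · exact absurd (by push_cast; simpa [← one_add_one_eq_two] using h2) (hint 1 one_ne_zero)
    · exact absurd (by push_cast; simpa [← one_add_one_eq_two] using h2) (hint 1 one_ne_zero)
    · exact ⟨0, fun i => by fin_cases i <;> simp [h0, h1, h3, κ]⟩
    · exact absurd (by push_cast; simpa [← one_add_one_eq_two] using h2) (hint 1 one_ne_zero)
    · exact ⟨1, fun i => by fin_cases i <;> simp [h0, h1, h3, κ]⟩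
    · exact ⟨2, fun i => by fin_cases i <;> simp [h0, h1, h3, κ]⟩
    · exact absurd (by push_cast; simpa [← one_add_one_eq_two] using h2) (hint 1 one_ne_zero)
  have hholds : Holds κ (ρ a) (ρ b) (ρ c) (totT k) := by
    refine holds_combT H _ (fun i => ?_) _
    fin_cases i
    · refine holds_triple genA 0 ?_
      rw [ev_genA, map_zero, ← hca, lnk]
      abel
    · refine holds_triple (clsT 0) _ ?_
      rw [← hev, show (bif k = (0 : Fin 3) then (0 : ℤ) else 1) = bif (0 : Fin 3) = k then 0 else 1 by simp [eq_comm],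
        ← hk 0, lnk]
      abel
    · refine holds_triple (clsT 1) _ ?_
      rw [← hev, show (bif k = (1 : Fin 3) then (0 : ℤ) else 1) = bif (1 : Fin 3) = k then 0 else 1 by simp [eq_comm],
        ← hk 1, lnk]
      abel
    · refine holds_triple (clsT 2) _ ?_
      rw [← hev, show (bif k = (2 : Fin 3) then (0 : ℤ) else 1) = bif (2 : Fin 3) = k then 0 else 1 by simp [eq_comm],
        ← hk 2, lnk]
      abel
  obtain ⟨ht1, ht2, hn, hn0⟩ := certificatesT_ok k
  rw [Holds, ht1, ht2] at hholds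
  simp only [ev_zero, mul_zero, ev_scal] at hholds
  have hZ : ev κ (ρ a) (ρ b) (totT k).2.2 = -(κ (denT k) * ρ c) := eq_neg_of_add_eq_zero_right hholds.symm
  have hz0 : ev κ (ρ a) (ρ b) (elemT k) = 0 := by
    rw [elemT, ev_add, ev_sub, ev_qmul H, ev_csmul, hZ, ev_scal, map_mul, neg_mul_neg]
    have hcc : Commute (κ (denT k)) (ρ c) := Int.cast_commute _ _
    calc κ (denT k) * ρ c * (κ (denT k) * ρ c) - κ (denT k) * -(κ (denT k) * ρ c) + κ (denT k) * κ (denT k)
        = κ (denT k) * κ (denT k) * (ρ c * ρ c + ρ c + 1) := by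
          rw [mul_assoc _ (ρ c), ← mul_assoc (ρ c), ← hcc.eq]
          noncomm_ring
      _ = 0 := by rw [h.three hc hc3, mul_zero]
  refine hn0 (h.intCast_eq_zero ?_)
  have h5 : κ (qmul 0 (elemT k) (qconj 0 (elemT k))).1 = 0 := by
    rw [← ev_scal (κ := κ) (a := ρ a) (b := ρ b), ← hn, ev_qmul H, hz0, zero_mul]
  exact h5

end CfsgLib.Icosa
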