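import Mathlib
import Cfsg.Agent.Lib.Icosa.Tame
import Cfsg.Agent.Lib.Icosa.Small

/-!
# A nonsolvable fixed-point-free group contains an icosahedral pair
-/

set_option autoImplicit false
set_option linter.unusedSectionVars false

namespace CfsgLib.Icosa

open Subgroup
open scoped Pointwise

variable {G : Type*} [Group G] [Finite G] {V : Type*} [AddCommGroup V] [Module ℂ V] [FiniteDimensional ℂ V]
  [Nontrivial V] {ρ : G →* Module.End ℂ V}

/-- A group with a central element of order three containing all elements of order three is solvable. -/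
theorem IsFPF.isSolvable_of_central_three (h : IsFPF ρ) {a : G} (ha : a ≠ 1) (ha3 : a ^ 3 = 1)
    (hcen : ∀ g : G, Commute g a) : Group.IsSolvable G := by
  have : Fact (Nat.Prime 3) := ⟨Nat.prime_three⟩
  obtain ⟨P⟩ : Nonempty (Sylow 3 G) := inferInstance
  have hPc : IsCyclic (P : Subgroup G) := h.isCyclic_of_odd (by norm_num) P.2
  have hcomm : IsMulCommutative (P : Subgroup G) := ⟨⟨IsCyclic.commGroup.mul_comm⟩⟩
  obtain ⟨Q, N, hN, hc⟩ : Cfsg.HasNormalPComplement 3 G := by
    refine CfsgLib.Transfer.hasNormalPComplement_of_abelian_sylow P hcomm fun g hg hgo => ?_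
    obtain ⟨⟨x, hx⟩, hgen⟩ := hPc.exists_generator
    have hPx : ∀ q ∈ (P : Subgroup G), q ∈ zpowers x := fun q hq => by
      obtain ⟨i, hi⟩ := hgen ⟨q, hq⟩
      exact ⟨i, by simpa using congrArg Subtype.val hi⟩
    obtain ⟨n, hn⟩ := IsPGroup.iff_orderOf.1 P.2 ⟨x, hx⟩
    rw [orderOf_mk] at hn
    suffices hgx : Commute g x by
      intro q hq
      obtain ⟨i, rfl⟩ := hPx q hq
      exact (hgx.zpow_right i).eq.symm
    rcases n with _ | n
    · rw [pow_zero, orderOf_eq_one_iff] at hn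
      rw [hn]; exact Commute.one_right g
    obtain ⟨k, hk⟩ := hPx _ ((mem_normalizer_iff.1 hg x).1 hx)
    have hk' : g * x * g⁻¹ = x ^ k := hk.symm
    -- the element of order three in `⟨x⟩` is central
    set t := x ^ 3 ^ n with ht
    have ht3 : orderOf t = 3 := by
      rw [ht, orderOf_pow' _ (by positivity), hn, Nat.gcd_eq_right (pow_dvd_pow 3 n.le_succ),
        Nat.pow_div n.le_succ (by norm_num)]
      simp
    obtain ⟨i, -, hi⟩ := h.exists_pow_eq Nat.prime_three ha ha3 (w := t) (by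
      rw [← ht3]; exact pow_orderOf_eq_one t) (hcen t).symm
    have hgt : g * t * g⁻¹ = t := by
      rw [hi, ((hcen g).pow_right i).eq, mul_inv_cancel_right]
    have hk3 : (3 : ℤ) ∣ k - 1 := by
      have h1 : t ^ k = t ^ (1 : ℤ) := by
        rw [zpow_one]
        calc t ^ k = (x ^ k) ^ 3 ^ n := by
              rw [ht, ← zpow_natCast, ← zpow_natCast, ← zpow_mul, ← zpow_mul, mul_comm]
          _ = t := by rw [← hk', conj_pow, ← ht, hgt]
      have h2 := (zpow_eq_zpow_iff_modEq.1 h1).symm.dvd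
      rw [ht3] at h2
      exact_mod_cast h2
    have hit : ∀ m : ℕ, g ^ m * x * (g ^ m)⁻¹ = x ^ (k ^ m) := by
      intro m
      induction m with
      | zero => simp
      | succ m ih =>
        calc g ^ (m + 1) * x * (g ^ (m + 1))⁻¹ = g * (g ^ m * x * (g ^ m)⁻¹) * g⁻¹ := by
              rw [pow_succ']; group
          _ = (g * x * g⁻¹) ^ (k ^ m) := by rw [ih, conj_zpow]
          _ = x ^ (k ^ (m + 1)) := by rw [hk', ← zpow_mul, pow_succ']
    have h5 : Commute (g ^ 3 ^ n) x := by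
      refine mul_inv_eq_iff_eq_mul.1 ?_
      rw [hit, ← zpow_one x, ← zpow_mul, one_mul, zpow_eq_zpow_iff_modEq, hn]
      refine (Int.modEq_of_dvd ?_).symm
      have h6 := dvd_sub_pow_of_dvd_sub (p := 3) (a := k) (b := (1 : ℤ)) (by exact_mod_cast hk3) n
      rw [one_pow] at h6
      exact_mod_cast h6
    obtain ⟨m, hm⟩ : ∃ m : ℕ, g = (g ^ 3 ^ n) ^ m := by
      obtain ⟨m, hm⟩ := exists_pow_eq_self_of_coprime ((hgo.symm).pow_left n)
      exact ⟨m, hm.symm⟩
    rw [hm]
    exact h5.pow_left m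
  have hN3 : ¬ 3 ∣ Nat.card N := by
    rw [← hc.index_eq_card.symm.trans hc.index_eq_card]
    intro hd
    exact Q.not_dvd_index (hc.index_eq_card ▸ hd)
  have hsN := (h.restrict N).isSolvable_of_three_not_dvd hN3
  have hpg : IsPGroup 3 (G ⧸ N) := by
    obtain ⟨k, hk⟩ := IsPGroup.iff_card.1 Q.2
    exact IsPGroup.of_card (n := k) (by rw [← Subgroup.index_eq_card, hc.symm.index_eq_card, hk])
  have := hpg.isNilpotent
  exact CfsgLib.InvolChar.A8Normalizer.isSolvable_of_normal N hsN inferInstance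

/-- Solvability from a bound on the conjugates of a pair. -/
theorem isSolvable_of_pairs {a b : G} (S : Finset (G × G)) (hS : S.card < 60)
    (hconj : ∀ g : G, (g * a * g⁻¹, g * b * g⁻¹) ∈ S) (hnorm : (closure ({a, b} : Set G)).Normal)
    (hC : Group.IsSolvable (centralizer ({a, b} : Set G))) : Group.IsSolvable G := by
  have hKn : (centralizer ({a, b} : Set G)).Normal := by
    rw [← centralizer_closure]
    have := hnorm
    infer_instance
  refine CfsgLib.InvolChar.A8Normalizer.isSolvable_of_normal _ hC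
    (CfsgLib.InvolChar.A8Normalizer.isSolvable_of_card_lt_sixty (lt_of_le_of_lt ?_ hS))
  let f : G ⧸ centralizer ({a, b} : Set G) → S :=
    Quotient.lift (fun g : G => (⟨(g * a * g⁻¹, g * b * g⁻¹), hconj g⟩ : S)) fun g g' hgg => by
      have h1 : g⁻¹ * g' ∈ centralizer ({a, b} : Set G) := QuotientGroup.leftRel_apply.1 hgg
      have key : ∀ c, c ∈ ({a, b} : Set G) → g * c * g⁻¹ = g' * c * g'⁻¹ := fun c hc => by
        have h2 := mem_centralizer_iff.1 h1 c hc
        calc g * c * g⁻¹ = g * (c * (g⁻¹ * g')) * g'⁻¹ := by group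
          _ = g' * c * g'⁻¹ := by rw [h2]; group
      simp only [key a (Or.inl rfl), key b (Or.inr rfl)]
  have hf : Function.Injective f := by
    intro x y
    induction x using QuotientGroup.induction_on with | _ g => ?_
    induction y using QuotientGroup.induction_on with | _ g' => ?_
    intro e
    have e1 : (g * a * g⁻¹, g * b * g⁻¹) = (g' * a * g'⁻¹, g' * b * g'⁻¹) := congrArg Subtype.val e
    rw [Prod.mk.injEq] at e1
    refine QuotientGroup.eq.2 (mem_centralizer_iff.2 fun c hc => ?_)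
    have key : g * c * g⁻¹ = g' * c * g'⁻¹ := by
      rcases hc with rfl | rfl
      exacts [e1.1, e1.2]
    calc c * (g⁻¹ * g') = g⁻¹ * (g * c * g⁻¹) * g' := by group
      _ = g⁻¹ * g' * c := by rw [key]; group
  exact (Nat.card_le_card_of_injective f hf).trans_eq (by rw [Nat.card_eq_fintype_card, Fintype.card_coe])

/-- Existence of an icosahedral pair. -/
theorem exists_icosaPair (h : IsFPF ρ) (hns : ¬ Group.IsSolvable G) : ∃ a b : G, IcosaPair ρ a b := by
  classical
  by_contra hno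
  push Not at hno
  apply hns
  by_cases h3 : 3 ∣ Nat.card G
  swap
  · exact h.isSolvable_of_three_not_dvd h3
  obtain ⟨a, ha⟩ := exists_prime_orderOf_dvd_card' (G := G) 3 (hp := ⟨Nat.prime_three⟩) h3
  have ha1 : a ≠ 1 := fun e => by rw [e, orderOf_one] at ha; omega
  have ha3 : a ^ 3 = 1 := by rw [← ha]; exact pow_orderOf_eq_one a
  have hconj3 : ∀ {g x : G}, x ≠ 1 → x ^ 3 = 1 → g * x * g⁻¹ ≠ 1 ∧ (g * x * g⁻¹) ^ 3 = 1 := fun {g x} h1 h3 =>
    ⟨fun e => h1 (conj_eq_one_iff.1 e), by rw [conj_pow, h3, mul_one, mul_inv_cancel]⟩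
  have htame : ∀ x y : G, x ≠ 1 → x ^ 3 = 1 → y ≠ 1 → y ^ 3 = 1 → y ≠ x → y ≠ x⁻¹ →
      lnk ρ x y = 0 ∨ lnk ρ x y = 1 := fun x y h1 h2 h4 h5 h6 h7 => by
    rcases lnk_trichotomy h h1 h2 h4 h5 h6 h7 with e | e | e
    exacts [Or.inl e, Or.inr e, absurd ⟨h, h1, h2, h4, h5, e⟩ (hno x y)]
  by_cases hall : ∀ c : G, c ≠ 1 → c ^ 3 = 1 → c = a ∨ c = a⁻¹
  · have hn : (closure ({a, a} : Set G)).Normal := by
      refine ⟨fun x hx g => ?_⟩
      have hle : (closure ({a, a} : Set G)).map (MulAut.conj g).toMonoidHom ≤ closure ({a, a} : Set G) := by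
        rw [MonoidHom.map_closure, closure_le]
        rintro _ ⟨y, hy, rfl⟩
        obtain rfl : y = a := by simpa using hy
        rcases hall _ (hconj3 (g := g) ha1 ha3).1 (hconj3 ha1 ha3).2 with e | e
        · rw [SetLike.mem_coe, show (MulAut.conj g).toMonoidHom y = y from e]
          exact subset_closure (Or.inl rfl)
        · rw [SetLike.mem_coe, show (MulAut.conj g).toMonoidHom y = y⁻¹ from e]
          exact inv_mem (subset_closure (Or.inl rfl))
      exact hle ⟨x, hx, rfl⟩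
    refine isSolvable_of_pairs (a := a) (b := a) {(a, a), (a⁻¹, a⁻¹)} (lt_of_le_of_lt Finset.card_le_two (by norm_num))
      (fun g => ?_) hn ?_
    · rcases hall _ (hconj3 (g := g) ha1 ha3).1 (hconj3 ha1 ha3).2 with e | e <;> simp [e]
    · refine (h.restrict _).isSolvable_of_central_three
        (a := (⟨a, mem_centralizer_iff.2 (by rintro c (rfl | rfl) <;> rfl)⟩ : centralizer ({a, a} : Set G)))
        (fun e => ha1 (congrArg Subtype.val e)) (Subtype.ext ha3) fun g => Subtype.ext ?_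
      exact (mem_centralizer_iff.1 g.2 a (Or.inl rfl)).symm
  push Not at hall
  obtain ⟨b₀, hb0, hb03, hb0a, hb0a'⟩ := hall
  obtain ⟨b, hb, hb3, hab, hba, hba'⟩ : ∃ b : G, b ≠ 1 ∧ b ^ 3 = 1 ∧ lnk ρ a b = 0 ∧ b ≠ a ∧ b ≠ a⁻¹ := by
    rcases htame a b₀ ha1 ha3 hb0 hb03 hb0a hb0a' with e | e
    · exact ⟨b₀, hb0, hb03, e, hb0a, hb0a'⟩
    · refine ⟨b₀⁻¹, inv_ne_one.2 hb0, by rw [inv_pow, hb03, inv_one], ?_,
        fun e1 => hb0a' (by rw [← e1, inv_inv]), fun e1 => hb0a (inv_injective e1)⟩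
      have h1 := lnk_inv_left h hb0 hb03 ha1 ha3
      have hsym : ∀ x y : G, lnk ρ x y = lnk ρ y x := fun x y => by simp only [lnk]; abel
      rw [hsym a, h1, hsym b₀, e, sub_self]
  set e : Fin 3 → G := fun k => wordG a b (classT.getD k []) with he
  set E : Finset G := {a, a⁻¹, e 0, (e 0)⁻¹, e 1, (e 1)⁻¹, e 2, (e 2)⁻¹}
  have hE : ∀ c : G, c ≠ 1 → c ^ 3 = 1 → c ∈ E := by
    intro c hc hc3
    rcases mem_eight h ha1 ha3 hb hb3 hab htame hc hc3 with rfl | rfl | ⟨k, hk⟩
    · simp [E]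
    · simp [E]
    · fin_cases k <;> rcases hk with rfl | rfl <;> simp [E, he]
  have hEsub : ∀ c ∈ E, c ∈ closure ({a, b} : Set G) := by
    intro c hc
    simp only [E, Finset.mem_insert, Finset.mem_singleton] at hc
    have hw : ∀ k, e k ∈ closure ({a, b} : Set G) := fun k => wordG_mem a b _
    rcases hc with rfl | rfl | rfl | rfl | rfl | rfl | rfl | rfl
    exacts [subset_closure (Or.inl rfl), inv_mem (subset_closure (Or.inl rfl)), hw 0, inv_mem (hw 0), hw 1,
      inv_mem (hw 1), hw 2, inv_mem (hw 2)]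
  have hEcard : E.card ≤ 8 := by
    simp only [E]
    repeat (refine (Finset.card_insert_le _ _).trans (Nat.succ_le_succ ?_))
    simp
  have hinvE : ∀ {x : G}, x ∈ E → x⁻¹ ∈ E := fun {x} hx => by
    simp only [E, Finset.mem_insert, Finset.mem_singleton] at hx ⊢
    rcases hx with rfl | rfl | rfl | rfl | rfl | rfl | rfl | rfl <;> simp
  have hne : ∀ {x : G}, x ∈ E → x⁻¹ ≠ x ∨ x = 1 := fun {x} hx => by
    by_cases hx1 : x = 1
    · exact Or.inr hx1
    left
    intro e1
    have h2 : x ^ 2 = 1 := by rw [pow_two]; nth_rw 1 [← e1]; rw [inv_mul_cancel]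
    have h3' : x ^ 3 = 1 := by
      have hx' := hEsub x hx
      simp only [E, Finset.mem_insert, Finset.mem_singleton] at hx
      have hei : ∀ k, e k ^ 3 = 1 := fun k => (h.three_of_rho (by
        have H : IsPair (Int.castRingHom (Module.End ℂ V)) 0 (ρ a) (ρ b) :=
          ⟨h.three ha1 ha3, h.three hb hb3, by rw [map_zero, ← hab]; rfl, fun k => (Int.cast_commute k _),
            fun k => (Int.cast_commute k _)⟩
        have h1 := congrArg (ev (Int.castRingHom (Module.End ℂ V)) (ρ a) (ρ b)) (classT_order k)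
        rw [ev_add, ev_add, ev_qmul H, ev_scal, map_one, ev_zero, clsT, ev_evalW H ρ a b rfl rfl] at h1
        exact h1)).2
      rcases hx with rfl | rfl | rfl | rfl | rfl | rfl | rfl | rfl <;> simp [ha3, hei]
    exact hx1 (by rw [pow_succ, h2, one_mul] at h3'; exact h3')
  have hn : (closure ({a, b} : Set G)).Normal := by
    refine ⟨fun x hx g => ?_⟩
    have hle : (closure ({a, b} : Set G)).map (MulAut.conj g).toMonoidHom ≤ closure ({a, b} : Set G) := by
      rw [MonoidHom.map_closure, closure_le]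
      rintro _ ⟨y, hy, rfl⟩
      rcases hy with rfl | rfl
      · exact hEsub _ (hE _ (hconj3 ha1 ha3).1 (hconj3 ha1 ha3).2)
      · exact hEsub _ (hE _ (hconj3 hb hb3).1 (hconj3 hb hb3).2)
    exact hle ⟨x, hx, rfl⟩
  refine isSolvable_of_pairs (a := a) (b := b) ((E ×ˢ E).filter fun t => t.2 ≠ t.1 ∧ t.2 ≠ t.1⁻¹ ∧ t.1 ≠ 1) ?_
    (fun g => ?_) hn ((h.restrict _).isSolvable_of_three_not_dvd fun hd => ?_)
  · have hsub : ((E ×ˢ E).filter fun t => t.2 ≠ t.1 ∧ t.2 ≠ t.1⁻¹ ∧ t.1 ≠ 1) ⊆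
        (E.filter (· ≠ 1)).biUnion fun x => ((E.erase x).erase x⁻¹).image fun y => (x, y) := by
      rintro ⟨x, y⟩ ht
      simp only [Finset.mem_filter, Finset.mem_product] at ht
      simp only [Finset.mem_biUnion, Finset.mem_filter, Finset.mem_image, Finset.mem_erase, Prod.mk.injEq]
      exact ⟨x, ⟨ht.1.1, ht.2.2.2⟩, y, ⟨ht.2.2.1, ht.2.1, ht.1.2⟩, rfl, rfl⟩
    refine lt_of_le_of_lt ((Finset.card_le_card hsub).trans (Finset.card_biUnion_le_card_mul _ _ 6 fun x hx => ?_)) ?_
    · obtain ⟨hxE, hx1⟩ := Finset.mem_filter.1 hx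
      refine Finset.card_image_le.trans ?_
      rw [Finset.card_erase_of_mem (Finset.mem_erase.2 ⟨(hne hxE).resolve_right hx1, hinvE hxE⟩),
        Finset.card_erase_of_mem hxE]
      omega
    · calc (E.filter (· ≠ 1)).card * 6 ≤ 8 * 6 := Nat.mul_le_mul_right 6 ((Finset.card_filter_le _ _).trans hEcard)
        _ < 60 := by norm_num
  · refine Finset.mem_filter.2 ⟨Finset.mem_product.2 ⟨hE _ (hconj3 ha1 ha3).1 (hconj3 ha1 ha3).2,
      hE _ (hconj3 hb hb3).1 (hconj3 hb hb3).2⟩, fun e1 => hba (mul_left_cancel (mul_right_cancel e1)),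
      fun e1 => hba' ?_, (hconj3 ha1 ha3).1⟩
    simp only at e1
    rw [show (g * a * g⁻¹)⁻¹ = g * a⁻¹ * g⁻¹ by group] at e1
    exact mul_left_cancel (mul_right_cancel e1)
  · obtain ⟨c, hc⟩ := exists_prime_orderOf_dvd_card' (G := centralizer ({a, b} : Set G)) 3
      (hp := ⟨Nat.prime_three⟩) hd
    have hc1 : (c : G) ≠ 1 := fun e1 => by
      rw [← orderOf_coe, e1, orderOf_one] at hc; omega
    have hc3 : (c : G) ^ 3 = 1 := by rw [← hc, ← orderOf_coe]; exact pow_orderOf_eq_one _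
    have hca := mem_centralizer_iff.1 c.2 a (Or.inl rfl)
    have hcb := mem_centralizer_iff.1 c.2 b (Or.inr rfl)
    have hcomm : Commute a b := by
      rcases h.eq_or_eq_inv_of_commute_three ha1 ha3 hc1 hc3 hca with e1 | e1 <;> rw [e1] at hcb
      · exact hcb.symm
      · exact (Commute.inv_right (show Commute b a⁻¹ from hcb)).symm |> fun h9 => by simpa using h9
    rcases h.eq_or_eq_inv_of_commute_three ha1 ha3 hb hb3 hcomm with e1 | e1
    exacts [hba e1, hba' e1]

end CfsgLib.Icosa
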