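import Mathlib
import Cfsg.Agent.Lib.Icosa.Exists

/-!
# Zassenhaus' theorem on nonsolvable fixed-point-free groups

The subgroup generated by an icosahedral pair is normal, contains all elements of order three, and
together with its centralizer has index at most two.
-/

set_option autoImplicit false
set_option linter.unusedSectionVars false

namespace CfsgLib.Icosa

open Subgroup

variable {G : Type*} [Group G] [Finite G] {V : Type*} [AddCommGroup V] [Module ℂ V] [FiniteDimensional ℂ V]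
  [Nontrivial V] {ρ : G →* Module.End ℂ V}

theorem lnk_conj (a b g : G) :
    lnk ρ (g * a * g⁻¹) (g * b * g⁻¹) = ρ g * lnk ρ a b * ρ g⁻¹ := by
  have h1 : ρ g⁻¹ * ρ g = 1 := by rw [← map_mul, inv_mul_cancel, map_one]
  have h2 : ρ g * ρ g⁻¹ = 1 := by rw [← map_mul, mul_inv_cancel, map_one]
  simp only [lnk, map_mul, mul_add, add_mul, mul_one, mul_assoc, h2]
  simp only [← mul_assoc (ρ g⁻¹) (ρ g), h1, one_mul]

namespace IcosaPair

variable {a b : G} (P : IcosaPair ρ a b)
include P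

theorem card_closure : Nat.card (closure ({a, b} : Set G)) = Nat.card SL25 := by
  obtain ⟨e⟩ := P.nonempty_iso
  exact Nat.card_congr e.toEquiv

/-- Every element of the subgroup is the value of a tabulated word. -/
theorem exists_idx {g : G} (hg : g ∈ closure ({a, b} : Set G)) :
    ∃ i : Fin 120, g = wordG a b (words.getD i []) ∧ ρ g = ev P.kap (ρ a) (ρ b) (elem i) := by
  obtain ⟨w, rfl⟩ := P.exists_word hg
  refine ⟨⟨idxW w, (idxW_spec w).1⟩, P.word_eq w, ?_⟩
  rw [P.rho_word]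
  exact congrArg _ (idxW_spec w).2

theorem idx_zero : wordG a b (words.getD 0 []) = 1 := by
  refine P.fpf.injective ?_
  rw [P.rho_word, map_one]
  show ev P.kap (ρ a) (ρ b) (elem 0) = 1
  rw [words_zero, ev_scal, map_one]

/-- All elements of order three lie in the icosahedral subgroup. -/
theorem mem_of_three {c : G} (hc : c ≠ 1) (hc3 : c ^ 3 = 1) : c ∈ closure ({a, b} : Set G) := by
  have h := P.fpf
  by_contra hmem
  have haI : a ∈ closure ({a, b} : Set G) := subset_closure (Or.inl rfl)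
  rcases lnk_trichotomy h hc hc3 P.ha P.ha3 (fun e => hmem (e ▸ haI))
      (fun e => hmem (by rw [← inv_inv c, ← e]; exact inv_mem haI)) with e | e | e
  · exact hmem (mem_of_tame P hc hc3 (Or.inl e))
  · exact hmem (mem_of_tame P hc hc3 (Or.inr e))
  have hsym : ∀ x y : G, lnk ρ x y = lnk ρ y x := fun x y => by simp only [lnk]; abel
  have Q : IcosaPair ρ a c := ⟨h, P.ha, P.ha3, hc, hc3, by rw [hsym]; exact e⟩
  have hmemJ : ∀ l : List (List Bool),
      (link Phi.phi (cls l 0) genA = scal 0 ∨ link Phi.phi (cls l 0) genA = scal 1) →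
      qmul Phi.phi (cls l 0) (cls l 0) + cls l 0 + scal 1 = 0 →
      wordG a b (l.getD 0 []) ∈ closure ({a, c} : Set G) := by
    intro l hl ho
    have hev : ρ (wordG a b (l.getD 0 [])) = ev P.kap (ρ a) (ρ b) (cls l 0) := P.rho_word _
    have h3 := h.three_of_rho (e := wordG a b (l.getD 0 [])) (by
      have h1 := congrArg (ev P.kap (ρ a) (ρ b)) ho
      rw [ev_add, ev_add, ev_qmul P.isPair, ev_scal, map_one, ev_zero, ← hev] at h1
      exact h1)
    refine mem_of_tame Q h3.1 h3.2 ?_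
    have key : ev P.kap (ρ a) (ρ b) (link Phi.phi (cls l 0) genA) = lnk ρ (wordG a b (l.getD 0 [])) a := by
      rw [link, ev_add, ev_add, ev_add, ev_add, ev_qmul P.isPair, ev_qmul P.isPair, ← hev, ev_genA, ev_scal,
        map_one, lnk]
    rcases hl with e1 | e1 <;> rw [e1, ev_scal] at key
    · exact Or.inl (by rw [← key, map_zero])
    · exact Or.inr (by rw [← key, map_one])
  have hp := hmemJ classOne class_tame (class_order 0).1
  have hq := hmemJ classTwo class_tame' (class_order 0).2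
  have hb : b ∈ closure ({a, c} : Set G) := by
    have h1 : b = wordG a b (bWord.flatMap genWords) := h.injective (by
      rw [P.rho_word, bWord_spec, ev_genB])
    rw [h1]
    induction bWord with
    | nil => exact one_mem _
    | cons k l ih =>
      rw [List.flatMap_cons, wordG_append]
      refine mul_mem ?_ ih
      fin_cases k
      · show wordG a b [false] ∈ _
        rw [show wordG a b [false] = a by simp [wordG]]
        exact subset_closure (Or.inl rfl)
      · exact hp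
      · exact hq
  have hle : closure ({a, b} : Set G) ≤ closure ({a, c} : Set G) := by
    rw [closure_le]
    rintro x (rfl | rfl)
    exacts [subset_closure (Or.inl rfl), hb]
  have heq := Subgroup.eq_of_le_of_card_ge hle (by rw [P.card_closure, Q.card_closure])
  exact hmem (heq ▸ subset_closure (Or.inr rfl))

theorem normal : (closure ({a, b} : Set G)).Normal := by
  refine ⟨fun x hx g => ?_⟩
  have hle : (closure ({a, b} : Set G)).map (MulAut.conj g).toMonoidHom ≤ closure ({a, b} : Set G) := by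
    rw [MonoidHom.map_closure, closure_le]
    rintro _ ⟨y, hy, rfl⟩
    have key : ∀ {z : G}, z ≠ 1 → z ^ 3 = 1 → g * z * g⁻¹ ∈ closure ({a, b} : Set G) := fun h1 h3 =>
      P.mem_of_three (fun e => h1 (conj_eq_one_iff.1 e)) (by rw [conj_pow, h3, mul_one, mul_inv_cancel])
    rcases hy with rfl | rfl
    exacts [key P.ha P.ha3, key P.hb P.hb3]
  exact hle ⟨x, hx, rfl⟩

/-- Conjugation is inner up to the twist `(a, b) ↦ (a, b⁻¹)` and the centralizer. -/
theorem conj_form (g : G) : ∃ k ∈ closure ({a, b} : Set G),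
    (k⁻¹ * g) * a * (k⁻¹ * g)⁻¹ = a ∧
      ((k⁻¹ * g) * b * (k⁻¹ * g)⁻¹ = b ∨ (k⁻¹ * g) * b * (k⁻¹ * g)⁻¹ = b⁻¹) := by
  have h := P.fpf
  have hn := P.normal
  obtain ⟨i, hi, hρi⟩ := P.exists_idx (hn.conj_mem a (subset_closure (Or.inl rfl)) g)
  obtain ⟨j, hj, hρj⟩ := P.exists_idx (hn.conj_mem b (subset_closure (Or.inr rfl)) g)
  have hthree : ∀ (x : G) (l : Fin 120), x ≠ 1 → x ^ 3 = 1 → ρ x = ev P.kap (ρ a) (ρ b) (elem l) →
      (l : ℕ) ∈ threeIdx := by
    intro x l hx hx3 hl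
    by_contra hnot
    obtain ⟨hn1, hn2⟩ := three_complete l hnot
    exact P.ne_zero_of_nonvanish hn1 hn2 (by
      rw [ev_add, ev_add, ev_qmul P.isPair, ev_scal, map_one, ← hl, h.three hx hx3])
  have hconj : ∀ {z : G}, z ≠ 1 → z ^ 3 = 1 → g * z * g⁻¹ ≠ 1 ∧ (g * z * g⁻¹) ^ 3 = 1 := fun h1 h3 =>
    ⟨fun e => h1 (conj_eq_one_iff.1 e), by rw [conj_pow, h3, mul_one, mul_inv_cancel]⟩
  rcases pair_complete i (hthree _ i (hconj P.ha P.ha3).1 (hconj P.ha P.ha3).2 hρi) j
      (hthree _ j (hconj P.hb P.hb3).1 (hconj P.hb P.hb3).2 hρj) with ⟨t, ht, ht1, ht2⟩ | hnv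
  swap
  · exfalso
    refine P.ne_zero_of_nonvanish hnv.1 hnv.2 ?_
    have key : ev P.kap (ρ a) (ρ b) (link Phi.phi (elem i) (elem j)) =
        ρ g * lnk ρ a b * ρ g⁻¹ := by
      rw [← lnk_conj, link, ev_add, ev_add, ev_add, ev_add, ev_qmul P.isPair, ev_qmul P.isPair, ← hρi, ← hρj,
        ev_scal, map_one, lnk]
    have h1 : ρ g⁻¹ * ρ g = 1 := by rw [← map_mul, inv_mul_cancel, map_one]
    have h2 : ρ g * ρ g⁻¹ = 1 := by rw [← map_mul, mul_inv_cancel, map_one]
    rw [ev_sub, ev_sub, ev_qmul P.isPair, key, ev_scal, map_one,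
      show ρ g * lnk ρ a b * ρ g⁻¹ * (ρ g * lnk ρ a b * ρ g⁻¹) =
        ρ g * (lnk ρ a b * (ρ g⁻¹ * ρ g) * lnk ρ a b) * ρ g⁻¹ by simp only [mul_assoc],
      h1, mul_one, P.hx, mul_add, add_mul, mul_one, h2]
    abel
  obtain ⟨hk120, hka, hkb⟩ := pair_conj t ht
  set k := wordG a b (words.getD t.2.2.1 []) with hk
  have hρk : ρ k = ev P.kap (ρ a) (ρ b) (elem t.2.2.1) := P.rho_word _
  refine ⟨k, wordG_mem a b _, ?_, ?_⟩
  · have e := congrArg (ev P.kap (ρ a) (ρ b)) hka
    rw [ev_qmul P.isPair, ev_qmul P.isPair, ev_genA, ht1, ← hρk, ← hρi, ← map_mul, ← map_mul] at e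
    have h1 : k * a = (g * a * g⁻¹) * k := h.injective e
    calc k⁻¹ * g * a * (k⁻¹ * g)⁻¹ = k⁻¹ * ((g * a * g⁻¹) * k) := by group
      _ = a := by rw [← h1, inv_mul_cancel_left]
  · have key : ∀ y : G, ρ y = ev P.kap (ρ a) (ρ b) (bif t.2.2.2 then -scal 1 - genB else genB) →
        (k⁻¹ * g) * b * (k⁻¹ * g)⁻¹ = y := fun y hy => by
      have h1 : k * y = (g * b * g⁻¹) * k := h.injective (by
        rw [map_mul ρ k, map_mul ρ (g * b * g⁻¹), hρk, hρj, hy, ← ev_qmul P.isPair, ← ev_qmul P.isPair, hkb, ht2])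
      calc k⁻¹ * g * b * (k⁻¹ * g)⁻¹ = k⁻¹ * ((g * b * g⁻¹) * k) := by group
        _ = y := by rw [← h1, inv_mul_cancel_left]
    cases hflag : t.2.2.2
    · exact Or.inl (key b (by rw [hflag]; exact ev_genB.symm))
    · refine Or.inr (key b⁻¹ ?_)
      rw [hflag, cond_true, ev_sub, ev_neg, ev_scal, map_one, ev_genB, h.inv_three P.hb P.hb3]

/-- The central involution. -/
theorem exists_neg : ∃ z ∈ closure ({a, b} : Set G), ρ z = -1 ∧ z ≠ 1 ∧ z ^ 2 = 1 ∧
    (∀ k ∈ closure ({a, b} : Set G), Commute k a → Commute k b → k = 1 ∨ k = z) := by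
  have h := P.fpf
  set z := wordG a b (words.getD negIdx [])
  have hz : ρ z = -1 := by
    rw [P.rho_word]
    show ev P.kap (ρ a) (ρ b) (elem negIdx) = -1
    rw [elem_neg.1, ev_neg, ev_scal, map_one]
  refine ⟨z, wordG_mem a b _, hz, fun e => ?_, h.injective (by rw [map_pow, hz, map_one, neg_one_sq]), ?_⟩
  · refine h.natCast_ne_zero (n := 2) two_ne_zero ?_
    rw [Nat.cast_two, ← one_add_one_eq_two]
    nth_rw 1 [← map_one ρ]
    rw [← e, hz, neg_add_cancel]
  intro k hk hka hkb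
  obtain ⟨i, hi, -⟩ := P.exists_idx hk
  have key : ∀ t : Bool, Commute k (bif t then b else a) →
      idxW (words.getD i [] ++ [t]) = idxW (t :: words.getD i []) := fun t hc => P.idxW_eq (by
    rw [show t :: words.getD i [] = [t] ++ words.getD i [] from rfl, wordG_append, wordG_append, ← hi]
    have h1 : wordG a b [t] = bif t then b else a := by simp [wordG]
    rw [h1]
    exact hc.eq)
  have hcheck : ∀ i : Fin 120, idxW (words.getD i [] ++ [false]) = idxW (false :: words.getD i []) →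
      idxW (words.getD i [] ++ [true]) = idxW (true :: words.getD i []) → (i : ℕ) = 0 ∨ (i : ℕ) = negIdx := by
    decide +kernel
  rcases hcheck i (key false hka) (key true hkb) with e | e
  · left; rw [hi, e, P.idx_zero]
  · right; rw [hi, e]

theorem exists_five : ∃ v ∈ closure ({a, b} : Set G), v ≠ 1 ∧ v ^ 5 = 1 := by
  refine ⟨wordG a b [false, true, false, true], wordG_mem a b _, fun e => ?_, ?_⟩
  · have h1 := P.idxW_eq (w := [false, true, false, true]) (w' := []) (by rw [e]; rfl)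
    exact absurd h1 (by decide +kernel)
  · simp only [pow_succ, pow_zero, one_mul, ← wordG_append]
    refine (P.eq_of_evalW_eq (w' := []) ?_).trans rfl
    decide +kernel

theorem exists_four : ∃ v ∈ closure ({a, b} : Set G), ρ v * ρ v = -1 := by
  refine ⟨wordG a b fourWord, wordG_mem a b _, ?_⟩
  rw [P.rho_word, ← ev_qmul P.isPair, fourWord_sq, ev_neg, ev_scal, map_one]

/-- The only elements of order dividing thirty in the centralizer are central in the subgroup. -/
theorem centralizer_small {w : G} (hwa : Commute w a) (hwb : Commute w b)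
    (hw : w ^ 3 = 1 ∨ w ^ 5 = 1 ∨ w ^ 4 = 1) : w ∈ closure ({a, b} : Set G) := by
  have h := P.fpf
  have hwI : ∀ v ∈ closure ({a, b} : Set G), Commute w v := fun v hv => by
    refine Subgroup.closure_induction (fun x hx => ?_) (Commute.one_right w)
      (fun x y _ _ hx hy => hx.mul_right hy) (fun x _ hx => hx.inv_right) hv
    rcases hx with rfl | rfl
    exacts [hwa, hwb]
  by_cases hw1 : w = 1
  · exact hw1 ▸ one_mem _
  rcases hw with hw | hw | hw
  · exact P.mem_of_three hw1 hw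
  · obtain ⟨v, hv, hv1, hv5⟩ := P.exists_five
    obtain ⟨i, -, rfl⟩ := h.exists_pow_eq (Nat.prime_five) hv1 hv5 hw (hwI v hv).symm
    exact pow_mem hv i
  · obtain ⟨z, hz, hρz, hz1, hz2, -⟩ := P.exists_neg
    by_cases hw2 : w ^ 2 = 1
    · rw [h.eq_of_sq_one hw1 hw2 hz1 hz2]
      exact hz
    obtain ⟨v, hv, hvv⟩ := P.exists_four
    have h1 : ρ (w ^ 2) = -1 := h.sq_one hw2 (by rw [← pow_mul]; exact hw)
    have h2 : (w * v) ^ 2 = 1 := h.injective (by
      rw [(hwI v hv).mul_pow, map_mul, h1, map_pow, pow_two, hvv, map_one, neg_mul_neg, one_mul])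
    by_cases h3 : w * v = 1
    · rw [eq_inv_of_mul_eq_one_left h3]; exact inv_mem hv
    · rw [eq_mul_inv_of_mul_eq (h.eq_of_sq_one h3 h2 hz1 hz2)]
      exact mul_mem hz (inv_mem hv)

/-- The structure theorem. -/
theorem structure_thm :
    (closure ({a, b} : Set G)).Normal ∧ ∃ M : Subgroup G, M.Normal ∧ (Nat.card M).Coprime 30 ∧ IsZGroup M ∧
      closure ({a, b} : Set G) ⊓ M = ⊥ ∧ (∀ s ∈ closure ({a, b} : Set G), ∀ x ∈ M, s * x = x * s) ∧
      ((closure ({a, b} : Set G)) ⊔ M).index ≤ 2 ∧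
      centralizer ({a, b} : Set G) ≤ closure ({a, b} : Set G) ⊔ M := by
  have h := P.fpf
  have : Fact (Nat.Prime 2) := ⟨Nat.prime_two⟩
  set I := closure ({a, b} : Set G) with hI
  have hIn : I.Normal := P.normal
  obtain ⟨z, hzI, hρz, hz1, hz2, hzc⟩ := P.exists_neg
  set C := centralizer ({a, b} : Set G) with hC
  have hCcomm : ∀ c ∈ C, Commute c a ∧ Commute c b := fun c hc =>
    ⟨(mem_centralizer_iff.1 hc a (Or.inl rfl)).symm, (mem_centralizer_iff.1 hc b (Or.inr rfl)).symm⟩
  have hCn : C.Normal := by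
    rw [hC, ← centralizer_closure]
    infer_instance
  have hzC : z ∈ C := by
    refine mem_centralizer_iff.2 fun x _ => h.injective ?_
    rw [map_mul, map_mul, hρz, mul_neg, neg_mul, mul_one, one_mul]
  have hsmall : ∀ c ∈ C, c ^ 3 = 1 ∨ c ^ 5 = 1 ∨ c ^ 4 = 1 → c = 1 ∨ c = z := fun c hc hh =>
    hzc c (P.centralizer_small (hCcomm c hc).1 (hCcomm c hc).2 hh) (hCcomm c hc).1 (hCcomm c hc).2
  obtain ⟨S⟩ : Nonempty (Sylow 2 C) := inferInstance
  have hS2 : ∀ s ∈ (S : Subgroup C), s = 1 ∨ s = ⟨z, hzC⟩ := by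
    intro s hs
    obtain ⟨n, hn⟩ := IsPGroup.iff_orderOf.1 S.2 ⟨s, hs⟩
    rw [orderOf_mk, ← orderOf_coe] at hn
    rcases Nat.lt_or_ge n 3 with hn3 | hn3
    · rcases hsmall s s.2 (Or.inr (Or.inr (orderOf_dvd_iff_pow_eq_one.1 (by
        rw [hn]; exact (pow_dvd_pow 2 (show n ≤ 2 by omega)).trans (by norm_num))))) with e | e
      exacts [Or.inl (Subtype.ext e), Or.inr (Subtype.ext e)]
    · exfalso
      set t := (s : G) ^ 2 ^ (n - 2) with ht
      have hto : orderOf t = 4 := by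
        rw [ht, orderOf_pow' _ (by positivity), hn, Nat.gcd_eq_right (pow_dvd_pow 2 (Nat.sub_le n 2)),
          Nat.pow_div (Nat.sub_le n 2) two_pos, show n - (n - 2) = 2 by omega]
        norm_num
      rcases hsmall t (pow_mem s.2 _) (Or.inr (Or.inr (by rw [← hto]; exact pow_orderOf_eq_one t))) with e | e
      · rw [e, orderOf_one] at hto; omega
      · rw [e] at hto
        have := orderOf_dvd_of_pow_eq_one hz2
        rw [hto] at this
        norm_num at this
  obtain ⟨Q, N, hN, hc⟩ : Cfsg.HasNormalPComplement 2 C := by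
    refine CfsgLib.Transfer.hasNormalPComplement_of_normalizer_le_centralizer S fun g _ => ?_
    refine mem_centralizer_iff.2 fun s hs => ?_
    rcases hS2 s hs with rfl | rfl
    · simp
    · exact Subtype.ext (h.injective (by
        rw [coe_mul, coe_mul, map_mul, map_mul, hρz, mul_neg, neg_mul, mul_one, one_mul]))
  have hodd : ¬ 2 ∣ Nat.card N := fun hd => Q.not_dvd_index (hc.index_eq_card ▸ hd)
  have hidx : N.index = 2 := by
    rw [hc.symm.index_eq_card]
    have h2 : Nat.card (Q : Subgroup C) = Nat.card (S : Subgroup C) := by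
      rw [Q.card_eq_multiplicity, S.card_eq_multiplicity]
    rw [h2]
    have hzS : (⟨z, hzC⟩ : C) ∈ (S : Subgroup C) := by
      by_contra hzS
      have hbot : (S : Subgroup C) = ⊥ := (eq_bot_iff_forall _).2 fun s hs =>
        (hS2 s hs).resolve_right fun e => hzS (e ▸ hs)
      have hdvd : 2 ∣ Nat.card C := by
        have h3 : orderOf (⟨z, hzC⟩ : C) = 2 := orderOf_eq_prime (Subtype.ext hz2) fun e => hz1 (congrArg Subtype.val e)
        exact h3 ▸ orderOf_dvd_natCard _
      have h4 := S.dvd_card_of_dvd_card hdvd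
      rw [hbot, card_bot] at h4
      norm_num at h4
    rw [Nat.card_eq_two_iff' (⟨1, one_mem _⟩ : (S : Subgroup C))]
    exact ⟨⟨_, hzS⟩, fun e => hz1 (congrArg (fun u : (S : Subgroup C) => ((u : C) : G)) e),
      fun u hu => Subtype.ext ((hS2 u u.2).resolve_left fun e => hu (Subtype.ext e))⟩
  set M := N.map C.subtype with hM
  have hMC : M ≤ C := map_subtype_le N
  have hMcard : Nat.card M = Nat.card N := card_map_of_injective C.subtype_injective
  have hmemN : ∀ x : C, x ∈ N ↔ ¬ 2 ∣ orderOf (x : G) := by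
    intro x
    constructor
    · intro hx hd
      exact hodd (hd.trans (by
        rw [orderOf_coe]
        exact (orderOf_mk x hx).symm ▸ orderOf_dvd_natCard (⟨x, hx⟩ : N)))
    · intro hx
      have h1 : x ^ 2 ∈ N := by
        have := hidx ▸ N.pow_index_mem x
        exact this
      obtain ⟨m, hm⟩ := exists_pow_eq_self_of_coprime (x := x) ((Nat.prime_two.coprime_iff_not_dvd.2 (by
        rwa [← orderOf_coe])))
      exact hm ▸ pow_mem h1 m
  have hMn : M.Normal := by
    refine ⟨fun x hx g => ?_⟩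
    obtain ⟨y, hy, rfl⟩ := hx
    refine ⟨⟨g * y * g⁻¹, hCn.conj_mem _ y.2 g⟩, (hmemN _).2 ?_, rfl⟩
    show ¬ 2 ∣ orderOf (g * y * g⁻¹)
    rw [show orderOf (g * (y : G) * g⁻¹) = orderOf (y : G) from
      orderOf_injective (MulAut.conj g).toMonoidHom (MulAut.conj g).injective _]
    exact (hmemN y).1 hy
  have hinf : I ⊓ M = ⊥ := by
    refine (eq_bot_iff_forall _).2 fun x hx => ?_
    obtain ⟨hxI, y, hy, rfl⟩ := Subgroup.mem_inf.1 hx
    rcases hzc _ hxI (hCcomm _ y.2).1 (hCcomm _ y.2).2 with e | e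
    · exact e
    · exfalso
      refine (hmemN y).1 hy ?_
      rw [show (y : G) = z from e, orderOf_eq_prime hz2 hz1]
  have hcop : (Nat.card M).Coprime 30 := by
    rw [show (30 : ℕ) = 2 * 3 * 5 from rfl]
    have key : ∀ p : ℕ, p.Prime → (p = 3 ∨ p = 5) → ¬ p ∣ Nat.card M := by
      intro p hp hp35 hd
      have := Fact.mk hp
      obtain ⟨x, hx⟩ := exists_prime_orderOf_dvd_card' p hd
      have hxp : (x : G) ^ p = 1 := by rw [← hx, ← orderOf_coe]; exact pow_orderOf_eq_one _
      have hx1 : (x : G) ≠ 1 := fun e => by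
        rw [← orderOf_coe, e, orderOf_one] at hx; exact hp.ne_one hx.symm
      rcases hsmall x (hMC x.2) (by rcases hp35 with rfl | rfl; exacts [Or.inl hxp, Or.inr (Or.inl hxp)]) with e | e
      · exact hx1 e
      · rw [← orderOf_coe, e, orderOf_eq_prime hz2 hz1] at hx
        omega
    exact ((Nat.prime_two.coprime_iff_not_dvd.2 (hMcard ▸ hodd)).symm.mul_right
      (Nat.prime_three.coprime_iff_not_dvd.2 (key 3 Nat.prime_three (Or.inl rfl))).symm).mul_right
      (Nat.prime_five.coprime_iff_not_dvd.2 (key 5 Nat.prime_five (Or.inr rfl))).symm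
  have hZ : IsZGroup M := ⟨fun p hp T => by
    have := Fact.mk hp
    rcases eq_or_ne p 2 with rfl | hp2
    · have hb : (T : Subgroup M) = ⊥ := eq_bot_of_card_eq _ (by
        rw [T.card_eq_multiplicity, Nat.factorization_eq_zero_of_not_dvd (hMcard ▸ hodd), pow_zero])
      rw [hb]
      infer_instance
    · exact (h.restrict M).isCyclic_of_odd hp2 T.2⟩
  have hCle : C ≤ I ⊔ M := by
    intro c hc'
    by_cases hcN : (⟨c, hc'⟩ : C) ∈ N
    · exact mem_sup_right (mem_map_of_mem C.subtype hcN)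
    · have hzN : (⟨z, hzC⟩ : C) ∉ N := fun hz' =>
        (hmemN _).1 hz' (by rw [show ((⟨z, hzC⟩ : C) : G) = z from rfl, orderOf_eq_prime hz2 hz1])
      have h3 : (⟨c, hc'⟩ : C) * ⟨z, hzC⟩ ∈ N :=
        (Subgroup.mul_mem_iff_of_index_two hidx).2 (iff_of_false hcN hzN)
      have h4 : c * z ∈ I ⊔ M := mem_sup_right (mem_map_of_mem C.subtype h3)
      simpa using mul_mem h4 (inv_mem (mem_sup_left (T := M) hzI))
  have hindex : (I ⊔ M).index ≤ 2 := by
    have hn0 : (I ⊔ M).Normal := inferInstance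
    have hform : ∀ g, g ∉ I ⊔ M → ∃ k ∈ I, (k⁻¹ * g) * a * (k⁻¹ * g)⁻¹ = a ∧
        (k⁻¹ * g) * b * (k⁻¹ * g)⁻¹ = b⁻¹ := by
      intro g hg
      obtain ⟨k, hk, hka, hkb⟩ := P.conj_form g
      refine ⟨k, hk, hka, hkb.resolve_left fun hkb' => hg ?_⟩
      have h1 : k⁻¹ * g ∈ C := mem_centralizer_iff.2 fun x hx => by
        rcases hx with rfl | rfl
        exacts [(mul_inv_eq_iff_eq_mul.1 hka).symm, (mul_inv_eq_iff_eq_mul.1 hkb').symm]
      simpa using mul_mem (mem_sup_left (T := M) hk) (hCle h1)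
    by_cases htop : ∀ g, g ∈ I ⊔ M
    · rw [(eq_top_iff' _).2 htop, index_top]; norm_num
    push Not at htop
    obtain ⟨g₀, hg₀⟩ := htop
    have hpair : ∀ g g', g ∉ I ⊔ M → g' ∉ I ⊔ M → g⁻¹ * g' ∈ I ⊔ M := by
      intro g g' hg hg'
      obtain ⟨k, hk, hka, hkb⟩ := hform g hg
      obtain ⟨k', hk', hka', hkb'⟩ := hform g' hg'
      set u := k⁻¹ * g with hu
      set u' := k'⁻¹ * g'
      have h1 : u⁻¹ * u' ∈ C := mem_centralizer_iff.2 fun x hx => by
        have key : u * x * u⁻¹ = u' * x * u'⁻¹ := by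
          rcases hx with rfl | rfl
          exacts [hka.trans hka'.symm, hkb.trans hkb'.symm]
        calc x * (u⁻¹ * u') = u⁻¹ * (u * x * u⁻¹) * u' := by group
          _ = u⁻¹ * u' * x := by rw [key]; group
      have h2 : u⁻¹ * (k⁻¹ * k') * u⁻¹⁻¹ ∈ I := hIn.conj_mem _ (mul_mem (inv_mem hk) hk') _
      have h3 := mul_mem (mem_sup_left (T := M) h2) (hCle h1)
      rwa [show u⁻¹ * (k⁻¹ * k') * u⁻¹⁻¹ * (u⁻¹ * u') = g⁻¹ * g' by simp only [hu, u']; group] at h3
    refine le_of_eq (index_eq_two_iff.2 ⟨g₀⁻¹, fun g => ?_⟩)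
    by_cases hg : g ∈ I ⊔ M
    · refine Or.inr ⟨hg, fun h5 => hg₀ ?_⟩
      simpa using inv_mem (mul_mem (inv_mem hg) h5)
    · exact Or.inl ⟨hn0.mem_comm (hpair g₀ g hg₀ hg), hg⟩
  refine ⟨hIn, M, hMn, hcop, hZ, hinf, fun s hs x hx => ?_, hindex, hCle⟩
  refine Subgroup.closure_induction (p := fun s _ => s * x = x * s) (fun y hy => mem_centralizer_iff.1 (hMC hx) y hy)
    (by simp) (fun u v _ _ hu hv => ?_) (fun u _ hu => ?_) hs
  · exact (Commute.mul_left hu hv).eq
  · exact (Commute.inv_left hu).eq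

end IcosaPair

/-- Zassenhaus: the structure of a nonsolvable fixed-point-free group. -/
theorem zassenhaus_structure (h : IsFPF ρ) (hns : ¬ Group.IsSolvable G) :
    ∃ S M : Subgroup G, S.Normal ∧ M.Normal ∧ Nonempty (S ≃* SL25) ∧ (Nat.card M).Coprime 30 ∧ IsZGroup M ∧
      S ⊓ M = ⊥ ∧ (∀ s ∈ S, ∀ x ∈ M, s * x = x * s) ∧ (S ⊔ M).index ≤ 2 := by
  obtain ⟨a, b, P⟩ := exists_icosaPair h hns
  obtain ⟨hn, M, h1, h2, h3, h4, h5, h6, -⟩ := P.structure_thm
  exact ⟨_, M, hn, h1, P.nonempty_iso, h2, h3, h4, h5, h6⟩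

end CfsgLib.Icosa
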