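import Mathlib
import Cfsg.Agent.Lib.Icosa.Main
import Cfsg.Agent.Lib.Icosa.Complex
import Cfsg.Agent.Lib.FGS.FPFComplement
import Cfsg.Agent.S4292

/-!
# The structure theorem for Frobenius complements
-/

set_option autoImplicit false

universe u

namespace CfsgLib.Icosa

open scoped Pointwise

theorem isFrobeniusComplement_map_equiv {S L : Type*} [Group S] [Group L] (E : S ≃* L) {C : Subgroup S}
    (hC : Cfsg.IsFrobeniusComplement C) : Cfsg.IsFrobeniusComplement (C.map E.toMonoidHom) := by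
  refine ⟨?_, ?_, ?_⟩
  · rw [Ne, Subgroup.map_eq_bot_iff_of_injective _ E.injective]
    exact hC.1
  · intro h
    apply hC.2.1
    rw [← Subgroup.comap_map_eq_self_of_injective (f := E.toMonoidHom) E.injective C, h, Subgroup.comap_top]
  · intro g hg
    obtain ⟨s, rfl⟩ := E.surjective g
    have hs : s ∉ C := fun h => hg ⟨s, h, rfl⟩
    rw [Subgroup.eq_bot_iff_forall]
    rintro x ⟨⟨a, ha, rfl⟩, hx⟩
    replace hx : E a ∈ MulAut.conj (E s) • C.map E.toMonoidHom := hx
    rw [Subgroup.mem_pointwise_smul_iff_inv_smul_mem] at hx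
    obtain ⟨b, hb, hb'⟩ := hx
    rw [MulAut.smul_def, MulAut.conj_inv_apply, ← map_inv] at hb'
    change E b = _ * E a * E s at hb'
    rw [← map_mul, ← map_mul, E.injective.eq_iff] at hb'
    have : a ∈ MulAut.conj s • C := by
      rw [Subgroup.mem_pointwise_smul_iff_inv_smul_mem, MulAut.smul_def, MulAut.conj_inv_apply, ← hb']
      exact hb
    have h1 := Subgroup.eq_bot_iff_forall _ |>.1 (hC.2.2 s hs) a ⟨ha, this⟩
    simp [h1]

/-- A fixed-point-free automorphism group is a Frobenius complement. -/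
theorem exists_complement_of_aut {K : Type*} [Group K] [Finite K] [Nontrivial K] (H : Subgroup (MulAut K))
    [Nontrivial H] (hfpf : ∀ φ ∈ H, φ ≠ 1 → ∀ k : K, φ k = k → k = 1) :
    ∃ (L : Type) (_ : Group L) (_ : Finite L) (C : Subgroup L),
      Cfsg.IsFrobeniusComplement C ∧ Nonempty (H ≃* C) := by
  have : Finite (MulAut K) := Finite.of_injective _ DFunLike.coe_injective
  let φ : H →* MulAut K := H.subtype
  let S := K ⋊[φ] H
  have : Finite S := Finite.of_equiv _ (SemidirectProduct.equivProd (φ := φ)).symm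
  obtain ⟨L, hLg, hLf, ⟨E'⟩⟩ := CfsgLib.FGS.exists_small S
  let E : S ≃* L := E'.symm
  have hC := CfsgLib.FGS.isFrobeniusComplement_inr φ
    (fun k hk v hv => hfpf k k.2 (fun e => hk (Subtype.ext e)) v hv)
  exact ⟨L, hLg, hLf, _, isFrobeniusComplement_map_equiv E hC,
    ⟨(MonoidHom.ofInjective SemidirectProduct.inr_injective).trans (Subgroup.equivMapOfInjective _ _ E.injective)⟩⟩

/-- Every Frobenius complement has a fixed-point-free complex representation. -/
theorem exists_fpf_rep {A : Type u} [Group A] [Finite A]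
    (h : ∃ (L : Type) (_ : Group L) (_ : Finite L) (H : Subgroup L), Cfsg.IsFrobeniusComplement H ∧ Nonempty (A ≃* H)) :
    ∃ (V : Type u) (_ : AddCommGroup V) (_ : Module ℂ V) (_ : FiniteDimensional ℂ V) (_ : Nontrivial V)
      (ρ : A →* Module.End ℂ V), IsFPF ρ := by
  obtain ⟨r, hr, hrA, h1⟩ := Cfsg.Agent.S4292.exists_rep h
  have := hr
  exact exists_complex_rep hrA h1

/-- The structure of a nonsolvable Frobenius complement. -/
theorem complement_structure {A : Type u} [Group A] [Finite A] (hns : ¬ Group.IsSolvable A)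
    (h : ∃ (L : Type) (_ : Group L) (_ : Finite L) (H : Subgroup L), Cfsg.IsFrobeniusComplement H ∧ Nonempty (A ≃* H)) :
    ∃ S M : Subgroup A, S.Normal ∧ M.Normal ∧ Nonempty (S ≃* SL25) ∧ (Nat.card M).Coprime 30 ∧ IsZGroup M ∧
      S ⊓ M = ⊥ ∧ (∀ s ∈ S, ∀ x ∈ M, s * x = x * s) ∧ (S ⊔ M).index ≤ 2 := by
  obtain ⟨V, _, _, _, _, ρ, hρ⟩ := exists_fpf_rep h
  exact zassenhaus_structure hρ hns

end CfsgLib.Icosa
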