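import Mathlib
import Cfsg.Agent.Lib.Icosa.Complement
import Cfsg.Agent.Lib.FGS.FPFComplement
import Cfsg.Agent.S2904

/-!
# Nonsolvable linear groups regular on the nonzero vectors
-/

set_option autoImplicit false
set_option linter.unusedSectionVars false

namespace CfsgLib.Icosa

variable {p : ℕ} [Fact p.Prime] {V : Type*} [AddCommGroup V] [Module (ZMod p) V] [Finite V]

/-- If some vector is cyclic for `f`, the endomorphisms commuting with `f` commute with each other. -/
theorem commute_of_cyclic (f : Module.End (ZMod p) V) (v : V)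
    (hv : ∀ y : V, ∃ l ∈ Algebra.adjoin (ZMod p) ({f} : Set (Module.End (ZMod p) V)), l v = y)
    {g h : Module.End (ZMod p) V} (hg : Commute g f) (hh : Commute h f) : Commute g h := by
  have key : ∀ k : Module.End (ZMod p) V, Commute k f →
      ∀ l ∈ Algebra.adjoin (ZMod p) ({f} : Set (Module.End (ZMod p) V)), Commute k l := by
    intro k hk l hl
    induction hl using Algebra.adjoin_induction with
    | mem x hx => rw [Set.mem_singleton_iff.1 hx]; exact hk
    | algebraMap r => exact Algebra.commute_algebraMap_right r k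
    | add x y _ _ hx hy => exact hx.add_right hy
    | mul x y _ _ hx hy => exact hx.mul_right hy
  obtain ⟨l, hl, hlv⟩ := hv (g v)
  have hgl : g = l := by
    refine LinearMap.ext fun y => ?_
    obtain ⟨l', hl', rfl⟩ := hv y
    rw [← Module.End.mul_apply, (key g hg l' hl').eq, Module.End.mul_apply, ← hlv, ← Module.End.mul_apply,
      ← Module.End.mul_apply l]
    have hc : Commute l l' := key l (key f (Commute.refl f) l hl).symm l' hl'
    rw [hc.eq]
  rw [hgl]
  exact (key h hh l hl).symm

theorem sq_ne_neg_one_three : ∀ z : ZMod 3, z ^ 2 ≠ -1 := by decide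

variable (H : Subgroup (V ≃ₗ[ZMod p] V))

/-- The endomorphism of an element. -/
def endHom : H →* Module.End (ZMod p) V where
  toFun h := ((h : V ≃ₗ[ZMod p] V) : V →ₗ[ZMod p] V)
  map_one' := rfl
  map_mul' _ _ := rfl

theorem endHom_injective : Function.Injective (endHom H) := fun _ _ e =>
  Subtype.ext (LinearEquiv.toLinearMap_injective e)

set_option maxHeartbeats 4000000 in
theorem sharply_transitive_type_three
    (hreg : ∀ v w : V, v ≠ 0 → w ≠ 0 → ∃! h : H, (h : V ≃ₗ[ZMod p] V) v = w)
    (hsolv : ¬ Group.IsSolvable H) :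
    (Nat.card V = 121 ∧ Nonempty (H ≃* SL25)) ∨
    (Nat.card V = 841 ∧ Nonempty (H ≃* SL25 × Multiplicative (ZMod 7))) ∨
    (Nat.card V = 3481 ∧ Nonempty (H ≃* SL25 × Multiplicative (ZMod 29))) := by
  classical
  have hp : p.Prime := Fact.out
  have : Finite (V ≃ₗ[ZMod p] V) := Finite.of_injective _ DFunLike.coe_injective
  set φ := endHom H with hφ
  have hφi := endHom_injective H
  have hfpf : ∀ h : H, h ≠ 1 → ∀ v, φ h v = v → v = 0 := by
    intro h hh v hv
    by_contra hv0
    exact hh ((hreg v v hv0 hv0).unique hv rfl)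
  have hnt : Nontrivial H := by
    by_contra hc
    rw [not_nontrivial_iff_subsingleton] at hc
    exact hsolv (Group.isSolvable_of_comm fun a b => Subsingleton.elim _ _)
  have hVnt : Nontrivial V := by
    by_contra hc
    rw [not_nontrivial_iff_subsingleton] at hc
    obtain ⟨h, hh⟩ := exists_ne (1 : H)
    exact hh (hφi (LinearMap.ext fun v => Subsingleton.elim _ _))
  obtain ⟨v₀, hv₀⟩ := exists_ne (0 : V)
  -- the order of `H`
  have hcard : Nat.card H + 1 = Nat.card V := by
    let f : Option H → V := fun o => o.elim 0 (fun h => φ h v₀)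
    have hne : ∀ h : H, φ h v₀ ≠ 0 := fun h e => hv₀ ((h : V ≃ₗ[ZMod p] V).map_eq_zero_iff.1 e)
    have hf : Function.Bijective f := by
      constructor
      · rintro (_ | h) (_ | k) e
        · rfl
        · exact absurd e.symm (hne k)
        · exact absurd e (hne h)
        · exact congrArg some ((hreg v₀ _ hv₀ (hne k)).unique e rfl)
      · intro y
        by_cases hy : y = 0
        · exact ⟨none, hy.symm⟩
        · obtain ⟨h, hh, -⟩ := hreg v₀ y hv₀ hy
          exact ⟨some h, hh⟩
    rw [← Finite.card_option]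
    exact Nat.card_congr (Equiv.ofBijective f hf)
  set n := Module.finrank (ZMod p) V with hn
  have hVn : Nat.card V = p ^ n := by
    rw [Module.natCard_eq_pow_finrank (K := ZMod p) (V := V), Nat.card_zmod]
  have hn0 : 0 < n := Module.finrank_pos
  obtain ⟨W, _, _, _, _, ρ, hρ⟩ := exists_fpf_rep
    (CfsgLib.FGS.exists_complement_of_fpf H V (fun h v => φ h v) (fun h u v => map_add _ u v)
      (fun v => rfl) (fun g h v => rfl) hfpf)
  obtain ⟨a, b, P⟩ := exists_icosaPair hρ hsolv
  obtain ⟨hIn, M, hMn, hcop, hZ, hinf, hcomm, hidx, hCle⟩ := P.structure_thm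
  set I := Subgroup.closure ({a, b} : Set H) with hI
  have haI : a ∈ I := Subgroup.subset_closure (Or.inl rfl)
  have hbI : b ∈ I := Subgroup.subset_closure (Or.inr rfl)
  obtain ⟨θ, hθ, hθA, hθB, -⟩ := P.exists_hom
  have hab : ¬ Commute (φ a) (φ b) := fun hc => by
    have h1 : a * b = b * a := hφi (by rw [map_mul, map_mul]; exact hc.eq)
    rw [← hθA, ← hθB, ← map_mul, ← map_mul] at h1
    exact absurd (hθ h1) (by decide +kernel)
  have hSL : Nat.card SL25 = 120 := by
    have hl := mats_nodup
    have hb : Function.Bijective (fun m : SL25 => (⟨code m, code_mem m⟩ : {t // t ∈ mats})) := by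
      refine ⟨fun m n e => code_injective (congrArg Subtype.val e), fun t => ?_⟩
      obtain ⟨i, hi, he⟩ := List.getElem_of_mem t.2
      refine ⟨wordG A5 B5 (words.getD i []), Subtype.ext ?_⟩
      show code _ = (t : ℕ × ℕ × ℕ × ℕ)
      have key : ∀ j : Fin 120, idxW (words.getD j []) = j := by decide +kernel
      rw [code_word, key ⟨i, by rw [← hl.2]; exact hi⟩, ← he]
      exact List.getD_eq_getElem _ _ hi
    rw [Nat.card_congr (Equiv.ofBijective _ hb), Nat.card_congr (List.Nodup.getEquiv mats hl.1).symm,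
      Nat.card_eq_fintype_card, Fintype.card_fin, hl.2]
  have hIcard : Nat.card I = 120 := P.card_closure.trans hSL
  let eIM : I × M ≃* ((I ⊔ M : Subgroup H)) :=
    MulEquiv.ofBijective
      ({ toFun := fun t => ⟨(t.1 : H) * t.2, Subgroup.mul_mem _ (Subgroup.mem_sup_left t.1.2) (Subgroup.mem_sup_right t.2.2)⟩
         map_one' := Subtype.ext (by simp)
         map_mul' := fun s t => Subtype.ext (by
           show ((s.1 * t.1 : I) : H) * ((s.2 * t.2 : M) : H) = (s.1 : H) * s.2 * ((t.1 : H) * t.2)
           rw [Subgroup.coe_mul, Subgroup.coe_mul, mul_assoc, mul_assoc, ← mul_assoc (t.1 : H) (s.2 : H),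
             hcomm _ t.1.2 _ s.2.2, mul_assoc]) } : I × M →* (I ⊔ M : Subgroup H))
      ⟨(injective_iff_map_eq_one _).2 (fun t e => by
        have e1 : (t.1 : H) * t.2 = 1 := congrArg Subtype.val e
        have h2 : (t.1 : H) ∈ I ⊓ M := Subgroup.mem_inf.2 ⟨t.1.2, by rw [eq_inv_of_mul_eq_one_left e1]; exact Subgroup.inv_mem _ t.2.2⟩
        rw [hinf, Subgroup.mem_bot] at h2
        rw [h2, one_mul] at e1
        exact Prod.ext (Subtype.ext h2) (Subtype.ext e1)),
      fun y => by
        obtain ⟨s, hs, w, hw, e⟩ := Subgroup.mem_sup_of_normal_right.1 y.2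
        exact ⟨(⟨s, hs⟩, ⟨w, hw⟩), Subtype.ext e⟩⟩
  have hHcard : Nat.card H = 120 * Nat.card M * (I ⊔ M).index := by
    rw [← (I ⊔ M).card_mul_index, ← Nat.card_congr eIM.toEquiv, Nat.card_prod, hIcard]
  set e := (I ⊔ M).index with he
  have he12 : e = 1 ∨ e = 2 := by
    have := Subgroup.index_ne_zero_of_finite (H := I ⊔ M)
    omega
  have hpn : p ^ n = 120 * Nat.card M * e + 1 := by rw [← hVn, ← hcard, hHcard]
  have hp2 : p ≠ 2 := by
    rintro rfl
    have h1 : (2 ^ n) % 2 = 0 := by
      obtain ⟨k, hk⟩ := Nat.exists_eq_succ_of_ne_zero hn0.ne'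
      rw [hk, pow_succ, Nat.mul_mod_left]
    rw [hpn] at h1
    have h2 : (120 * Nat.card M * e) % 2 = 0 := by rw [mul_assoc, Nat.mul_mod]; norm_num
    omega
  -- primitive primes are at most five
  have hprim : ∀ r : ℕ, r.Prime → r ∣ Nat.card M → (∀ k, 0 < k → k < n → ¬ r ∣ p ^ k - 1) → False := by
    intro r hr hrM hk
    have := Fact.mk hr
    obtain ⟨w, hw⟩ := exists_prime_orderOf_dvd_card' r hrM
    set f := φ (w : H)
    set L := Algebra.adjoin (ZMod p) ({f} : Set (Module.End (ZMod p) V))
    let Wv : Submodule (ZMod p) V := (Subalgebra.toSubmodule L).map (LinearMap.applyₗ v₀)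
    have hfWv : ∀ y ∈ Wv, f y ∈ Wv := by
      rintro y ⟨l, hl, rfl⟩
      exact ⟨f * l, L.mul_mem (Algebra.self_mem_adjoin_singleton _ f) hl, rfl⟩
    have hv₀W : v₀ ∈ Wv := ⟨1, L.one_mem, rfl⟩
    have htop : Wv = ⊤ := by
      by_contra hne
      set d := Module.finrank (ZMod p) Wv
      have hdn : d < n := Submodule.finrank_lt hne
      have hd0 : 0 < d := by
        have : Nontrivial Wv := ⟨⟨⟨v₀, hv₀W⟩, 0, fun e => hv₀ (congrArg Subtype.val e)⟩⟩
        exact Module.finrank_pos
      have hfk : ∀ (k : ℕ) (y : V), y ∈ Wv → (f ^ k) y ∈ Wv := by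
        intro k
        induction k with
        | zero => exact fun y hy => by simpa using hy
        | succ k ih => exact fun y hy => by rw [pow_succ', Module.End.mul_apply]; exact hfWv _ (ih y hy)
      let act : Subgroup.zpowers (w : H) →* Equiv.Perm Wv := MonoidHom.toHomPerm
        { toFun := fun g y => ⟨φ (g : H) y, by
            obtain ⟨k, hk⟩ := (mem_powers_iff_mem_zpowers).2 g.2
            rw [← show (w : H) ^ k = g from hk, map_pow]
            exact hfk k _ y.2⟩
          map_one' := funext fun y => Subtype.ext (by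
            show φ ((1 : Subgroup.zpowers (w : H)) : H) y = _
            rw [OneMemClass.coe_one, map_one]; rfl)
          map_mul' := fun g h => funext fun y => Subtype.ext (by
            show φ ((g * h : Subgroup.zpowers (w : H)) : H) y = φ (g : H) (φ (h : H) y)
            rw [Subgroup.coe_mul, map_mul]; rfl) }
      let _ : MulAction (Subgroup.zpowers (w : H)) Wv := MulAction.compHom _ act
      have hwo : orderOf (w : H) = r := by rw [Subgroup.orderOf_coe, hw]
      have hP : IsPGroup r (Subgroup.zpowers (w : H)) :=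
        IsPGroup.of_card (n := 1) (by rw [Nat.card_zpowers, hwo, pow_one])
      have hfixed : MulAction.fixedPoints (Subgroup.zpowers (w : H)) Wv = {0} := by
        ext y
        constructor
        · intro hy
          have h1 := hy ⟨(w : H), Subgroup.mem_zpowers _⟩
          have hw1 : (w : H) ≠ 1 := fun e => hr.ne_one (by rw [← hwo, e, orderOf_one])
          exact Subtype.ext (hfpf _ hw1 _ (congrArg Subtype.val h1))
        · rintro rfl g
          exact Subtype.ext (map_zero (φ (g : H)))
      have hmod := hP.card_modEq_card_fixedPoints Wv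
      rw [hfixed, Module.natCard_eq_pow_finrank (K := ZMod p) (V := Wv), Nat.card_zmod] at hmod
      simp only [Nat.card_unique] at hmod
      exact hk d hd0 hdn ((Nat.modEq_iff_dvd' (Nat.one_le_pow _ _ hp.pos)).1 hmod.symm)
    refine hab (commute_of_cyclic f v₀ (fun y => ?_) ?_ ?_)
    · obtain ⟨l, hl, rfl⟩ := (htop ▸ Submodule.mem_top : y ∈ Wv)
      exact ⟨l, hl, rfl⟩
    · exact (Commute.map (show Commute a (w : H) from hcomm a haI _ w.2) φ)
    · exact (Commute.map (show Commute b (w : H) from hcomm b hbI _ w.2) φ)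
  have hdvd_cases : ∀ r : ℕ, r.Prime → r ∣ p ^ n - 1 → r = 2 ∨ r = 3 ∨ r = 5 ∨ r ∣ Nat.card M := by
    intro r hr hd
    rw [show p ^ n - 1 = 120 * Nat.card M * e by omega] at hd
    rcases (Nat.Prime.dvd_mul hr).1 hd with h | h
    · rcases (Nat.Prime.dvd_mul hr).1 h with h | h
      · have hle := Nat.le_of_dvd (by norm_num) h
        interval_cases r <;> norm_num at * <;> omega
      · exact Or.inr (Or.inr (Or.inr h))
    · rcases he12 with e1 | e1 <;> rw [e1] at h
      · exact absurd (Nat.dvd_one.1 h) hr.ne_one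
      · exact Or.inl ((Nat.prime_dvd_prime_iff_eq hr Nat.prime_two).1 h)
  have hord : ∀ r k : ℕ, r.Prime → r ∣ p ^ n - 1 → (∀ k, 0 < k → k < n → ¬ r ∣ p ^ k - 1) → n ∣ r - 1 := by
    intro r k hr hd hmin
    have := Fact.mk hr
    have hp0 : (p : ZMod r) ≠ 0 := by
      intro h0
      rw [ZMod.natCast_eq_zero_iff] at h0 <;> skip
      have := (Nat.prime_dvd_prime_iff_eq hr hp).1 h0
      subst this
      have h1 : r ∣ r ^ n := dvd_pow_self r hn0.ne'
      have h2 := Nat.dvd_sub h1 hd
      rw [Nat.sub_sub_self (Nat.one_le_pow _ _ hr.pos)] at h2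
      exact hr.ne_one (Nat.dvd_one.1 h2)
    have hcast : ∀ j, r ∣ p ^ j - 1 ↔ (p : ZMod r) ^ j = 1 := fun j => by
      rw [← ZMod.natCast_eq_zero_iff (p ^ j - 1) r, Nat.cast_sub (Nat.one_le_pow _ _ hp.pos), sub_eq_zero]
      push_cast
      rfl
    have hon : orderOf (p : ZMod r) = n :=
      (orderOf_eq_iff hn0).2 ⟨(hcast n).1 hd, fun j hj hj0 e => hmin j hj0 hj ((hcast j).2 e)⟩
    exact hon ▸ ZMod.orderOf_dvd_card_sub_one hp0
  -- the dimension is two
  have hn2 : n = 2 := by
    rcases Nat.lt_or_ge n 3 with hn3 | hn3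
    · rcases (show n = 1 ∨ n = 2 by omega) with h1 | h1
      · exfalso
        obtain ⟨c, hc⟩ := (finrank_eq_one_iff_of_nonzero' v₀ hv₀).1 h1 (φ a v₀)
        apply hab
        refine LinearMap.ext fun y => ?_
        obtain ⟨ca, hca⟩ := (finrank_eq_one_iff_of_nonzero' v₀ hv₀).1 h1 (φ b v₀)
        obtain ⟨cy, rfl⟩ := (finrank_eq_one_iff_of_nonzero' v₀ hv₀).1 h1 y
        simp only [Module.End.mul_apply, map_smul, ← hc, ← hca]
        rw [smul_comm c ca]
      · exact h1
    · exfalso
      obtain ⟨r, hr, hrd, hrmin⟩ := Cfsg.Agent.S2904.result p n hp.one_lt (by omega)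
        (fun h => hp2 h.1) (fun h => by omega)
      have hn1r := hord r 0 hr hrd hrmin
      rcases hdvd_cases r hr hrd with h | h | h | h
      · subst h; have := Nat.le_of_dvd (by norm_num) hn1r; omega
      · subst h; have := Nat.le_of_dvd (by norm_num) hn1r; omega
      · subst h
        have h4 : n = 4 := by
          have h5 := Nat.le_of_dvd (by norm_num) hn1r
          norm_num at hn1r h5
          interval_cases n <;> omega
        rw [h4] at hpn hrmin hdvd_cases hprim
        have key : ∀ q : ℕ, q.Prime → q ∣ p ^ 2 + 1 → q = 2 ∨ q = 5 := by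
          intro q hq hqd
          by_cases hq2 : q = 2
          · exact Or.inl hq2
          right
          have hq4 : q ∣ p ^ 4 - 1 := by
            have h6 : p ^ 4 - 1 = (p ^ 2 + 1) * (p ^ 2 - 1) := by
              have h0 := Nat.sq_sub_sq (p ^ 2) 1
              rw [one_pow, ← pow_mul] at h0
              exact h0
            exact h6 ▸ dvd_mul_of_dvd_left hqd _
          have := Fact.mk hq
          have hm1 : (p : ZMod q) ^ 2 = -1 := by
            have h7 := (ZMod.natCast_eq_zero_iff (p ^ 2 + 1) q).2 hqd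
            push_cast at h7
            exact eq_neg_of_add_eq_zero_left h7
          have hne : (-1 : ZMod q) ≠ 1 := fun e1 => hq2 (by
            have h8 : ((2 : ℕ) : ZMod q) = 0 := by push_cast; linear_combination -e1
            exact (Nat.prime_dvd_prime_iff_eq hq Nat.prime_two).1 ((ZMod.natCast_eq_zero_iff 2 q).1 h8))
          have hmin : ∀ k, 0 < k → k < 4 → ¬ q ∣ p ^ k - 1 := by
            intro k hk0 hk4 hkd
            rw [← ZMod.natCast_eq_zero_iff, Nat.cast_sub (Nat.one_le_pow _ _ hp.pos), sub_eq_zero] at hkd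
            push_cast at hkd
            interval_cases k
            · exact hne (by rw [← hm1, show (p : ZMod q) = 1 by simpa using hkd]; simp)
            · exact hne (by rw [← hm1, hkd])
            · have h9 : (p : ZMod q) = -1 := by
                linear_combination (p : ZMod q) * hm1 - hkd
              exact hne (by rw [← hm1, h9]; simp)
          rcases hdvd_cases q hq hq4 with h | h | h | h
          · exact absurd h hq2
          · subst h
            exact absurd hm1 (sq_ne_neg_one_three _)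
          · exact h
          · exact absurd (hprim q hq h hmin) not_false
        have h25 : ¬ 25 ∣ p ^ 4 - 1 := by
          rw [show p ^ 4 - 1 = 120 * Nat.card M * e by omega]
          intro hd
          have h5M : (Nat.card M).Coprime 5 := hcop.coprime_dvd_right (by norm_num)
          have h1 : 25 ∣ 120 * Nat.card M := by
            rcases he12 with e1 | e1 <;> rw [e1] at hd
            · simpa using hd
            · exact (show Nat.Coprime 25 2 by norm_num).dvd_of_dvd_mul_right hd
          have h2 : 5 ∣ 24 * Nat.card M := by omega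
          have h3 := (show Nat.Coprime 5 24 by norm_num).dvd_of_dvd_mul_left h2
          have h6 := Nat.dvd_gcd h3 (dvd_refl 5)
          rw [show (Nat.card M).gcd 5 = 1 from h5M] at h6
          norm_num at h6
        have hodd : p % 2 = 1 := (hp.eq_two_or_odd).resolve_left hp2
        obtain ⟨t, ht⟩ : ∃ t, p = 2 * t + 1 := ⟨p / 2, by omega⟩
        have hp21 : p ^ 2 + 1 = 2 * (2 * t * t + 2 * t + 1) := by rw [ht]; ring
        set u := 2 * t * t + 2 * t + 1 with hu
        have hu5 : u = 1 ∨ u = 5 := by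
          have hfac : ∀ q, q.Prime → q ∣ u → q = 5 := fun q hq hqu => (key q hq (hp21 ▸ dvd_mul_of_dvd_right hqu 2)).resolve_left (by
            rintro rfl
            obtain ⟨c, hc⟩ := hqu
            have : u % 2 = 1 := by rw [hu, mul_assoc]; omega
            omega)
          have h25u : ¬ 25 ∣ u := fun hd => h25 (by
            have h6 : p ^ 4 - 1 = (p ^ 2 + 1) * (p ^ 2 - 1) := by
              have h0 := Nat.sq_sub_sq (p ^ 2) 1
              rw [one_pow, ← pow_mul] at h0
              exact h0
            rw [h6]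
            exact dvd_mul_of_dvd_left (hp21 ▸ dvd_mul_of_dvd_right hd 2) _)
          by_cases hu1 : u = 1
          · exact Or.inl hu1
          obtain ⟨q, hq, hqu⟩ := Nat.exists_prime_and_dvd hu1
          obtain rfl := hfac q hq hqu
          obtain ⟨c, hc⟩ := hqu
          right
          by_cases hc1 : c = 1
          · rw [hc, hc1]
          exfalso
          obtain ⟨q, hq', hqc⟩ := Nat.exists_prime_and_dvd hc1
          obtain rfl := hfac q hq' (hc ▸ dvd_mul_of_dvd_right hqc 5)
          obtain ⟨c', rfl⟩ := hqc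
          exact h25u ⟨c', by rw [hc]; ring⟩
        have ht1 : t ≤ 1 := by
          rcases hu5 with h | h <;> nlinarith
        interval_cases t <;> subst ht
        · exact hp.ne_one rfl
        · norm_num at hpn
          have h1 : 1 ≤ Nat.card M := Nat.card_pos
          have h2 : 1 ≤ e := by omega
          nlinarith [Nat.mul_le_mul h1 h2]
      · exact hprim r hr h hrmin
  -- two dimensions: scalars
  have hscalar : ∀ f : Module.End (ZMod p) V, Commute (φ a) f → Commute (φ b) f →
      ∃ c : ZMod p, f = algebraMap (ZMod p) (Module.End (ZMod p) V) c := by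
    intro f hfa hfb
    by_cases hall : ∀ v : V, ∃ c : ZMod p, f v = c • v
    · choose c hc using hall
      refine ⟨c v₀, LinearMap.ext fun y => ?_⟩
      rw [Module.algebraMap_end_apply]
      by_cases hy : ∃ d : ZMod p, d • v₀ = y
      · obtain ⟨d, rfl⟩ := hy
        rw [map_smul, hc v₀, smul_comm]
      · have hli : LinearIndependent (ZMod p) ![v₀, y] := by
          rw [LinearIndependent.pair_iff' hv₀]
          exact fun d e1 => hy ⟨d, e1⟩
        have h1 := hc (v₀ + y)
        rw [map_add, hc v₀, hc y, smul_add] at h1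
        have h2 := LinearIndependent.pair_iff.1 hli (c v₀ - c (v₀ + y)) (c y - c (v₀ + y)) (by
          rw [sub_smul, sub_smul, sub_add_sub_comm, h1, sub_self])
        rw [hc y, sub_eq_zero.1 h2.1, ← sub_eq_zero.1 h2.2]
    · exfalso
      push Not at hall
      obtain ⟨v, hv⟩ := hall
      have hv0 : v ≠ 0 := fun e1 => hv 0 (by rw [e1]; simp)
      have hli : LinearIndependent (ZMod p) ![v, f v] := by
        rw [LinearIndependent.pair_iff' hv0]
        exact fun d e1 => hv d e1.symm
      have hspan := hli.span_eq_top_of_card_eq_finrank (by rw [Fintype.card_fin, ← hn, hn2])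
      refine hab (commute_of_cyclic f v (fun y => ?_) hfa hfb)
      have hy : y ∈ Submodule.span (ZMod p) (Set.range ![v, f v]) := hspan ▸ Submodule.mem_top
      rw [Submodule.mem_span_range_iff_exists_fun] at hy
      obtain ⟨g, hg⟩ := hy
      refine ⟨algebraMap _ _ (g 0) + algebraMap _ _ (g 1) * f, Subalgebra.add_mem _ (Subalgebra.algebraMap_mem _ _)
        (Subalgebra.mul_mem _ (Subalgebra.algebraMap_mem _ _) (Algebra.self_mem_adjoin_singleton _ f)), ?_⟩
      rw [← hg, Fin.sum_univ_two]
      simp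
  have hscalM : ∀ w ∈ M, ∃ c : ZMod p, φ w = algebraMap (ZMod p) (Module.End (ZMod p) V) c := fun w hw =>
    hscalar _ ((show Commute a w from hcomm a haI w hw).map φ) ((show Commute b w from hcomm b hbI w hw).map φ)
  choose c hc using fun w : M => hscalM w w.2
  have hainj : Function.Injective (algebraMap (ZMod p) (Module.End (ZMod p) V)) := RingHom.injective _
  let χ : M →* ZMod p :=
    { toFun := c
      map_one' := hainj (by rw [← hc, map_one, OneMemClass.coe_one, map_one])
      map_mul' := fun s t => hainj (by rw [← hc, map_mul, ← hc, ← hc, Subgroup.coe_mul, map_mul]) }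
  have hχ : Function.Injective χ.toHomUnits := fun s t e1 => by
    have e2 : c s = c t := congrArg Units.val e1
    exact Subtype.ext (hφi (by rw [hc, hc, e2]))
  have hMcyc : IsCyclic M := isCyclic_of_injective χ.toHomUnits hχ
  have hMdvd : Nat.card M ∣ p - 1 := by
    have := Subgroup.card_dvd_of_injective χ.toHomUnits hχ
    rwa [Nat.card_units, Nat.card_zmod] at this
  -- no outer element
  have he1 : e = 1 := by
    rcases he12 with e1 | e1
    · exact e1
    exfalso
    obtain ⟨g, hg⟩ : ∃ g : H, g ∉ I ⊔ M := by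
      by_contra hall
      push Not at hall
      rw [he, (Subgroup.eq_top_iff' _).2 hall, Subgroup.index_top] at e1
      omega
    obtain ⟨k, hk, hka, hkb⟩ := P.conj_form g
    set u := k⁻¹ * g with hu
    rcases hkb with hkb | hkb
    · apply hg
      have h1 : u ∈ I ⊔ M := hCle (Subgroup.mem_centralizer_iff.2 fun y hy => by
        rcases hy with rfl | rfl
        exacts [(mul_inv_eq_iff_eq_mul.1 hka).symm, (mul_inv_eq_iff_eq_mul.1 hkb).symm])
      simpa [hu] using Subgroup.mul_mem _ (Subgroup.mem_sup_left (T := M) hk) h1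
    have hfix3 : ∀ {y : H}, y ≠ 1 → y ^ 3 = 1 → φ y * φ y = -1 - φ y := by
      intro y hy hy3
      have h1 : φ y * φ y + φ y + 1 = 0 := by
        refine LinearMap.ext fun v => hfpf y hy _ ?_
        have h3 : φ y * φ y * φ y = 1 := by rw [← map_mul, ← map_mul, ← pow_three', hy3, map_one]
        have h4 : φ y * (φ y * φ y + φ y + 1) = φ y * φ y + φ y + 1 := by
          rw [mul_add, mul_add, mul_one, ← mul_assoc, h3]; abel
        exact LinearMap.congr_fun h4 v
      rw [eq_sub_iff_add_eq, eq_neg_iff_add_eq_zero]; exact h1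
    have hinv : ∀ {y : H}, y ≠ 1 → y ^ 3 = 1 → φ y⁻¹ = -1 - φ y := fun hy hy3 => by
      rw [← hfix3 hy hy3, ← map_mul, inv_eq_of_mul_eq_one_right (by rw [← pow_three, hy3])]
    set A := φ a
    set B := φ b
    set x := A * B + B * A + A + B + 1 with hx
    have hA2 : A * A = -1 - A := hfix3 P.ha P.ha3
    have hB2 : B * B = -1 - B := hfix3 P.hb P.hb3
    have hxA : Commute A x := by
      show _ = _
      simp only [hx, add_mul, mul_add, one_mul, mul_one, mul_assoc, hA2]
      simp only [← mul_assoc, hA2]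
      noncomm_ring
    have hxB : Commute B x := by
      show _ = _
      simp only [hx, add_mul, mul_add, one_mul, mul_one, mul_assoc, hB2]
      simp only [← mul_assoc, hB2]
      noncomm_ring
    obtain ⟨t, ht⟩ := hscalar x hxA hxB
    set U := φ u
    have hua : U * A = A * U := by
      show φ u * φ a = φ a * φ u
      rw [← map_mul, ← map_mul, mul_inv_eq_iff_eq_mul.1 hka]
    have hub : U * B = (-1 - B) * U := by
      show φ u * φ b = (-1 - φ b) * φ u
      rw [← hinv P.hb P.hb3, ← map_mul, ← map_mul, mul_inv_eq_iff_eq_mul.1 hkb]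
    have hUx : U * x = (1 - x) * U := by
      calc U * (A * B + B * A + A + B + 1) = (U * A) * B + (U * B) * A + U * A + U * B + U := by noncomm_ring
        _ = A * (U * B) + (-1 - B) * (U * A) + U * A + U * B + U := by
          rw [hua, hub, mul_assoc A U B, hub, mul_assoc (-1 - B) U A, hua]
        _ = _ := by rw [hua, hub, hx]; noncomm_ring
    have hUcancel : ∀ {z : Module.End (ZMod p) V}, z * U = 0 → z = 0 := fun {z} hz => by
      have h1 : U * φ u⁻¹ = 1 := by
        show φ u * φ u⁻¹ = 1
        rw [← map_mul, mul_inv_cancel, map_one]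
      rw [← mul_one z, ← h1, ← mul_assoc, hz, zero_mul]
    rw [ht, ← Algebra.commutes, ← sub_eq_zero, ← sub_mul] at hUx
    have ht1 : t + t = 1 := by
      have h1 := hUcancel hUx
      rw [← map_one (algebraMap (ZMod p) (Module.End (ZMod p) V)), ← map_sub, ← map_sub,
        map_eq_zero_iff _ hainj] at h1
      linear_combination h1
    -- `x` is a root of `X² - X - 1`
    set G' := φ (a * b) with hG'
    obtain ⟨ho5, ho2, ho10⟩ : (A5 * B5 : SL25) ^ 5 ≠ 1 ∧ (A5 * B5 : SL25) ^ 2 ≠ 1 ∧ (A5 * B5 : SL25) ^ 10 = 1 := by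
      decide +kernel
    have hab10 : (a * b) ^ 10 = 1 := by rw [← hθA, ← hθB, ← map_mul, ← map_pow, ho10, map_one]
    have hab5 : (a * b) ^ 5 ≠ 1 := fun e2 => ho5 (hθ (by rw [map_pow, map_mul, hθA, hθB, e2, map_one]))
    have hab2 : (a * b) ^ 2 ≠ 1 := fun e2 => ho2 (hθ (by rw [map_pow, map_mul, hθA, hθB, e2, map_one]))
    have hG5 : G' ^ 5 = -1 := by
      rw [hG', ← map_pow, eq_neg_iff_add_eq_zero]
      refine LinearMap.ext fun v => hfpf _ hab5 _ ?_
      have h2 : φ ((a * b) ^ 5) * φ ((a * b) ^ 5) = 1 := by rw [← map_mul, ← pow_add, hab10, map_one]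
      have h4 : φ ((a * b) ^ 5) * (φ ((a * b) ^ 5) + 1) = φ ((a * b) ^ 5) + 1 := by
        rw [mul_add, mul_one, h2, add_comm]
      exact LinearMap.congr_fun h4 v
    have hPhi : G' ^ 4 - G' ^ 3 + G' ^ 2 - G' + 1 = 0 := by
      refine LinearMap.ext fun v => hfpf _ hab2 _ ?_
      have h4 : φ ((a * b) ^ 2) * (G' ^ 4 - G' ^ 3 + G' ^ 2 - G' + 1) = G' ^ 4 - G' ^ 3 + G' ^ 2 - G' + 1 := by
        rw [map_pow, ← hG', ← sub_eq_zero]
        calc G' ^ 2 * (G' ^ 4 - G' ^ 3 + G' ^ 2 - G' + 1) - (G' ^ 4 - G' ^ 3 + G' ^ 2 - G' + 1)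
            = G' ^ 5 * G' - G' ^ 5 + G' - 1 := by noncomm_ring
          _ = 0 := by rw [hG5]; noncomm_ring
      exact LinearMap.congr_fun h4 v
    have hxG : x = G' + -G' ^ 4 := by
      have h1 : φ (a * b)⁻¹ = -G' ^ 4 := by
        have h2 : G' * (-G' ^ 4) = 1 := by rw [mul_neg, ← pow_succ', hG5, neg_neg]
        calc φ (a * b)⁻¹ = φ (a * b)⁻¹ * (G' * (-G' ^ 4)) := by rw [h2, mul_one]
          _ = -G' ^ 4 := by rw [← mul_assoc, hG', ← map_mul, inv_mul_cancel, map_one, one_mul]
      rw [← h1, mul_inv_rev, map_mul, hinv P.ha P.ha3, hinv P.hb P.hb3, hG', map_mul, hx]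
      noncomm_ring
    have hxx : x * x = x + 1 := by
      rw [hxG, ← sub_eq_zero]
      calc (G' + -G' ^ 4) * (G' + -G' ^ 4) - (G' + -G' ^ 4 + 1)
          = G' ^ 5 * G' ^ 3 - (G' ^ 5 + G' ^ 5) + G' ^ 2 - G' + G' ^ 4 - 1 := by noncomm_ring
        _ = G' ^ 4 - G' ^ 3 + G' ^ 2 - G' + 1 := by rw [hG5]; noncomm_ring
        _ = 0 := hPhi
    rw [ht, ← map_mul, ← map_one (algebraMap (ZMod p) (Module.End (ZMod p) V)), ← map_add] at hxx
    have h5 : ((5 : ℕ) : ZMod p) = 0 := by
      push_cast
      linear_combination (2 * t - 1) * ht1 - 4 * hainj hxx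
    have hp5 : p = 5 := (Nat.prime_dvd_prime_iff_eq hp Nat.prime_five).1 ((ZMod.natCast_eq_zero_iff 5 p).1 h5)
    subst hp5
    rw [hn2, e1] at hpn
    have h1 : 1 ≤ Nat.card M := Nat.card_pos
    omega
  rw [hn2, he1, mul_one] at hpn
  have htop : I ⊔ M = ⊤ := Subgroup.index_eq_one.1 he1
  obtain ⟨eI⟩ := P.nonempty_iso
  let eH : H ≃* SL25 × M :=
    ((Subgroup.topEquiv.symm.trans (MulEquiv.subgroupCongr htop.symm)).trans eIM.symm).trans
      (eI.prodCongr (MulEquiv.refl M))
  have hm30 := hcop
  generalize hm : Nat.card M = m at hpn hMdvd hm30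
  -- `p + 1 ∣ 120`
  have hp1 : p + 1 ∣ 120 := by
    have h2 : (p + 1) * (p - 1) = 120 * m := by
      have : (p + 1) * (p - 1) = p ^ 2 - 1 ^ 2 := (Nat.sq_sub_sq p 1).symm
      rw [this, one_pow, hpn]; omega
    have hco : Nat.Coprime (p + 1) m := by
      refine Nat.coprime_of_dvd fun q hq hq1 hqm => ?_
      have h3 : q ∣ (p + 1) - (p - 1) := Nat.dvd_sub hq1 (hqm.trans hMdvd)
      rw [show (p + 1) - (p - 1) = 2 by have := hp.two_le; omega] at h3
      have h4 := (Nat.prime_dvd_prime_iff_eq hq Nat.prime_two).1 h3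
      subst h4
      have h5 := Nat.dvd_gcd hqm (show 2 ∣ 30 by norm_num)
      rw [show m.gcd 30 = 1 from hm30] at h5
      norm_num at h5
    exact hco.dvd_of_dvd_mul_right ⟨p - 1, h2.symm⟩
  have hcases : (p = 11 ∧ m = 1) ∨ (p = 29 ∧ m = 7) ∨ (p = 59 ∧ m = 29) := by
    have hle := Nat.le_of_dvd (by norm_num) hp1
    have key : ∀ q < 120, (q + 1) ∣ 120 → q.Prime → (q ^ 2 - 1) % 120 = 0 → ((q ^ 2 - 1) / 120).Coprime 30 →
        (q = 11 ∧ (q ^ 2 - 1) / 120 = 1) ∨ (q = 29 ∧ (q ^ 2 - 1) / 120 = 7) ∨ (q = 59 ∧ (q ^ 2 - 1) / 120 = 29) := by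
      intro q hq
      interval_cases q <;> norm_num
    have hmq : (p ^ 2 - 1) / 120 = m := by rw [hpn]; omega
    rw [← hmq]
    exact key p (by omega) hp1 hp (by rw [hpn]; omega) (hmq ▸ hm30)
  have hMiso : Nonempty (M ≃* Multiplicative (ZMod m)) :=
    ⟨mulEquivOfCyclicCardEq (by rw [hm, Nat.card_congr Multiplicative.toAdd, Nat.card_zmod])⟩
  rcases hcases with ⟨rfl, rfl⟩ | ⟨rfl, rfl⟩ | ⟨rfl, rfl⟩
  · refine Or.inl ⟨by rw [hVn, hn2]; norm_num, ⟨eH.trans ?_⟩⟩
    have : Subsingleton M := (Nat.card_eq_one_iff_unique.1 hm).1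
    exact { toFun := Prod.fst, invFun := fun s => (s, 1), left_inv := fun s => Prod.ext rfl (Subsingleton.elim _ _),
            right_inv := fun s => rfl, map_mul' := fun s t => rfl }
  · obtain ⟨e7⟩ := hMiso
    exact Or.inr (Or.inl ⟨by rw [hVn, hn2]; norm_num, ⟨eH.trans ((MulEquiv.refl _).prodCongr e7)⟩⟩)
  · obtain ⟨e29⟩ := hMiso
    exact Or.inr (Or.inr ⟨by rw [hVn, hn2]; norm_num, ⟨eH.trans ((MulEquiv.refl _).prodCongr e29)⟩⟩)

end CfsgLib.Icosa
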