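import Mathlib

/-!
# Gauss' formula for the cyclotomic polynomial of a prime `ℓ ≡ 3 (mod 4)`

`4 Φ_ℓ = S² + ℓ D²` with `S, D ∈ ℚ[X]`.
-/

set_option autoImplicit false

namespace CfsgLib.Icosa

open Polynomial

theorem gauss_formula {ℓ : ℕ} [hℓ : Fact ℓ.Prime] (h4 : ℓ % 4 = 3) :
    ∃ S D : ℚ[X], 4 * cyclotomic ℓ ℚ = S ^ 2 + (ℓ : ℚ[X]) * D ^ 2 := by
  classical
  have hl2 : ℓ ≠ 2 := by omega
  have : NeZero ℓ := ⟨hℓ.out.ne_zero⟩
  let E := CyclotomicField ℓ ℚ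
  have : NeZero ((ℓ : ℕ) : ℚ) := ⟨Nat.cast_ne_zero.2 hℓ.out.ne_zero⟩
  have hcyc : IsCyclotomicExtension {ℓ} ℚ E := (CyclotomicField.isCyclotomicExtension ℓ ℚ : IsCyclotomicExtension {ℓ} ℚ (CyclotomicField ℓ ℚ))
  have : FiniteDimensional ℚ E := IsCyclotomicExtension.finiteDimensional {ℓ} ℚ E
  have : IsGalois ℚ E := IsCyclotomicExtension.isGalois {ℓ} ℚ E
  set ζ := IsCyclotomicExtension.zeta ℓ ℚ E with hζdef
  have hζ : IsPrimitiveRoot ζ ℓ := IsCyclotomicExtension.zeta_spec ℓ ℚ E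
  let χ : MulChar (ZMod ℓ) E := (quadraticChar (ZMod ℓ)).ringHomComp (Int.castRingHom E)
  have hF2 : ringChar (ZMod ℓ) ≠ 2 := by rw [ZMod.ringChar_zmod_n]; exact hl2
  have hχ1 : χ ≠ 1 := by
    obtain ⟨a, ha⟩ := quadraticChar_exists_neg_one hF2
    intro h
    have ha0 : IsUnit a := by
      by_contra ha0
      rw [MulChar.map_nonunit _ ha0] at ha
      norm_num at ha
    have h1 : χ a = 1 := by rw [h, MulChar.one_apply ha0]
    simp only [χ, MulChar.ringHomComp_apply, ha, map_neg, map_one] at h1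
    norm_num at h1
  have hχ2 : χ.IsQuadratic := (quadraticChar_isQuadratic (ZMod ℓ)).comp _
  let ψ : AddChar (ZMod ℓ) E := AddChar.zmodChar ℓ hζ.pow_eq_one
  have hψ : ψ.IsPrimitive := AddChar.zmodChar_primitive_of_primitive_root ℓ hζ
  set g := gaussSum χ ψ with hgdef
  have hg2 : g ^ 2 = -(ℓ : E) := by
    rw [gaussSum_sq hχ1 hχ2 hψ, ZMod.card]
    have : χ (-1) = -1 := by
      simp only [χ, MulChar.ringHomComp_apply, quadraticChar_neg_one hF2, ZMod.card]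
      rw [ZMod.χ₄_nat_three_mod_four h4]
      simp
    rw [this, neg_one_mul]
  have hg0 : g ≠ 0 := fun e => by
    rw [e, zero_pow two_ne_zero, eq_comm, neg_eq_zero] at hg2
    exact hℓ.out.ne_zero (by exact_mod_cast hg2)
  -- the automorphisms
  have hsig : ∀ σ : Gal(E/ℚ), ∃ a : (ZMod ℓ)ˣ, σ ζ = ζ ^ (a : ZMod ℓ).val ∧ σ g = χ⁻¹ a * g := by
    intro σ
    obtain ⟨i, hi, hσ⟩ := hζ.eq_pow_of_pow_eq_one (ξ := σ ζ) (by rw [← map_pow, hζ.pow_eq_one, map_one])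
    have hp : IsPrimitiveRoot (σ ζ) ℓ := hζ.map_of_injective σ.injective
    have hco : i.Coprime ℓ := (hζ.pow_iff_coprime hℓ.out.pos i).1 (hσ.symm ▸ hp)
    refine ⟨ZMod.unitOfCoprime i hco, ?_, ?_⟩
    · rw [← hσ, ZMod.coe_unitOfCoprime, ZMod.val_natCast, Nat.mod_eq_of_lt hi]
    · rw [← gaussSum_mulShift_eq, hgdef, gaussSum, map_sum]
      refine Finset.sum_congr rfl fun x _ => ?_
      rw [map_mul]
      congr 1
      · simp [χ]
      · rw [AddChar.mulShift_apply, AddChar.zmodChar_apply, AddChar.zmodChar_apply, map_pow, ← hσ, ← pow_mul,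
          ZMod.coe_unitOfCoprime, ZMod.val_mul, ZMod.val_natCast, Nat.mod_eq_of_lt hi]
        exact (pow_eq_pow_mod _ hζ.pow_eq_one)
  have hsign : ∀ σ : Gal(E/ℚ), σ g = g ∨ σ g = -g := by
    intro σ
    obtain ⟨a, -, ha⟩ := hsig σ
    rcases hχ2 (a : ZMod ℓ) with h | h | h
    · exact absurd h (fun h0 => by
        have := (a.isUnit.map χ)
        rw [h0] at this
        exact not_isUnit_zero this)
    · rw [ha, hχ2.inv, h, one_mul]; exact Or.inl rfl
    · rw [ha, hχ2.inv, h, neg_one_mul]; exact Or.inr rfl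
  obtain ⟨τ, hτ⟩ : ∃ τ : Gal(E/ℚ), τ g = -g := by
    by_contra hne
    push Not at hne
    have h1 : g ∈ (⊥ : IntermediateField ℚ E) :=
      (IsGalois.mem_bot_iff_fixed g).2 fun σ => (hsign σ).resolve_right (hne σ)
    obtain ⟨q, hq⟩ := IntermediateField.mem_bot.1 h1
    have h2 : q ^ 2 = -(ℓ : ℚ) := by
      apply (algebraMap ℚ E).injective
      rw [map_pow, hq, hg2, map_neg, map_natCast]
    nlinarith [sq_nonneg q, (Nat.cast_pos.2 hℓ.out.pos : (0 : ℚ) < ℓ)]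
  -- split the primitive roots by the sign
  let e : Gal(E/ℚ) → E := fun σ => σ ζ
  let H : Finset Gal(E/ℚ) := Finset.univ.filter fun σ => σ g = g
  let P : E[X] := ∏ σ ∈ H, (X - C (σ ζ))
  let P' : E[X] := ∏ σ ∈ Finset.univ.filter (fun σ : Gal(E/ℚ) => σ g = -g), (X - C (σ ζ))
  have hng : g ≠ -g := fun h => hg0 (by
    have h2 : (2 : E) * g = 0 := by rw [two_mul]; nth_rw 1 [h]; rw [neg_add_cancel]
    exact (mul_eq_zero.1 h2).resolve_left two_ne_zero)
  have hprod : P * P' = cyclotomic ℓ E := by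
    rw [← Finset.prod_union (Finset.disjoint_filter.2 fun σ _ h1 h2 => hng (h1.symm.trans h2)),
      show H ∪ Finset.univ.filter (fun σ : Gal(E/ℚ) => σ g = -g) = Finset.univ by
        ext σ; simp [H, hsign σ],
      cyclotomic_eq_prod_X_sub_primitiveRoots hζ]
    refine Finset.prod_bij (fun σ _ => σ ζ) (fun σ _ => ?_) (fun σ _ σ' _ h => ?_) (fun μ hμ => ?_) (fun _ _ => rfl)
    · exact (mem_primitiveRoots hℓ.out.pos).2 (hζ.map_of_injective σ.injective)
    · exact AlgEquiv.coe_algHom_injective ((hζ.powerBasis ℚ).algHom_ext (by simpa using h))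
    · have hμ' := (mem_primitiveRoots hℓ.out.pos).1 hμ
      refine ⟨IsCyclotomicExtension.fromZetaAut hμ' (cyclotomic.irreducible_rat hℓ.out.pos),
        Finset.mem_univ _, ?_⟩
      exact IsCyclotomicExtension.fromZetaAut_spec hμ' _
  have hperm : ∀ σ : Gal(E/ℚ), (σ g = g → P.map (σ : E →+* E) = P ∧ P'.map (σ : E →+* E) = P') ∧
      (σ g = -g → P.map (σ : E →+* E) = P' ∧ P'.map (σ : E →+* E) = P) := by
    intro σ
    have key : ∀ s t : E, σ s = t → (∏ ρ ∈ Finset.univ.filter (fun ρ : Gal(E/ℚ) => ρ g = s), (X - C (ρ ζ))).map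
        (σ : E →+* E) = ∏ ρ ∈ Finset.univ.filter (fun ρ : Gal(E/ℚ) => ρ g = t), (X - C (ρ ζ)) := by
      intro s t hst
      rw [Polynomial.map_prod]
      refine Finset.prod_bij (fun ρ _ => σ * ρ) (fun ρ hρ => ?_) (fun ρ _ ρ' _ h => mul_left_cancel h)
        (fun ρ hρ => ⟨σ⁻¹ * ρ, ?_, mul_inv_cancel_left σ ρ⟩) (fun ρ _ => by simp [AlgEquiv.mul_apply])
      · simp only [Finset.mem_filter] at hρ ⊢
        exact ⟨Finset.mem_univ _, by rw [AlgEquiv.mul_apply, hρ.2, hst]⟩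
      · simp only [Finset.mem_filter] at hρ ⊢
        refine ⟨Finset.mem_univ _, σ.injective ?_⟩
        rw [← AlgEquiv.mul_apply, mul_inv_cancel_left, hρ.2, hst]
    exact ⟨fun h => ⟨key g g h, key (-g) (-g) (by rw [map_neg, h])⟩,
      fun h => ⟨key g (-g) h, key (-g) g (by rw [map_neg, h, neg_neg])⟩⟩
  have hrat : ∀ Q : E[X], (∀ σ : Gal(E/ℚ), Q.map (σ : E →+* E) = Q) → ∃ q : ℚ[X], q.map (algebraMap ℚ E) = Q := by
    intro Q hQ
    refine (Polynomial.mem_lifts _).1 ((Polynomial.lifts_iff_coeff_lifts _).2 fun n => ?_)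
    refine IntermediateField.mem_bot.1 ((IsGalois.mem_bot_iff_fixed _).2 fun σ => ?_)
    conv_rhs => rw [← hQ σ]
    rw [Polynomial.coeff_map]
    rfl
  obtain ⟨S, hS⟩ := hrat (P + P') fun σ => by
    rcases hsign σ with h | h <;> rw [Polynomial.map_add]
    · rw [((hperm σ).1 h).1, ((hperm σ).1 h).2]
    · rw [((hperm σ).2 h).1, ((hperm σ).2 h).2, add_comm]
  obtain ⟨D, hD⟩ := hrat (C g⁻¹ * (P - P')) fun σ => by
    rcases hsign σ with h | h <;> rw [Polynomial.map_mul, Polynomial.map_sub, Polynomial.map_C]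
    · rw [((hperm σ).1 h).1, ((hperm σ).1 h).2, show (σ : E →+* E) g⁻¹ = g⁻¹ by
        show σ g⁻¹ = g⁻¹; rw [map_inv₀, h]]
    · rw [((hperm σ).2 h).1, ((hperm σ).2 h).2, show (σ : E →+* E) g⁻¹ = -g⁻¹ by
        show σ g⁻¹ = -g⁻¹; rw [map_inv₀, h, inv_neg], map_neg, neg_mul, ← mul_neg, neg_sub]
  refine ⟨S, D, Polynomial.map_injective _ (algebraMap ℚ E).injective ?_⟩
  rw [Polynomial.map_mul, Polynomial.map_add, Polynomial.map_mul, Polynomial.map_pow, Polynomial.map_pow,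
    Polynomial.map_natCast, Polynomial.map_ofNat, map_cyclotomic, hS, hD, ← hprod, mul_pow, ← map_pow, inv_pow, hg2]
  have hc : C ((-(ℓ : E))⁻¹) * (ℓ : E[X]) = -1 := by
    rw [← map_natCast C ℓ, ← map_mul, inv_neg, neg_mul, inv_mul_cancel₀ (by exact_mod_cast hℓ.out.ne_zero),
      map_neg, map_one]
  linear_combination (-(P - P') ^ 2) * hc

end CfsgLib.Icosa
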