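import Mathlib
import Cfsg.Agent.Lib.Icosa.GaussFormula

/-!
# `-1` is a sum of two squares in `ℚ(√5, ζ_n)`
-/

set_option autoImplicit false

namespace CfsgLib.Icosa

theorem legendre_five_three : @legendreSym 5 ⟨Nat.prime_five⟩ 3 = -1 := by
  have : Fact (Nat.Prime 5) := ⟨Nat.prime_five⟩
  exact (legendreSym.eq_neg_one_iff 5).2 (by simp only [Int.cast_ofNat]; decide +revert)

theorem mod_three (x y : ℤ) (h : (x ^ 2 + 5 * y ^ 2) % 3 = 0) : ∃ y', y' ^ 2 = y ^ 2 ∧ (x - y') % 3 = 0 := by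
  have key : ∀ a b : ZMod 3, a ^ 2 + 5 * b ^ 2 = 0 → a = b ∨ a = -b := by decide
  have h1 : ((x ^ 2 + 5 * y ^ 2 : ℤ) : ZMod 3) = 0 :=
    (ZMod.intCast_zmod_eq_zero_iff_dvd _ 3).2 (Int.dvd_of_emod_eq_zero h)
  push_cast at h1
  rcases key _ _ h1 with e | e
  · exact ⟨y, rfl, Int.emod_eq_zero_of_dvd ((ZMod.intCast_zmod_eq_zero_iff_dvd _ 3).1 (by push_cast; rw [e, sub_self]))⟩
  · exact ⟨-y, neg_sq y, Int.emod_eq_zero_of_dvd ((ZMod.intCast_zmod_eq_zero_iff_dvd _ 3).1 (by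
      push_cast; rw [e, sub_self]))⟩

/-- Thue's lemma applied to a square root of `-5`. -/
theorem exists_thue {ℓ : ℕ} [Fact ℓ.Prime] (h : ℓ % 20 = 3) :
    ∃ x y : ℤ, 2 * (ℓ : ℤ) = x ^ 2 + 5 * y ^ 2 := by
  classical
  have hℓ : ℓ.Prime := Fact.out
  have : Fact (Nat.Prime 5) := ⟨Nat.prime_five⟩
  obtain ⟨s, hs⟩ : IsSquare (-5 : ZMod ℓ) := by
    have h5 : ((5 : ℤ) : ZMod ℓ) ≠ 0 := by
      rw [Ne, ZMod.intCast_zmod_eq_zero_iff_dvd]
      intro hd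
      have h2 : ℓ ∣ 5 := by exact_mod_cast hd
      have := (Nat.prime_dvd_prime_iff_eq hℓ Nat.prime_five).1 h2
      omega
    have h5' : ((-5 : ℤ) : ZMod ℓ) ≠ 0 := by rwa [Int.cast_neg, neg_ne_zero]
    have key : legendreSym ℓ (-5) = 1 := by
      rw [show (-5 : ℤ) = -1 * 5 by norm_num, legendreSym.mul, legendreSym.at_neg_one (by omega),
        ZMod.χ₄_nat_three_mod_four (by omega)]
      have h2 := legendreSym.quadratic_reciprocity_one_mod_four (p := 5) (q := ℓ) (by norm_num) (by omega)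
      rw [show ((5 : ℕ) : ℤ) = 5 from rfl] at h2
      rw [h2, legendreSym.mod 5 (ℓ : ℤ), show ((ℓ : ℤ) % ((5 : ℕ) : ℤ)) = 3 by omega,
        legendre_five_three]
      norm_num
    obtain ⟨s, hs⟩ := (legendreSym.eq_one_iff ℓ h5').1 key
    exact ⟨s, by simpa using hs⟩
  set R := Nat.sqrt ℓ with hR
  have hRlt : ℓ < (R + 1) * (R + 1) := Nat.lt_succ_sqrt ℓ
  obtain ⟨⟨u, v⟩, ⟨u', v'⟩, hne, heq⟩ := Fintype.exists_ne_map_eq_of_card_lt
    (fun t : Fin (R + 1) × Fin (R + 1) => ((t.1 : ℕ) : ZMod ℓ) - s * ((t.2 : ℕ) : ZMod ℓ))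
    (by rw [ZMod.card, Fintype.card_prod, Fintype.card_fin]; exact hRlt)
  set x : ℤ := (u : ℕ) - (u' : ℕ) with hx
  set y : ℤ := (v : ℕ) - (v' : ℕ) with hy
  have hdvd : (ℓ : ℤ) ∣ x ^ 2 + 5 * y ^ 2 := by
    rw [← ZMod.intCast_zmod_eq_zero_iff_dvd]
    simp only [hx, hy]
    push_cast
    have h1 : ((u : ℕ) : ZMod ℓ) - ((u' : ℕ) : ZMod ℓ) = s * (((v : ℕ) : ZMod ℓ) - ((v' : ℕ) : ZMod ℓ)) := by
      linear_combination heq
    rw [h1]
    linear_combination (-((((v : ℕ) : ZMod ℓ) - ((v' : ℕ) : ZMod ℓ)) ^ 2)) * hs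
  obtain ⟨k, hk⟩ := hdvd
  have hRsq : (R : ℤ) * R < ℓ := by
    have h1 : R * R ≤ ℓ := Nat.sqrt_le ℓ
    have h2 : R * R ≠ ℓ := by
      intro e
      have := (Nat.prime_mul_iff.1 (e ▸ hℓ))
      rcases this with ⟨_, h3⟩ | ⟨_, h3⟩ <;> rw [h3] at e <;> simp at e <;> omega
    exact_mod_cast lt_of_le_of_ne h1 h2
  have hxb : x ^ 2 ≤ (R : ℤ) * R := by
    have h1 : |x| ≤ (R : ℤ) := by
      rw [abs_le]; have := u.2; have := u'.2; omega
    nlinarith [abs_nonneg x, sq_abs x]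
  have hyb : y ^ 2 ≤ (R : ℤ) * R := by
    have h1 : |y| ≤ (R : ℤ) := by
      rw [abs_le]; have := v.2; have := v'.2; omega
    nlinarith [abs_nonneg y, sq_abs y]
  have hpos : 0 < x ^ 2 + 5 * y ^ 2 := by
    rcases eq_or_ne y 0 with hy0 | hy0
    · have hx0 : x ≠ 0 := fun hx0 => hne (by
        have h1 : (u : ℕ) = u' := by omega
        have h2 : (v : ℕ) = v' := by omega
        exact Prod.ext (Fin.ext h1) (Fin.ext h2))
      positivity
    · positivity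
  have hl0 : (0 : ℤ) < ℓ := by exact_mod_cast hℓ.pos
  have hk1 : 0 < k := by
    by_contra hk1
    push Not at hk1
    nlinarith
  have hk6 : k < 6 := by
    by_contra hk6
    push Not at hk6
    nlinarith
  have hl20 : ((ℓ : ℤ) % 20) = 3 := by exact_mod_cast h
  have hsq4 : ∀ z : ℤ, z ^ 2 % 4 = 0 ∨ z ^ 2 % 4 = 1 := fun z => by
    rcases Int.even_or_odd z with ⟨t, rfl⟩ | ⟨t, rfl⟩ <;> ring_nf <;> omega
  have hsq5 : ∀ z : ℤ, z ^ 2 % 5 = 0 ∨ z ^ 2 % 5 = 1 ∨ z ^ 2 % 5 = 4 := fun z => by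
    have h1 : z ^ 2 % 5 = (z % 5) ^ 2 % 5 := by rw [pow_two, pow_two, Int.mul_emod]
    have h2 : z % 5 = 0 ∨ z % 5 = 1 ∨ z % 5 = 2 ∨ z % 5 = 3 ∨ z % 5 = 4 := by omega
    rcases h2 with e | e | e | e | e <;> rw [h1, e] <;> norm_num
  have h4x := hsq4 x
  have h4y := hsq4 y
  have h5x := hsq5 x
  interval_cases k
  · omega
  · exact ⟨x, y, by linarith⟩
  · -- convert a representation of `3ℓ` into one of `2ℓ`
    have h3 : ∀ z : ℤ, z % 3 = 0 ∨ z % 3 = 1 ∨ z % 3 = 2 := fun z => by omega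
    have hsq : (x ^ 2 + 5 * y ^ 2) % 3 = 0 := by omega
    obtain ⟨y', hy', hxy⟩ := mod_three x y hsq
    obtain ⟨p, hp⟩ : (3 : ℤ) ∣ x - y' := Int.dvd_of_emod_eq_zero hxy
    obtain ⟨r, hr⟩ : (3 : ℤ) ∣ x + 5 * y' := ⟨p + 2 * y', by linarith⟩
    refine ⟨r, p, ?_⟩
    have : 9 * (2 * (ℓ : ℤ)) = 9 * (r ^ 2 + 5 * p ^ 2) := by
      rw [show 9 * (r ^ 2 + 5 * p ^ 2) = (3 * r) ^ 2 + 5 * (3 * p) ^ 2 by ring, ← hr, ← hp]
      linear_combination (-6) * hk - 30 * hy'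
    linarith
  · omega
  · omega

/-- Two squares from three. -/
theorem two_squares_of_three {F : Type*} [Field F] {a b c : F} (h : -1 = a ^ 2 + b ^ 2 + c ^ 2) :
    ∃ x y : F, x ^ 2 + y ^ 2 = -1 := by
  by_cases hbc : b ^ 2 + c ^ 2 = 0
  · exact ⟨a, 0, by linear_combination -h - hbc⟩
  refine ⟨(a * b + c) / (b ^ 2 + c ^ 2), (a * c - b) / (b ^ 2 + c ^ 2), ?_⟩
  field_simp
  linear_combination -(b ^ 2 + c ^ 2) * h

/-- In a field containing `√5` and a primitive `n`-th root of unity with `n` prime to `10`, `n > 1`, `-1` is a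
sum of two squares. -/
theorem neg_one_two_squares {F : Type*} [Field F] [CharZero F] {x η : F} (hx : x ^ 2 = x + 1) {n : ℕ}
    (hn1 : 1 < n) (hn : n.Coprime 10) (hη : η ^ n = 1) (hη1 : η ≠ 1) :
    ∃ a b : F, a ^ 2 + b ^ 2 = -1 := by
  classical
  have h2n : ¬ 2 ∣ n := fun hd => by
    have h1 := Nat.dvd_gcd hd (show 2 ∣ 10 by norm_num)
    rw [show n.gcd 10 = 1 from hn] at h1
    norm_num at h1
  have hco : n.Coprime 20 := by
    rw [show (20 : ℕ) = 2 * 10 from rfl]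
    exact ((Nat.prime_two.coprime_iff_not_dvd.2 h2n).symm).mul_right hn
  obtain ⟨c, hc1, hc2⟩ := Nat.chineseRemainder hco (n - 1) 3
  have hn0 : n * 20 ≠ 0 := by omega
  have : NeZero (n * 20) := ⟨hn0⟩
  have hcu : IsUnit (c : ZMod (n * 20)) := by
    refine (ZMod.isUnit_iff_coprime c (n * 20)).2 (Nat.Coprime.mul_right ?_ ?_)
    · rw [Nat.coprime_comm, Nat.coprime_iff_gcd_eq_one, Nat.gcd_rec, hc1, ← Nat.gcd_rec,
        ← Nat.coprime_iff_gcd_eq_one]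
      exact (Nat.coprime_self_sub_right hn1.le).2 (Nat.coprime_one_right n)
    · rw [Nat.coprime_comm, Nat.coprime_iff_gcd_eq_one, Nat.gcd_rec, hc2]
      rfl
  obtain ⟨ℓ, -, hℓ, hℓc⟩ := Nat.forall_exists_prime_gt_and_eq_mod hcu 0
  have := Fact.mk hℓ
  rw [ZMod.natCast_eq_natCast_iff'] at hℓc
  have hℓn : ℓ ≡ n - 1 [MOD n] := ((Nat.ModEq.of_dvd (dvd_mul_right n 20) hℓc)).trans hc1
  have hℓ20 : ℓ % 20 = 3 := ((Nat.ModEq.of_dvd (dvd_mul_left 20 n) hℓc)).trans hc2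
  obtain ⟨m, k, hmk⟩ := exists_thue hℓ20
  obtain ⟨S, D, hSD⟩ := gauss_formula (ℓ := ℓ) (by omega)
  have hη0 : η ≠ 0 := fun e => by
    rw [e, zero_pow (by omega)] at hη; exact zero_ne_one hη
  have hgeom : ∑ i ∈ Finset.range ℓ, η ^ i = -η⁻¹ := by
    have h1 : η ^ ℓ = η⁻¹ := by
      rw [pow_eq_pow_mod _ hη, hℓn, ← pow_eq_pow_mod _ hη]
      exact eq_inv_of_mul_eq_one_left (by rw [← pow_succ, Nat.sub_add_cancel hn1.le, hη])
    rw [geom_sum_eq hη1, h1, div_eq_iff (sub_ne_zero.2 hη1)]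
    field_simp
    ring
  have h4 := congrArg (Polynomial.aeval η) hSD
  rw [Polynomial.cyclotomic_prime, map_mul, map_ofNat, map_sum, map_add, map_mul, map_pow, map_pow, map_natCast]
    at h4
  simp only [map_pow, Polynomial.aeval_X] at h4
  rw [hgeom] at h4
  obtain ⟨j, hj⟩ := Nat.odd_iff.2 (show n % 2 = 1 by omega)
  set ξ := η ^ (j + 1) with hξ
  have hξ2 : ξ ^ 2 = η := by
    rw [hξ, ← pow_mul, show (j + 1) * 2 = n + 1 by omega, pow_succ, hη, one_mul]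
  set A := Polynomial.aeval η S
  set B := Polynomial.aeval η D
  have hl : (ℓ : F) = (((m : F) + k * (2 * x - 1)) / 2) ^ 2 + (((m : F) - k * (2 * x - 1)) / 2) ^ 2 := by
    have h5 : (2 * x - 1) ^ 2 = (5 : F) := by linear_combination 4 * hx
    have h6 : (2 : F) * (ℓ : F) = (m : F) ^ 2 + 5 * (k : F) ^ 2 := by exact_mod_cast hmk
    field_simp
    linear_combination 2 * h6 - 2 * (k : F) ^ 2 * h5
  refine two_squares_of_three (a := A * ξ / 2) (b := ((m : F) + k * (2 * x - 1)) / 2 * (B * ξ / 2))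
    (c := ((m : F) - k * (2 * x - 1)) / 2 * (B * ξ / 2)) ?_
  have h7 : -1 = (A * ξ / 2) ^ 2 + (ℓ : F) * (B * ξ / 2) ^ 2 := by
    have h8 : η * η⁻¹ = 1 := mul_inv_cancel₀ hη0
    field_simp at h4 ⊢
    linear_combination h4 - (A ^ 2 + (ℓ : F) * B ^ 2) * hξ2
  linear_combination h7 + (B * ξ / 2) ^ 2 * hl

end CfsgLib.Icosa
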