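import Mathlib
import Cfsg.Agent.Lib.Icosa.Complement
import Cfsg.Agent.Lib.Icosa.Splitting

/-!
# Nonsolvable finite subgroups of division rings
-/

set_option autoImplicit false
set_option maxRecDepth 100000

namespace CfsgLib.Icosa

/-- A second word of order four, anticommuting with `fourWord`. -/
def fourWord' : List Bool := [false, true, true, false, true]

theorem quaternion_words :
    qmul Phi.phi (evalW Phi.phi fourWord') (evalW Phi.phi fourWord') = (-scal 1 : Q Phi) ∧
    qmul Phi.phi (evalW Phi.phi fourWord) (evalW Phi.phi fourWord')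
      + qmul Phi.phi (evalW Phi.phi fourWord') (evalW Phi.phi fourWord) = 0 := by
  decide +kernel

/-- The twist `(a, b) ↦ (a, b⁻¹)` on quadruples. -/
def qsig (u : Q Phi) : Q Phi :=
  (Phi.bar u.1 - Phi.bar u.2.2.1, Phi.bar u.2.1 - Phi.bar u.2.2.2, -Phi.bar u.2.2.1, -Phi.bar u.2.2.2)

/-- An element of twisted norm `-1`. -/
def twistY : Q Phi := (⟨-1, -1⟩, ⟨-1, 0⟩, ⟨0, -1⟩, ⟨0, 1⟩)

theorem twistY_spec : qmul Phi.phi (qsig twistY) twistY = (-scal 1 : Q Phi) := by decide +kernel

theorem order_mul_gens : (A5 * B5 : SL25) ^ 5 ≠ 1 ∧ (A5 * B5 : SL25) ^ 2 ≠ 1 ∧ (A5 * B5 : SL25) ^ 10 = 1 := by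
  decide +kernel

section

variable {D : Type*} [DivisionRing D]

theorem cycl_three {c : D} (hc : c ≠ 1) (h3 : c ^ 3 = 1) : c * c + c + 1 = 0 := by
  have h : (c - 1) * (c * c + c + 1) = 0 := by
    calc (c - 1) * (c * c + c + 1) = c ^ 3 - 1 := by noncomm_ring
      _ = 0 := by rw [h3, sub_self]
  exact (mul_eq_zero.1 h).resolve_left (sub_ne_zero.2 hc)

theorem sq_one_cases {c : D} (h : c ^ 2 = 1) : c = 1 ∨ c = -1 := sq_eq_one_iff.1 h

theorem false_of_two_squares {X Y i j : D} (hXi : Commute X i) (hXj : Commute X j) (hYi : Commute Y i)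
    (hYj : Commute Y j) (hXY : Commute X Y) (hi : i * i = -1) (hj : j * j = -1) (hij : i * j + j * i = 0)
    (h : X * X + Y * Y = -1) (h2 : (2 : D) ≠ 0) : False := by
  have hZ : (X + (Y * i + j)) * (X - (Y * i + j)) = 0 := by
    have e1 : (X + (Y * i + j)) * (X - (Y * i + j)) =
        X * X - (Y * i) * (Y * i) - Y * i * j - j * (Y * i) - j * j
          + ((Y * i) * X - X * (Y * i)) + (j * X - X * j) := by noncomm_ring
    have e2 : (Y * i) * (Y * i) = -(Y * Y) := by
      calc (Y * i) * (Y * i) = Y * (i * Y) * i := by noncomm_ring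
        _ = Y * Y * (i * i) := by rw [← hYi.eq]; noncomm_ring
        _ = -(Y * Y) := by rw [hi]; noncomm_ring
    have e3 : j * (Y * i) = Y * (j * i) := by rw [← mul_assoc, ← hYj.eq, mul_assoc]
    rw [e1, e2, e3, hj, ← (hXY.mul_right hXi).eq, ← hXj.eq, sub_self, sub_self, add_zero, add_zero]
    calc X * X - -(Y * Y) - Y * i * j - Y * (j * i) - -1
        = X * X + Y * Y + 1 - Y * (i * j + j * i) := by noncomm_ring
      _ = 0 := by rw [h, hij]; noncomm_ring
  have hji : Commute j i := by
    rcases mul_eq_zero.1 hZ with e | e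
    · rw [show j = -(X + Y * i) by rw [eq_neg_iff_add_eq_zero, ← e]; abel]
      exact (hXi.add_left (hYi.mul_left (Commute.refl i))).neg_left
    · rw [show j = X - Y * i by rw [eq_comm, ← sub_eq_zero, ← e]; abel]
      exact hXi.sub_left (hYi.mul_left (Commute.refl i))
  rw [hji.eq, ← two_mul] at hij
  have hne : i * j ≠ 0 := by
    refine mul_ne_zero (fun e => ?_) (fun e => ?_)
    · rw [e, mul_zero, eq_comm, neg_eq_zero] at hi; exact one_ne_zero hi
    · rw [e, mul_zero, eq_comm, neg_eq_zero] at hj; exact one_ne_zero hj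
  exact hne ((mul_eq_zero.1 hij).resolve_left h2)

theorem isField_double_centralizer {x w : D} (hxw : Commute x w) :
    IsField (Subring.centralizer ((Subring.centralizer ({x, w} : Set D) : Subring D) : Set D)) := by
  have hsub : ({x, w} : Set D) ⊆ (Subring.centralizer ({x, w} : Set D) : Set D) := by
    rintro y (rfl | rfl) <;> refine Subring.mem_centralizer_iff.2 ?_ <;> rintro z (rfl | rfl)
    exacts [rfl, hxw.symm.eq, hxw.eq, rfl]
  refine ⟨⟨0, 1, zero_ne_one⟩, fun p q => Subtype.ext ?_, fun {p} hp => ?_⟩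
  · have h1 : (p : D) ∈ Subring.centralizer ({x, w} : Set D) :=
      Subring.centralizer_le _ _ hsub p.2
    exact ((Subring.mem_centralizer_iff.1 q.2) p h1)
  · refine ⟨⟨(p : D)⁻¹, Subring.mem_centralizer_iff.2 fun z hz => ?_⟩, Subtype.ext ?_⟩
    · exact (Commute.inv_right₀ (Subring.mem_centralizer_iff.1 p.2 z hz : Commute z (p : D))).eq
    · exact mul_inv_cancel₀ fun e => hp (Subtype.ext e)

end

/-- A nonsolvable finite subgroup of a division ring is `SL(2,5)`. -/
theorem divisionRing_subgroup {D : Type*} [DivisionRing D] (H : Subgroup Dˣ) [Finite H]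
    (hH : ¬ Group.IsSolvable H) : Nonempty (H ≃* SL25) := by
  classical
  have hnt : Nontrivial H := by
    by_contra hc
    rw [not_nontrivial_iff_subsingleton] at hc
    exact hH (Group.isSolvable_of_comm fun a b => Subsingleton.elim _ _)
  -- characteristic zero
  have hchar : CharZero D := by
    obtain ⟨p, hp⟩ := CharP.exists D
    rcases CharP.char_is_prime_or_zero D p with hpp | h0
    · exfalso
      let R : Submodule ℤ D := Submodule.span ℤ (Set.range fun h : H => ((h : Dˣ) : D))
      have hfg : Module.Finite ℤ R := Module.Finite.span_of_finite ℤ (Set.finite_range _)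
      have hfin : Finite R := by
        refine Module.finite_of_fg_torsion (M := R) fun x => ?_
        exact ⟨⟨(p : ℤ), mem_nonZeroDivisors_of_ne_zero (by exact_mod_cast hpp.ne_zero)⟩, Subtype.ext (by simp)⟩
      have hmul : ∀ u v : D, u ∈ R → v ∈ R → u * v ∈ R := by
        intro u v hu hv
        induction hu using Submodule.span_induction with
        | mem u hu =>
          induction hv using Submodule.span_induction with
          | mem v hv =>
            obtain ⟨g, rfl⟩ := hu
            obtain ⟨k, rfl⟩ := hv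
            exact Submodule.subset_span ⟨g * k, by simp⟩
          | zero => simp
          | add a b _ _ ha hb => rw [mul_add]; exact R.add_mem ha hb
          | smul c a _ ha => rw [mul_smul_comm]; exact R.smul_mem c ha
        | zero => simp
        | add a b _ _ ha hb => rw [add_mul]; exact R.add_mem ha hb
        | smul c a _ ha => rw [smul_mul_assoc]; exact R.smul_mem c ha
      let S : Subring D :=
        { carrier := R
          mul_mem' := fun hu hv => hmul _ _ hu hv
          one_mem' := Submodule.subset_span ⟨1, by simp⟩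
          add_mem' := fun hu hv => R.add_mem hu hv
          zero_mem' := R.zero_mem
          neg_mem' := fun hu => R.neg_mem hu }
      have hSfin : Finite S := hfin
      have hSdom : IsDomain S := inferInstance
      refine hH (Group.isSolvable_of_comm fun g k => Subtype.ext (Units.ext ?_))
      have := (Finite.isDomain_to_isField S).mul_comm
        ⟨((g : Dˣ) : D), Submodule.subset_span ⟨g, rfl⟩⟩ ⟨((k : Dˣ) : D), Submodule.subset_span ⟨k, rfl⟩⟩
      exact congrArg Subtype.val this
    · subst h0
      exact CharP.charP_to_charZero D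
  obtain ⟨V, _, _, _, _, ρ, hρ⟩ := exists_fpf_rep (CfsgLib.FGS.exists_complement_of_subgroup_units H)
  obtain ⟨a, b, P⟩ := exists_icosaPair hρ hH
  obtain ⟨hn, M, hMn, hcop, hZ, hinf, hcomm, hidx, hCle⟩ := P.structure_thm
  obtain ⟨θ, hθ, hθA, hθB, hθr⟩ := P.exists_hom
  let τ : H →* D := (Units.coeHom D).comp H.subtype
  have hτ : Function.Injective τ := fun g k h => Subtype.ext (Units.ext h)
  have hne1 : ∀ {g : H}, g ≠ 1 → τ g ≠ 1 := fun hg e => hg (hτ (e.trans (map_one τ).symm))
  set A := τ a with hA
  set B := τ b with hB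
  have hA3 : A * A + A + 1 = 0 := cycl_three (hne1 P.ha) (by rw [hA, ← map_pow, P.ha3, map_one])
  have hB3 : B * B + B + 1 = 0 := cycl_three (hne1 P.hb) (by rw [hB, ← map_pow, P.hb3, map_one])
  set g := a * b with hg
  have hgθ : θ (A5 * B5) = g := by rw [map_mul, hθA, hθB]
  obtain ⟨ho5, ho2, ho10⟩ := order_mul_gens
  have hg5 : τ g ^ 5 = -1 := by
    have h1 : (τ g ^ 5) ^ 2 = 1 := by
      rw [← pow_mul, ← hgθ, ← map_pow, ← map_pow, ho10, map_one, map_one]
    refine (sq_one_cases h1).resolve_left fun e => ho5 (hθ ?_)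
    rw [map_pow, hgθ, map_one]
    exact hτ (by rw [map_pow, e, map_one])
  set x := τ g + τ g⁻¹ with hx
  have hginv : τ g⁻¹ = -τ g ^ 4 := by
    have h1 : τ g * τ g⁻¹ = 1 := by rw [← map_mul, mul_inv_cancel, map_one]
    have h2 : τ g * (-τ g ^ 4) = 1 := by rw [mul_neg, ← pow_succ', hg5, neg_neg]
    exact mul_left_cancel₀ (left_ne_zero_of_mul_eq_one h1) (h1.trans h2.symm)
  have hΦ : τ g ^ 4 - τ g ^ 3 + τ g ^ 2 - τ g + 1 = 0 := by
    have h1 : (τ g + 1) * (τ g ^ 4 - τ g ^ 3 + τ g ^ 2 - τ g + 1) = 0 := by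
      calc _ = τ g ^ 5 + 1 := by noncomm_ring
        _ = 0 := by rw [hg5, neg_add_cancel]
    refine (mul_eq_zero.1 h1).resolve_left fun e => ?_
    have e1 : τ (g ^ 2) = τ 1 := by rw [map_pow, eq_neg_of_add_eq_zero_left e, map_one, neg_one_sq]
    exact ho2 (hθ (by rw [map_pow, hgθ, map_one]; exact hτ e1))
  have hxx : x * x = x + 1 := by
    rw [hx, hginv, ← sub_eq_zero]
    calc (τ g + -τ g ^ 4) * (τ g + -τ g ^ 4) - (τ g + -τ g ^ 4 + 1)
        = τ g ^ 5 * τ g ^ 3 - (τ g ^ 5 + τ g ^ 5) + τ g ^ 2 - τ g + τ g ^ 4 - 1 := by noncomm_ring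
      _ = -1 * τ g ^ 3 - (-1 + -1) + τ g ^ 2 - τ g + τ g ^ 4 - 1 := by rw [hg5]
      _ = τ g ^ 4 - τ g ^ 3 + τ g ^ 2 - τ g + 1 := by noncomm_ring
      _ = 0 := hΦ
  have hAinv : τ a⁻¹ = -1 - A := by
    have h1 : A * τ a⁻¹ = 1 := by rw [hA, ← map_mul, mul_inv_cancel, map_one]
    have h2 : A * (-1 - A) = 1 := by
      rw [← sub_eq_zero, ← neg_eq_zero, ← hA3]; noncomm_ring
    exact mul_left_cancel₀ (left_ne_zero_of_mul_eq_one h1) (h1.trans h2.symm)
  have hBinv : τ b⁻¹ = -1 - B := by
    have h1 : B * τ b⁻¹ = 1 := by rw [hB, ← map_mul, mul_inv_cancel, map_one]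
    have h2 : B * (-1 - B) = 1 := by
      rw [← sub_eq_zero, ← neg_eq_zero, ← hB3]; noncomm_ring
    exact mul_left_cancel₀ (left_ne_zero_of_mul_eq_one h1) (h1.trans h2.symm)
  have hlink : A * B + B * A + A + B + 1 = x := by
    rw [hx, hg, mul_inv_rev, map_mul, map_mul, hAinv, hBinv]
    noncomm_ring
  have hxA : Commute x A := by
    rw [← hlink]
    show _ = _
    have h1 : A * A = -1 - A := by rw [eq_sub_iff_add_eq, eq_neg_iff_add_eq_zero]; exact hA3
    simp only [add_mul, mul_add, one_mul, mul_one, mul_assoc, h1]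
    simp only [← mul_assoc, h1]
    noncomm_ring
  have hxB : Commute x B := by
    rw [← hlink]
    show _ = _
    have h1 : B * B = -1 - B := by rw [eq_sub_iff_add_eq, eq_neg_iff_add_eq_zero]; exact hB3
    simp only [add_mul, mul_add, one_mul, mul_one, mul_assoc, h1]
    simp only [← mul_assoc, h1]
    noncomm_ring
  let κ := phiHom x hxx
  have IP : IsPair κ Phi.phi A B :=
    ⟨hA3, hB3, hlink.trans (phiHom_phi x hxx).symm, phiHom_commute x hxx hxA, phiHom_commute x hxx hxB⟩
  have hneg : ev κ A B (-scal 1) = -1 := by rw [ev_neg, ev_scal, map_one]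
  have h2 : (2 : D) ≠ 0 := two_ne_zero
  -- the centralizer part is trivial
  have hM : M = ⊥ := by
    refine (Subgroup.eq_bot_iff_forall M).2 fun w hw => ?_
    by_contra hw1
    set i := ev κ A B (evalW Phi.phi fourWord) with hi
    set j := ev κ A B (evalW Phi.phi fourWord') with hj
    have hii : i * i = -1 := by rw [hi, ← ev_qmul IP, fourWord_sq, hneg]
    have hjj : j * j = -1 := by rw [hj, ← ev_qmul IP, quaternion_words.1, hneg]
    have hij : i * j + j * i = 0 := by rw [hi, hj, ← ev_qmul IP, ← ev_qmul IP, ← ev_add, quaternion_words.2, ev_zero]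
    have hwA : Commute (τ w) A :=
      (Commute.map (show Commute w a from (hcomm a (Subgroup.subset_closure (Or.inl rfl)) w hw).symm) τ)
    have hwB : Commute (τ w) B :=
      (Commute.map (show Commute w b from (hcomm b (Subgroup.subset_closure (Or.inr rfl)) w hw).symm) τ)
    have hwx : Commute (τ w) x := by
      rw [← hlink]
      exact ((((hwA.mul_right hwB).add_right (hwB.mul_right hwA)).add_right hwA).add_right hwB).add_right
        (Commute.one_right _)
    have hC : ∀ u : Q Phi, Commute x (ev κ A B u) ∧ Commute (τ w) (ev κ A B u) := fun u => by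
      have hk : ∀ (y : D), Commute y x → ∀ k, Commute y (κ k) := fun y hy k =>
        (phiHom_commute x hxx hy.symm k).symm
      constructor
      · exact ((((hk x (Commute.refl x) _).add_right ((hk x (Commute.refl x) _).mul_right hxA)).add_right
          ((hk x (Commute.refl x) _).mul_right hxB)).add_right
          ((hk x (Commute.refl x) _).mul_right (hxA.mul_right hxB)))
      · exact ((((hk _ hwx _).add_right ((hk _ hwx _).mul_right hwA)).add_right
          ((hk _ hwx _).mul_right hwB)).add_right ((hk _ hwx _).mul_right (hwA.mul_right hwB)))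
    set F := Subring.centralizer ((Subring.centralizer ({x, τ w} : Set D) : Subring D) : Set D) with hF
    let _ : Field F := (isField_double_centralizer hwx.symm).toField
    have : CharZero F := F.subtype.charZero_iff Subtype.val_injective |>.2 hchar
    have hxF : x ∈ F := Subring.mem_centralizer_iff.2 fun z hz =>
      ((Subring.mem_centralizer_iff.1 hz) x (Or.inl rfl)).symm
    have hwF : τ w ∈ F := Subring.mem_centralizer_iff.2 fun z hz =>
      ((Subring.mem_centralizer_iff.1 hz) (τ w) (Or.inr rfl)).symm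
    have hord : 1 < orderOf w := by
      have := orderOf_pos w
      have : orderOf w ≠ 1 := fun e => hw1 (orderOf_eq_one_iff.1 e)
      omega
    have hco10 : (orderOf w).Coprime 10 := by
      refine ((hcop.coprime_dvd_left ?_).coprime_dvd_right (by norm_num : 10 ∣ 30))
      exact (Subgroup.orderOf_mk w hw).symm ▸ orderOf_dvd_natCard (⟨w, hw⟩ : M)
    obtain ⟨p, q, hpq⟩ := neg_one_two_squares (F := F) (x := ⟨x, hxF⟩) (η := ⟨τ w, hwF⟩)
      (Subtype.ext (by simpa [pow_two] using hxx)) hord hco10
      (Subtype.ext (by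
        show τ w ^ orderOf w = 1
        rw [← map_pow, pow_orderOf_eq_one, map_one]))
      (fun e => hne1 hw1 (congrArg Subtype.val e))
    have hcen : ∀ (f : F) (u : Q Phi), Commute (f : D) (ev κ A B u) := fun f u => by
      refine ((Subring.mem_centralizer_iff.1 f.2) _ (Subring.mem_centralizer_iff.2 ?_)).symm
      rintro z (rfl | rfl)
      exacts [(hC u).1.eq, (hC u).2.eq]
    refine false_of_two_squares (hcen p _) (hcen p _) (hcen q _) (hcen q _) ?_ hii hjj hij ?_ h2
    · exact congrArg Subtype.val (mul_comm p q)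
    · simpa [pow_two] using congrArg Subtype.val hpq
  -- no outer element
  have htop : Subgroup.closure ({a, b} : Set H) = ⊤ := by
    rw [hM, sup_bot_eq] at hidx hCle
    refine (Subgroup.eq_top_iff' _).2 fun k₀ => ?_
    by_contra hk₀
    obtain ⟨k, hk, hka, hkb⟩ := P.conj_form k₀
    set u := k⁻¹ * k₀ with hu
    have huI : u ∉ Subgroup.closure ({a, b} : Set H) := fun h => hk₀ (by simpa [hu] using mul_mem hk h)
    rcases hkb with hkb | hkb
    · refine huI (hCle (Subgroup.mem_centralizer_iff.2 fun z hz => ?_))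
      rcases hz with rfl | rfl
      exacts [(mul_inv_eq_iff_eq_mul.1 hka).symm, (mul_inv_eq_iff_eq_mul.1 hkb).symm]
    have hua : u * a = a * u := mul_inv_eq_iff_eq_mul.1 hka
    have hub : u * b = b⁻¹ * u := mul_inv_eq_iff_eq_mul.1 hkb
    set U := τ u with hU
    have hUA : U * A = A * U := by rw [hU, hA, ← map_mul, hua, map_mul]
    have hUB : U * B = (-1 - B) * U := by rw [hU, hB, ← map_mul, hub, map_mul, hBinv]
    obtain ⟨z, hz, hρz, hz1, hz2, hzc⟩ := P.exists_neg
    have hu2 : u ^ 2 = 1 ∨ u ^ 2 = z := by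
      have hca : Commute (u ^ 2) a := (show Commute u a from hua).pow_left 2
      have hcb : Commute (u ^ 2) b := by
        show u ^ 2 * b = b * u ^ 2
        have h3 : u * b⁻¹ = b * u := by
          calc u * b⁻¹ = (u * b * u⁻¹)⁻¹ * u := by group
            _ = b * u := by rw [hub, mul_inv_cancel_right, inv_inv]
        rw [pow_two, mul_assoc, hub, ← mul_assoc, h3, mul_assoc]
      refine hzc _ (hCle (Subgroup.mem_centralizer_iff.2 fun y hy => ?_)) hca hcb
      rcases hy with rfl | rfl
      exacts [hca.symm.eq, hcb.symm.eq]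
    have hU2 : U * U = -1 := by
      rcases hu2 with e | e
      · exfalso
        rcases sq_one_cases (c := U) (by rw [hU, ← map_pow, e, map_one]) with e1 | e1
        · exact huI (by rw [hτ (e1.trans (map_one τ).symm)]; exact one_mem _)
        · have hτz : τ z = -1 := (sq_one_cases (by rw [← map_pow, hz2, map_one])).resolve_left (hne1 hz1)
          exact huI (hτ (e1.trans hτz.symm) ▸ hz)
      · rw [← pow_two, hU, ← map_pow, e]
        exact (sq_one_cases (by rw [← map_pow, hz2, map_one])).resolve_left (hne1 hz1)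
    have hUx : U * x = (1 - x) * U := by
      rw [← hlink]
      calc U * (A * B + B * A + A + B + 1) = (U * A) * B + (U * B) * A + U * A + U * B + U := by noncomm_ring
        _ = A * (U * B) + (-1 - B) * (U * A) + U * A + U * B + U := by rw [hUA, hUB, mul_assoc A U B, hUB, mul_assoc (-1 - B) U A, hUA]
        _ = (1 - (A * B + B * A + A + B + 1)) * U := by rw [hUA, hUB]; noncomm_ring
    have hUk : ∀ k : Phi, U * κ k = κ (Phi.bar k) * U := fun k => by
      show U * (k.p • (1 : D) + k.q • x) = ((k.p + k.q) • (1 : D) + (-k.q) • x) * U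
      rw [mul_add, add_mul, mul_smul_comm, mul_smul_comm, smul_mul_assoc, smul_mul_assoc, hUx, mul_one, one_mul,
        sub_mul, one_mul, smul_sub, add_smul, neg_smul]
      abel
    have hUev : ∀ v : Q Phi, U * ev κ A B v = ev κ A B (qsig v) * U := fun v => by
      simp only [ev, qsig, map_sub, map_neg, mul_add, add_mul]
      rw [← mul_assoc U (κ v.2.1), ← mul_assoc U (κ v.2.2.1), ← mul_assoc U (κ v.2.2.2), hUk, hUk, hUk, hUk,
        mul_assoc _ U A, hUA, mul_assoc _ U B, hUB, mul_assoc _ U (A * B), ← mul_assoc U A B, hUA,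
        mul_assoc A U B, hUB]
      noncomm_ring
    set y := ev κ A B twistY
    set X := ev κ A B (qsig twistY)
    have hXy : X * y = -1 := by rw [← ev_qmul IP, twistY_spec, hneg]
    have hz0 : (U - X) * (U + y) = 0 := by
      calc (U - X) * (U + y) = U * U + U * y - X * U - X * y := by noncomm_ring
        _ = 0 := by rw [hU2, hUev, hXy]; noncomm_ring
    have hxU : Commute x U := by
      have hkx : ∀ k, Commute x (κ k) := fun k => (phiHom_commute x hxx (Commute.refl x) k).symm
      have hev : ∀ v, Commute x (ev κ A B v) := fun v =>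
        ((((hkx _).add_right ((hkx _).mul_right hxA)).add_right ((hkx _).mul_right hxB)).add_right
          ((hkx _).mul_right (hxA.mul_right hxB)))
      rcases mul_eq_zero.1 hz0 with e | e
      · rw [sub_eq_zero.1 e]; exact hev _
      · rw [eq_neg_of_add_eq_zero_left e]; exact (hev _).neg_right
    rw [← hxU.eq] at hUx
    have hx1 : x = 1 - x := mul_right_cancel₀ (fun e => by
      rw [e, mul_zero, eq_comm, neg_eq_zero] at hU2; exact one_ne_zero hU2) hUx
    have h4 : (2 * x) * (2 * x) = (2 : D) * 2 * (x + 1) := by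
      rw [← hxx]; noncomm_ring
    have h5 : 2 * x = 1 := by rw [two_mul]; nth_rw 1 [hx1]; abel
    rw [h5, one_mul, mul_add, mul_assoc, h5, mul_one, mul_one] at h4
    norm_num at h4
  obtain ⟨e⟩ := P.nonempty_iso
  exact ⟨(Subgroup.topEquiv.symm.trans (MulEquiv.subgroupCongr htop.symm)).trans e⟩

end CfsgLib.Icosa
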