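import Mathlib
import Cfsg.Agent.Lib.Icosa.Main

/-!
# The action on five blocks of elements of order four

The thirty elements of order four of an icosahedral subgroup fall into five blocks of six; the conjugation
action on the blocks gives the quotient `A₅` or `S₅`.
-/

set_option autoImplicit false
set_option linter.unusedSectionVars false
set_option maxRecDepth 100000

namespace CfsgLib.Icosa

open Subgroup

/-- The five blocks. -/
def blocks : Fin 5 → List ℕ :=
  ![[24, 31, 66, 80, 86, 101], [26, 33, 74, 82, 88, 106], [27, 76, 77, 99, 108, 119],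
    [28, 34, 61, 69, 79, 92], [30, 36, 64, 73, 85, 96]]

/-- Inversion of the second generator on words, if the flag is set. -/
def twist (f : Bool) (w : List Bool) : List Bool :=
  bif f then w.flatMap (fun t => bif t then [true, true] else [false]) else w

/-- The `i`-th word. -/
abbrev wd (i : ℕ) : List Bool := words.getD i []

theorem blocks_gen : ∀ c : Bool, ∀ t : Fin 5, ∃ t' : Fin 5, ∀ j ∈ blocks t, ∃ j' ∈ blocks t',
    idxW (c :: wd j) = idxW (wd j' ++ [c]) := by
  decide +kernel

theorem blocks_twist : ∀ f : Bool, ∀ t : Fin 5, ∃ t' : Fin 5, ∀ j ∈ blocks t, ∃ j' ∈ blocks t',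
    idxW (twist f (wd j)) = j' := by
  decide +kernel

theorem blocks_idx : ∀ t : Fin 5, blocks t ≠ [] ∧ ∀ j ∈ blocks t, idxW (wd j) = j := by decide +kernel

theorem blocks_disjoint : ∀ t t' : Fin 5, ∀ j ∈ blocks t, j ∈ blocks t' → t = t' := by decide +kernel

theorem blocks_fix : ∀ i : Fin 120, ∀ f : Bool,
    (∀ t : Fin 5, ∀ j ∈ blocks t, ∃ j' ∈ blocks t, idxW (wd i ++ twist f (wd j)) = idxW (wd j' ++ wd i)) →
      f = false ∧ ((i : ℕ) = 0 ∨ (i : ℕ) = negIdx) := by
  decide +kernel

theorem wd_idx : ∀ j : Fin 120, idxW (wd j) = j := by decide +kernel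

theorem map_wordG {M N : Type*} [Monoid M] [Monoid N] (f : M →* N) (a b : M) (w : List Bool) :
    f (wordG a b w) = wordG (f a) (f b) w := by
  induction w using List.reverseRecOn with
  | nil => simp [wordG]
  | append_singleton w t ih =>
    rw [wordG_append, wordG_append, map_mul, ih]
    cases t <;> simp [wordG]

theorem wordG_twist {M : Type*} [Monoid M] (a b : M) (f : Bool) (w : List Bool) :
    wordG a b (twist f w) = wordG a (bif f then b * b else b) w := by
  cases f
  · rfl
  · induction w using List.reverseRecOn with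
    | nil => rfl
    | append_singleton w t ih =>
      simp only [twist, cond_true] at ih ⊢
      rw [List.flatMap_append, wordG_append, wordG_append, ih]
      cases t <;> simp [wordG]

namespace IcosaPair

variable {G : Type*} [Group G] [Finite G] {V : Type*} [AddCommGroup V] [Module ℂ V] [FiniteDimensional ℂ V]
  [Nontrivial V] {ρ : G →* Module.End ℂ V} {a b : G} (P : IcosaPair ρ a b)
include P

theorem card_closure_eq : Nat.card (closure ({a, b} : Set G)) = 120 := by
  refine (Nat.card_eq_of_bijective
    (fun i : Fin 120 => (⟨wordG a b (wd i), wordG_mem a b _⟩ : closure ({a, b} : Set G))) ⟨?_, ?_⟩).symm.trans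
    (Nat.card_fin 120)
  · intro i j h
    have h1 := P.idxW_eq (congrArg Subtype.val h)
    rw [wd_idx, wd_idx] at h1
    exact Fin.ext h1
  · intro x
    obtain ⟨i, hi, -⟩ := P.exists_idx x.2
    exact ⟨i, Subtype.ext hi.symm⟩

/-- The conjugation action on the five blocks. -/
theorem exists_five_action : ∃ π : G →* Equiv.Perm (Fin 5), π.ker = centralizer ({a, b} : Set G) ∧
    (π.range = ⊤ ∨ π.range = alternatingGroup (Fin 5)) := by
  classical
  let S : Fin 5 → Set G := fun t => {x | ∃ j ∈ blocks t, x = wordG a b (wd j)}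
  let Pp : G → Prop := fun g => ∀ t, ∃ t', ∀ x ∈ S t, g * x * g⁻¹ ∈ S t'
  have hmul : ∀ g h, Pp g → Pp h → Pp (g * h) := by
    intro g h hg hh t
    obtain ⟨t1, h1⟩ := hh t
    obtain ⟨t2, h2⟩ := hg t1
    exact ⟨t2, fun x hx => by simpa [mul_assoc] using h2 _ (h1 x hx)⟩
  have hgen : ∀ c : Bool, Pp (bif c then b else a) := by
    intro c t
    obtain ⟨t', h'⟩ := blocks_gen c t
    refine ⟨t', ?_⟩
    rintro x ⟨j, hj, rfl⟩
    obtain ⟨j', hj', he⟩ := h' j hj
    refine ⟨j', hj', ?_⟩
    have h1 : wordG a b (c :: wd j) = wordG a b (wd j' ++ [c]) := by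
      rw [P.word_eq, P.word_eq (wd j' ++ [c]), he]
    rw [show c :: wd j = [c] ++ wd j from rfl, wordG_append, wordG_append,
      show wordG a b [c] = bif c then b else a by simp [wordG]] at h1
    rw [h1, mul_inv_cancel_right]
  have hword : ∀ w : List Bool, Pp (wordG a b w) := by
    intro w
    induction w using List.reverseRecOn with
    | nil => exact fun t => ⟨t, fun x hx => by simpa [wordG] using hx⟩
    | append_singleton w c ih =>
      rw [wordG_append, show wordG a b [c] = bif c then b else a by simp [wordG]]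
      exact hmul _ _ ih (hgen c)
  have hform : ∀ g : G, ∃ (i : Fin 120) (f : Bool) (u : G), g = wordG a b (wd i) * u ∧
      u * a * u⁻¹ = a ∧ u * b * u⁻¹ = bif f then b * b else b := by
    intro g
    obtain ⟨k, hk, hka, hkb⟩ := P.conj_form g
    obtain ⟨i, hi, -⟩ := P.exists_idx hk
    have hbb : b⁻¹ = b * b := inv_eq_of_mul_eq_one_right (by rw [← pow_three, P.hb3])
    rcases hkb with e | e
    · exact ⟨i, false, k⁻¹ * g, by rw [← hi, mul_inv_cancel_left], hka, e⟩
    · exact ⟨i, true, k⁻¹ * g, by rw [← hi, mul_inv_cancel_left], hka, e.trans hbb⟩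
  have hconj : ∀ (u : G) (f : Bool) (w : List Bool), u * a * u⁻¹ = a → (u * b * u⁻¹ = bif f then b * b else b) →
      u * wordG a b w * u⁻¹ = wordG a b (twist f w) := by
    intro u f w hua hub
    have h1 := map_wordG (MulAut.conj u).toMonoidHom a b w
    simp only [MulEquiv.coe_toMonoidHom, MulAut.conj_apply] at h1
    rw [h1, hua, hub, wordG_twist]
  have hall : ∀ g, Pp g := by
    intro g
    obtain ⟨i, f, u, rfl, hua, hub⟩ := hform g
    refine hmul _ _ (hword _) fun t => ?_
    obtain ⟨t', h'⟩ := blocks_twist f t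
    refine ⟨t', ?_⟩
    rintro x ⟨j, hj, rfl⟩
    obtain ⟨j', hj', he⟩ := h' j hj
    refine ⟨j', hj', ?_⟩
    rw [hconj u f _ hua hub, P.word_eq, he]
  have hne : ∀ t, ∃ x, x ∈ S t := by
    intro t
    obtain ⟨j, hj⟩ := List.exists_mem_of_ne_nil _ (blocks_idx t).1
    exact ⟨_, j, hj, rfl⟩
  have huniq : ∀ {x t t'}, x ∈ S t → x ∈ S t' → t = t' := by
    rintro x t t' ⟨j, hj, rfl⟩ ⟨j', hj', he⟩
    have h1 := P.idxW_eq he
    rw [(blocks_idx t).2 j hj, (blocks_idx t').2 j' hj'] at h1
    exact blocks_disjoint t t' j hj (h1 ▸ hj')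
  choose act hact using hall
  have hone : act 1 = id := funext fun t => by
    obtain ⟨x, hx⟩ := hne t
    have h1 := hact 1 t x hx
    rw [inv_one, mul_one, one_mul] at h1
    exact huniq h1 hx
  have hmulact : ∀ g h, act (g * h) = act g ∘ act h := fun g h => funext fun t => by
    obtain ⟨x, hx⟩ := hne t
    refine huniq (hact (g * h) t x hx) ?_
    have h1 := hact g (act h t) _ (hact h t x hx)
    simpa [mul_assoc] using h1
  let π : G →* Equiv.Perm (Fin 5) := MonoidHom.toHomPerm
    { toFun := act
      map_one' := hone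
      map_mul' := hmulact }
  have hπ : ∀ g t, π g t = act g t := fun g t => rfl
  have hker : π.ker = centralizer ({a, b} : Set G) := by
    ext g
    rw [MonoidHom.mem_ker]
    constructor
    · intro hg
      have hfix : ∀ t, act g t = t := fun t => by rw [← hπ, hg, Equiv.Perm.one_apply]
      obtain ⟨i, f, u, rfl, hua, hub⟩ := hform g
      obtain ⟨hf, hi⟩ := blocks_fix i f (by
        intro t j hj
        have h1 := hact (wordG a b (wd i) * u) t (wordG a b (wd j)) ⟨j, hj, rfl⟩
        rw [hfix] at h1
        obtain ⟨j', hj', he⟩ := h1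
        refine ⟨j', hj', P.idxW_eq ?_⟩
        rw [wordG_append, wordG_append, ← hconj u f _ hua hub, ← he]
        group)
      subst hf
      have hu : u ∈ centralizer ({a, b} : Set G) := mem_centralizer_iff.2 fun x hx => by
        rcases hx with rfl | rfl
        exacts [(mul_inv_eq_iff_eq_mul.1 hua).symm, (mul_inv_eq_iff_eq_mul.1 hub).symm]
      refine mul_mem ?_ hu
      rcases hi with e | e
      · rw [e, show wd 0 = words.getD 0 [] from rfl, P.idx_zero]
        exact one_mem _
      · have hz : ρ (wordG a b (wd i)) = -1 := by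
          rw [P.rho_word, e]
          show ev P.kap (ρ a) (ρ b) (elem negIdx) = -1
          rw [elem_neg.1, ev_neg, ev_scal, map_one]
        refine mem_centralizer_iff.2 fun x _ => P.fpf.injective ?_
        rw [map_mul, map_mul, hz, mul_neg, neg_mul, mul_one, one_mul]
    · intro hg
      refine Equiv.ext fun t => ?_
      obtain ⟨x, hx⟩ := hne t
      rw [hπ, Equiv.Perm.one_apply]
      refine huniq (x := x) ?_ hx
      have hcomm : Commute g x := by
        obtain ⟨j, -, rfl⟩ := hx
        have hm := wordG_mem a b (wd j)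
        refine (mem_centralizer_iff.1 ?_ _ hm).symm
        rwa [centralizer_closure]
      have h1 := hact g t x hx
      rwa [hcomm.eq, mul_inv_cancel_right] at h1
  refine ⟨π, hker, ?_⟩
  obtain ⟨z, hzI, hρz, hz1, hz2, hzc⟩ := P.exists_neg
  set I := closure ({a, b} : Set G)
  have hkerI : Nat.card (π.ker.subgroupOf I) = 2 := by
    rw [Nat.card_eq_two_iff' (1 : π.ker.subgroupOf I)]
    have hzk : z ∈ π.ker := by
      rw [hker]
      refine mem_centralizer_iff.2 fun x _ => P.fpf.injective ?_
      rw [map_mul, map_mul, hρz, mul_neg, neg_mul, mul_one, one_mul]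
    refine ⟨⟨⟨z, hzI⟩, mem_subgroupOf.2 hzk⟩, fun e => hz1 (congrArg (fun v : π.ker.subgroupOf I => ((v : I) : G)) e),
      fun v hv => ?_⟩
    have hvk : ((v : I) : G) ∈ centralizer ({a, b} : Set G) := hker ▸ mem_subgroupOf.1 v.2
    rcases hzc _ (v : I).2 (mem_centralizer_iff.1 hvk a (Or.inl rfl)).symm
        (mem_centralizer_iff.1 hvk b (Or.inr rfl)).symm with e | e
    · exact absurd (Subtype.ext (Subtype.ext e)) hv
    · exact Subtype.ext (Subtype.ext e)
  have h60 : Nat.card (I.map π) = 60 := by
    have h1 := Subgroup.card_eq_card_quotient_mul_card_subgroup (π.ker.subgroupOf I)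
    rw [hkerI, P.card_closure_eq] at h1
    have h2 : Nat.card (I.map π) = Nat.card (I ⧸ π.ker.subgroupOf I) := by
      have e := QuotientGroup.quotientKerEquivRange (π.comp I.subtype)
      have hk : (π.comp I.subtype).ker = π.ker.subgroupOf I := rfl
      have hr : (π.comp I.subtype).range = I.map π := by
        rw [MonoidHom.range_eq_map, ← Subgroup.map_map, ← MonoidHom.range_eq_map, Subgroup.range_subtype]
      rw [← hr, ← Nat.card_congr e.toEquiv]
      exact Nat.card_congr (QuotientGroup.quotientMulEquivOfEq hk).toEquiv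
    omega
  have hdvd : Nat.card π.range ∣ 120 := by
    have := Subgroup.card_subgroup_dvd_card π.range
    rwa [Nat.card_perm, Nat.card_fin, show Nat.factorial 5 = 120 from rfl] at this
  have hdvd' : 60 ∣ Nat.card π.range := h60 ▸ Subgroup.card_dvd_of_le (Subgroup.map_le_range π I)
  obtain ⟨m, hm⟩ := hdvd'
  rw [hm] at hdvd
  have hm2 : m ∣ 2 := Nat.dvd_of_mul_dvd_mul_left (by norm_num : 0 < 60) (by simpa using hdvd)
  rcases (Nat.dvd_prime Nat.prime_two).1 hm2 with rfl | rfl
  · right
    refine Equiv.Perm.eq_alternatingGroup_of_index_eq_two ?_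
    have h1 := π.range.card_mul_index
    rw [hm, Nat.card_perm, Nat.card_fin, show Nat.factorial 5 = 120 from rfl] at h1
    omega
  · left
    exact Subgroup.eq_top_of_card_eq _ (by rw [hm, Nat.card_perm, Nat.card_fin]; rfl)

end IcosaPair

end CfsgLib.Icosa
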