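import Mathlib

/-!
# Small symmetric and alternating groups have no nontrivial normal subgroup with cyclic Sylow subgroups
-/

set_option autoImplicit false
set_option maxRecDepth 100000

namespace CfsgLib.Icosa

open Equiv

/-- The commutator used in the checks. -/
def cm {n : ℕ} (x g : Perm (Fin n)) : Perm (Fin n) := x * g * x⁻¹ * g⁻¹

theorem four_comm : ∀ x : Perm (Fin 4), x ≠ 1 → ∃ g : Perm (Fin 4), cm x g ^ 5 ≠ 1 ∧ Perm.sign g = 1 := by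
  decide +kernel

theorem five_comm : ∀ x : Perm (Fin 5), x ≠ 1 → ∃ g : Perm (Fin 5), cm x g ^ 5 ≠ 1 ∧ Perm.sign g = 1 := by
  decide +kernel

theorem four_invol : ∀ x : Perm (Fin 4), x ^ 5 ≠ 1 → ∃ g : Perm (Fin 4),
    cm x g ≠ 1 ∧ cm x g * cm x g = 1 ∧ Perm.sign g = 1 := by
  decide +kernel

theorem five_invol : ∀ x : Perm (Fin 5), x ^ 5 ≠ 1 → ∃ g : Perm (Fin 5),
    cm x g ≠ 1 ∧ cm x g * cm x g = 1 ∧ Perm.sign g = 1 := by
  decide +kernel

theorem four_pair : ∀ u : Perm (Fin 4), u * u = 1 → u ≠ 1 → Perm.sign u = 1 → ∃ h : Perm (Fin 4),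
    h * u * h⁻¹ ≠ u ∧ (h * u * h⁻¹) * u = u * (h * u * h⁻¹) ∧ Perm.sign h = 1 := by
  decide +kernel

theorem five_pair : ∀ u : Perm (Fin 5), u * u = 1 → u ≠ 1 → Perm.sign u = 1 → ∃ h : Perm (Fin 5),
    h * u * h⁻¹ ≠ u ∧ (h * u * h⁻¹) * u = u * (h * u * h⁻¹) ∧ Perm.sign h = 1 := by
  decide +kernel

end CfsgLib.Icosa
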