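import Mathlib
import Cfsg.Agent.Lib.Icosa.Small
import Cfsg.Agent.Lib.Solvable.Fitting
import Cfsg.Agent.Lib.Cores.Basic

/-!
# Core quotients of solvable fixed-point-free groups

If every `2`-subgroup of a finite group `H` is cyclic or quaternion, some of them is not cyclic, and
`O₂(H)` contains its centralizer, then `H` has a cyclic normal subgroup with quotient `V₄`, `A₄` or `S₄`.
-/

set_option autoImplicit false
set_option linter.unusedSectionVars false

namespace CfsgLib.Icosa

open Subgroup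

/-- The map of a generalized quaternion group onto the four-group. -/
theorem quaternion_to_klein (n : ℕ) : ∃ f : QuaternionGroup (2 ^ (n + 1)) →* DihedralGroup 2,
    Function.Surjective f ∧ IsCyclic f.ker := by
  have hd : 2 ∣ 2 * 2 ^ (n + 1) := dvd_mul_right 2 _
  let c : ZMod (2 * 2 ^ (n + 1)) →+* ZMod 2 := ZMod.castHom hd (ZMod 2)
  have hm : c ((2 ^ (n + 1) : ℕ) : ZMod (2 * 2 ^ (n + 1))) = 0 := by
    rw [map_natCast]
    exact (ZMod.natCast_eq_zero_iff _ _).2 (dvd_pow_self 2 (Nat.succ_ne_zero n))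
  let F : QuaternionGroup (2 ^ (n + 1)) → DihedralGroup 2 := fun q => match q with
    | .a i => .r (c i)
    | .xa i => .sr (c i)
  let f : QuaternionGroup (2 ^ (n + 1)) →* DihedralGroup 2 := MonoidHom.mk' F (by
    rintro (i | i) (j | j) <;>
      simp [F, QuaternionGroup.a_mul_a, QuaternionGroup.a_mul_xa, QuaternionGroup.xa_mul_a,
        QuaternionGroup.xa_mul_xa, show c 2 = 0 from map_ofNat c 2 ▸ rfl])
  refine ⟨f, ?_, ?_⟩
  · rintro (i | i)
    · obtain ⟨j, hj⟩ := ZMod.castHom_surjective hd i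
      exact ⟨.a j, congrArg DihedralGroup.r hj⟩
    · obtain ⟨j, hj⟩ := ZMod.castHom_surjective hd i
      exact ⟨.xa j, congrArg DihedralGroup.sr hj⟩
  · have : NeZero (2 * 2 ^ (n + 1)) := ⟨by positivity⟩
    refine Subgroup.isCyclic_of_le (H := f.ker) (H' := zpowers (QuaternionGroup.a 1)) ?_
    rintro (i | i) hi
    · refine ⟨(i.val : ℤ), ?_⟩
      show QuaternionGroup.a 1 ^ (i.val : ℤ) = _
      rw [zpow_natCast, QuaternionGroup.a_one_pow, ZMod.natCast_zmod_val]
    · exact absurd hi (by simp [f, F, ← DihedralGroup.r_zero])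

theorem isPGroup_two_of_odd {G : Type*} [Group G] [Finite G] {K : Subgroup G}
    (h : ∀ g ∈ K, (orderOf g).Coprime 2 → g = 1) : IsPGroup 2 K := by
  refine IsPGroup.of_card (n := (Nat.card K).primeFactorsList.length) ?_
  refine Nat.eq_prime_pow_of_unique_prime_dvd Nat.card_pos.ne' fun {p} hp hpK => ?_
  by_contra hp2
  have := Fact.mk hp
  obtain ⟨x, hx⟩ := exists_prime_orderOf_dvd_card' p hpK
  have h1 := h x x.2 (by rw [orderOf_coe, hx]; exact (Nat.coprime_primes hp Nat.prime_two).2 hp2)
  rw [← orderOf_coe, h1, orderOf_one] at hx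
  exact hp.ne_one hx.symm

/-- An element of odd order normalizing a quaternion group and its cyclic maximal subgroup centralizes it. -/
theorem centralizes_quaternion {H : Type*} [Group H] [Finite H] {Q : Subgroup H} {n : ℕ} {x y g : H} (_hy : y ∈ Q)
    (hox : orderOf x = 2 ^ (n + 2)) (hyx : y * x * y⁻¹ = x⁻¹)
    (hS : ∀ s ∈ Q, ∃ i : ℕ, s = x ^ i ∨ s = y * x ^ i) (hgo : (orderOf g).Coprime 2)
    (hgx : g * x * g⁻¹ ∈ zpowers x) (hgQ : g * y * g⁻¹ ∈ Q) : g ∈ centralizer (Q : Set H) := by
  have hgc := commute_of_odd_normalize hox hgo hgx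
  have hgy : Commute g y := by
    obtain ⟨i, hi | hi⟩ := hS _ hgQ
    · exfalso
      have h1 : y = x ^ i := by
        have h2 : g * y * g⁻¹ = g * x ^ i * g⁻¹ := by
          rw [hi, (hgc.pow_right i).eq, mul_inv_cancel_right]
        exact mul_left_cancel (mul_right_cancel h2)
      have h3 : y * x * y⁻¹ = x := by rw [h1, ((Commute.refl x).pow_left i).eq, mul_inv_cancel_right]
      rw [hyx, inv_eq_iff_mul_eq_one, ← pow_two] at h3
      have := Nat.le_of_dvd (by norm_num) (orderOf_dvd_of_pow_eq_one h3)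
      have h7 : 2 ^ 2 ≤ 2 ^ (n + 2) := Nat.pow_le_pow_right (by norm_num) (by omega)
      norm_num at h7
      omega
    · have hit : ∀ m : ℕ, g ^ m * y * (g ^ m)⁻¹ = y * x ^ (i * m) := by
        intro m
        induction m with
        | zero => simp
        | succ m ih =>
          calc g ^ (m + 1) * y * (g ^ (m + 1))⁻¹ = g * (g ^ m * y * (g ^ m)⁻¹) * g⁻¹ := by
                rw [pow_succ']; group
            _ = (g * y * g⁻¹) * (g * x ^ (i * m) * g⁻¹) := by rw [ih]; group
            _ = y * x ^ (i * (m + 1)) := by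
              rw [hi, (hgc.pow_right _).eq, mul_inv_cancel_right, mul_assoc, ← pow_add]
              congr 2
              ring
      have h1 := hit (orderOf g)
      rw [pow_orderOf_eq_one, inv_one, mul_one, one_mul, left_eq_mul] at h1
      have h2 : x ^ i = 1 := by
        rw [← orderOf_dvd_iff_pow_eq_one, hox]
        have h3 := orderOf_dvd_of_pow_eq_one h1
        rw [hox] at h3
        exact ((Nat.coprime_comm.1 hgo).pow_left (n + 2)).dvd_of_dvd_mul_right h3
      rw [h2, mul_one] at hi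
      exact mul_inv_eq_iff_eq_mul.1 hi
  intro q hq
  obtain ⟨i, rfl | rfl⟩ := hS q hq
  · exact (hgc.pow_right i).eq.symm
  · exact (hgy.mul_right (hgc.pow_right i)).eq.symm

/-- A permutation of at most three points with a fixed point and trivial cube is trivial. -/
theorem perm_eq_one_of_fixed {α : Type*} [Finite α] (hα : Nat.card α ≤ 3) {σ : Equiv.Perm α} (h3 : σ ^ 3 = 1)
    {p : α} (hp : σ p = p) : σ = 1 := by
  classical
  have := Fintype.ofFinite α
  refine Equiv.ext fun a => ?_
  rw [Equiv.Perm.one_apply]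
  by_contra ha
  have h3a : σ (σ (σ a)) = a := by
    have := congrArg (fun τ : Equiv.Perm α => τ a) h3
    simpa [pow_succ] using this
  have hpa : p ≠ a := fun e => ha (e ▸ hp)
  have hp1 : p ≠ σ a := fun e => hpa (σ.injective (hp.trans e))
  have hp2 : p ≠ σ (σ a) := fun e => hp1 (σ.injective (hp.trans e))
  have h12 : σ a ≠ σ (σ a) := fun e => ha (σ.injective e).symm
  have h02 : a ≠ σ (σ a) := fun e => ha (by rw [← e] at h3a; exact h3a)
  have hc : ({p, a, σ a, σ (σ a)} : Finset α).card = 4 := by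
    simp [hpa, hp1, hp2, h12, h02, Ne.symm ha]
  have := Finset.card_le_univ ({p, a, σ a, σ (σ a)} : Finset α)
  rw [hc] at this
  rw [Nat.card_eq_fintype_card] at hα
  omega

section Core

variable {H : Type*} [Group H] [Finite H]

/-- The quotient by a suitable cyclic normal subgroup. -/
theorem core_quotient (hC : centralizer ((Cfsg.pCore 2 H : Subgroup H) : Set H) ≤ Cfsg.pCore 2 H)
    (h2 : ∀ R : Subgroup H, IsPGroup 2 R → IsCyclic R ∨ ∃ n : ℕ, Nonempty (R ≃* QuaternionGroup (2 ^ n)))
    (hnc : ∃ R : Subgroup H, IsPGroup 2 R ∧ ¬ IsCyclic R) :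
    (∃ f : H →* DihedralGroup 2, Function.Surjective f ∧ IsCyclic f.ker) ∨
      (∃ f : H →* alternatingGroup (Fin 4), Function.Surjective f ∧ IsCyclic f.ker) ∨
      (∃ f : H →* Equiv.Perm (Fin 4), Function.Surjective f ∧ IsCyclic f.ker) := by
  classical
  have : Fact (Nat.Prime 2) := ⟨Nat.prime_two⟩
  set F : Subgroup H := Cfsg.pCore 2 H with hFdef
  have hFn : F.Normal := inferInstance
  have hFp : IsPGroup 2 F := CfsgLib.Cores.isPGroup_pCore 2
  have hodd1 : ∀ g : H, (orderOf g).Coprime 2 → g ∈ centralizer (F : Set H) → g = 1 := by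
    intro g hg hgc
    obtain ⟨k, hk⟩ := IsPGroup.iff_orderOf.1 hFp ⟨g, hC hgc⟩
    rw [orderOf_mk] at hk
    rw [hk] at hg
    rcases Nat.eq_zero_or_pos k with rfl | hk0
    · exact orderOf_eq_one_iff.1 (by simpa using hk)
    · exact absurd ((Nat.coprime_pow_left_iff hk0 2 2).1 hg) (by norm_num)
  have hgen : ∀ g : H, ∀ q ∈ F, g * q * g⁻¹ ∈ F := fun g q hq => hFn.conj_mem q hq g
  have htwo : (∀ g : H, (orderOf g).Coprime 2 → g = 1) → F = ⊤ := fun h =>
    top_le_iff.1 (CfsgLib.Cores.le_pCore (isPGroup_two_of_odd fun g _ => h g))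
  obtain ⟨R, hR, hRc⟩ := hnc
  have hnotcyc : F = ⊤ → ¬ IsCyclic F := fun hF hc => hRc (by
    have : IsCyclic F := hc
    exact Subgroup.isCyclic_of_le (H := R) (H' := F) (hF ▸ le_top))
  have hcycF : ¬ IsCyclic F := by
    intro hc
    refine hnotcyc (htwo fun g hg => hodd1 g hg ?_) hc
    obtain ⟨x₀, hx₀⟩ := hc.exists_generator
    have hQx : ∀ q ∈ F, q ∈ zpowers (x₀ : H) := fun q hq => by
      obtain ⟨i, hi⟩ := hx₀ ⟨q, hq⟩
      exact ⟨i, by simpa using congrArg Subtype.val hi⟩
    obtain ⟨k, hk⟩ := IsPGroup.iff_orderOf.1 hFp x₀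
    have hgx := commute_of_odd_normalize (n := k) (by rw [← hk, orderOf_coe]) hg (hQx _ (hgen g _ x₀.2))
    intro q hq
    obtain ⟨i, rfl⟩ := hQx q hq
    exact (hgx.zpow_right i).eq.symm
  obtain ⟨n, ⟨e⟩⟩ := (h2 F hFp).resolve_left hcycF
  rcases n with _ | n
  · refine absurd (e.isCyclic.2 ?_) hcycF
    rw [pow_zero]
    exact isCyclic_of_orderOf_eq_card (QuaternionGroup.xa 0) (by
      rw [QuaternionGroup.orderOf_xa, Nat.card_eq_fintype_card, QuaternionGroup.card]; rfl)
  obtain ⟨x, y, hx, hy, hox, hoy, hyx, hyy, hS⟩ := CfsgLib.Invol.quaternion_gens F n e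
  have hfix : ∀ g : H, (orderOf g).Coprime 2 → g * x * g⁻¹ ∈ zpowers x → g = 1 := fun g hg hgx =>
    hodd1 g hg (centralizes_quaternion hy hox hyx hS hg hgx (hgen g y hy))
  by_cases h2g : ∀ g : H, (orderOf g).Coprime 2 → g = 1
  · left
    obtain ⟨f, hf, hfk⟩ := quaternion_to_klein n
    let E : H ≃* QuaternionGroup (2 ^ (n + 1)) :=
      (topEquiv.symm.trans (MulEquiv.subgroupCongr (htwo h2g).symm)).trans e
    refine ⟨f.comp E.toMonoidHom, hf.comp E.surjective, ?_⟩
    have hk : f.ker = (f.comp E.toMonoidHom).ker.map E.toMonoidHom := by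
      rw [← MonoidHom.comap_ker, map_comap_eq_self_of_surjective E.surjective]
    rw [← (equivMapOfInjective (f.comp E.toMonoidHom).ker E.toMonoidHom E.injective).isCyclic.symm, ← hk]
    exact hfk
  right
  have hyx' : ∀ i : ℕ, (y * x ^ i) * (y * x ^ i) = y * y := fun i => by
    have hyi : y * x ^ i * y⁻¹ = x⁻¹ ^ i := by rw [← hyx, conj_pow]
    calc (y * x ^ i) * (y * x ^ i) = (y * x ^ i * y⁻¹) * (y * y) * x ^ i := by group
      _ = y * y := by
        rw [hyi, hyy, inv_pow, mul_assoc, (Commute.pow_pow_self x _ i).eq, inv_mul_cancel_left]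
  have hn0 : n = 0 := by
    by_contra hn
    refine h2g fun g hg => hfix g hg ?_
    obtain ⟨i, hi | hi⟩ := hS _ (hgen g x hx)
    · exact ⟨i, by simpa using hi.symm⟩
    · exfalso
      have hoc : orderOf (g * x * g⁻¹) = orderOf x := orderOf_injective (MulAut.conj g).toMonoidHom
        (MulAut.conj g).injective x
      have h5 : orderOf (y * x ^ i) ∣ 4 := orderOf_dvd_of_pow_eq_one (by
        rw [show (4 : ℕ) = 2 * 2 from rfl, pow_mul, pow_two (y * x ^ i), hyx', ← pow_two y, ← pow_mul,
          show 2 * 2 = orderOf y from hoy.symm]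
        exact pow_orderOf_eq_one y)
      rw [← hi, hoc, hox] at h5
      have h6 := Nat.le_of_dvd (by norm_num) h5
      have h7 : 2 ^ 3 ≤ 2 ^ (n + 2) := Nat.pow_le_pow_right (by norm_num) (by omega)
      norm_num at h7
      omega
  subst hn0
  have h4 : orderOf x = 4 := hox
  have hx4 : x ^ 4 = 1 := h4 ▸ pow_orderOf_eq_one x
  have hyy2 : y * y = x ^ 2 := hyy
  set z := x ^ 2 with hz
  have hz2 : z ^ 2 = 1 := by rw [hz, ← pow_mul]; exact hx4
  have hz1 : z ≠ 1 := fun h => by
    have := orderOf_dvd_of_pow_eq_one h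
    rw [h4] at this
    norm_num at this
  have hinvol : ∀ s ∈ F, s ^ 2 = 1 → s = 1 ∨ s = z := by
    intro s hs hs2
    obtain ⟨j, rfl | rfl⟩ := hS s hs
    · rw [← pow_mul, ← orderOf_dvd_iff_pow_eq_one, h4] at hs2
      have hj : j % 4 = 0 ∨ j % 4 = 2 := by omega
      rw [← pow_mod_orderOf, h4]
      rcases hj with h | h <;> rw [h]
      · exact Or.inl (pow_zero x)
      · exact Or.inr rfl
    · rw [pow_two, hyx', hyy2] at hs2
      exact absurd hs2 hz1
  have hzF : z ∈ F := pow_mem hx 2
  have hzc : ∀ g : H, Commute g z := fun g => by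
    rcases hinvol _ (hgen g z hzF) (by rw [conj_pow, hz2, mul_one, mul_inv_cancel]) with h | h
    · exact absurd (conj_eq_one_iff.1 h) hz1
    · exact mul_inv_eq_iff_eq_mul.1 h
  -- the three cyclic subgroups of order four
  let T := {K : Subgroup H // ∃ s ∈ F, orderOf s = 4 ∧ K = zpowers s}
  have hTle : Nat.card T ≤ 3 := by
    have hmem : ∀ s ∈ F, orderOf s = 4 → zpowers s ∈ ({zpowers x, zpowers y, zpowers (y * x)} : Set (Subgroup H)) := by
      intro s hs ho
      obtain ⟨j, hj⟩ := hS s hs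
      rw [← pow_mod_orderOf, h4] at hj
      have hlt := Nat.mod_lt j (show 4 > 0 by norm_num)
      have hy3 : y⁻¹ = y * x ^ 2 := inv_eq_of_mul_eq_one_right (by
        rw [← mul_assoc, hyy2, ← pow_two z, hz2])
      have hyx3 : (y * x)⁻¹ = y * x ^ 3 := inv_eq_of_mul_eq_one_right (by
        have h1 := hyx' 1
        rw [pow_one] at h1
        rw [show y * x * (y * x ^ 3) = y * x * (y * x) * x ^ 2 by
          rw [show x ^ 3 = x * x ^ 2 from pow_succ' x 2]; simp only [mul_assoc], h1, hyy2, ← hz, ← pow_two z, hz2])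
      interval_cases hjm : j % 4
      all_goals rcases hj with rfl | rfl
      · simp at ho
      · exact Or.inr (Or.inl (by simp))
      · exact Or.inl (by simp)
      · exact Or.inr (Or.inr (by simp))
      · exfalso
        rw [orderOf_eq_prime hz2 hz1] at ho
        norm_num at ho
      · exact Or.inr (Or.inl (by rw [← hy3, zpowers_inv]))
      · refine Or.inl ?_
        rw [show x ^ 3 = x⁻¹ from eq_inv_of_mul_eq_one_left (by rw [← pow_succ]; exact hx4), zpowers_inv]
      · exact Or.inr (Or.inr (by rw [← hyx3, zpowers_inv, pow_one y |>.symm]; simp))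
    have hsub : {K : Subgroup H | ∃ s ∈ F, orderOf s = 4 ∧ K = zpowers s} ⊆
        ({zpowers x, zpowers y, zpowers (y * x)} : Set (Subgroup H)) := by
      rintro K ⟨s, hs, ho, rfl⟩
      exact hmem s hs ho
    have h1 : ({zpowers x, zpowers y, zpowers (y * x)} : Set (Subgroup H)).ncard ≤ 3 :=
      (Set.ncard_insert_le _ _).trans (by
        have := Set.ncard_insert_le (zpowers y) ({zpowers (y * x)} : Set (Subgroup H))
        rw [Set.ncard_singleton] at this
        omega)
    exact (Nat.card_coe_set_eq _).trans_le ((Set.ncard_le_ncard hsub (Set.toFinite _)).trans h1)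
  have hcl : ∀ h : H, ∀ K : T, ∃ s ∈ F, orderOf s = 4 ∧
      (K.1.map (MulAut.conj h).toMonoidHom) = zpowers s := fun h K => by
    obtain ⟨s, hs, ho, hK⟩ := K.2
    exact ⟨h * s * h⁻¹, hgen h s hs,
      by rw [← ho]; exact orderOf_injective (MulAut.conj h).toMonoidHom (MulAut.conj h).injective s,
      by rw [hK, MonoidHom.map_zpowers]; rfl⟩
  let act : H →* Equiv.Perm T := MonoidHom.toHomPerm
    { toFun := fun h K => ⟨K.1.map (MulAut.conj h).toMonoidHom, hcl h K⟩
      map_one' := funext fun K => Subtype.ext (by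
        simp only [map_one]
        exact Subgroup.map_id _)
      map_mul' := fun a b => funext fun K => Subtype.ext (by
        show K.1.map _ = (K.1.map _).map _
        rw [Subgroup.map_map]
        congr 1
        ext w
        simp [mul_assoc]) }
  have hactker : IsPGroup 2 act.ker := isPGroup_two_of_odd fun g hg hgo => hfix g hgo (by
    have h1 := congrArg (fun σ : Equiv.Perm T => (σ ⟨zpowers x, x, hx, h4, rfl⟩).1) (MonoidHom.mem_ker.1 hg)
    have h2' : g * x * g⁻¹ ∈ (zpowers x).map (MulAut.conj g).toMonoidHom := ⟨x, mem_zpowers x, rfl⟩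
    rwa [show (zpowers x).map (MulAut.conj g).toMonoidHom = zpowers x from h1] at h2')
  have hFcard : Nat.card F = 8 := by
    rw [Nat.card_congr e.toEquiv, Nat.card_eq_fintype_card, QuaternionGroup.card]
    rfl
  have h48 : Nat.card H ∣ 48 := by
    have h1 : Nat.card act.ker ∣ 8 := hFcard ▸ card_dvd_of_le (CfsgLib.Cores.le_pCore hactker)
    have h2' : Nat.card act.range ∣ 6 := by
      refine (card_subgroup_dvd_card _).trans ?_
      rw [Nat.card_perm]
      exact Nat.factorial_dvd_factorial hTle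
    rw [← act.ker.index_mul_card, index_ker, mul_comm]
    exact mul_dvd_mul h1 h2'
  have h8 : 8 ∣ Nat.card H := hFcard ▸ card_subgroup_dvd_card F
  have h3H : 3 ∣ Nat.card H := by
    by_contra h3
    refine h2g fun g hg => ?_
    have h16 : Nat.card H ∣ 16 :=
      Nat.Coprime.dvd_of_dvd_mul_right ((Nat.prime_three.coprime_iff_not_dvd.2 h3).symm) h48
    exact orderOf_eq_one_iff.1 (Nat.dvd_one.1 ((hg.pow_right 4) ▸ Nat.dvd_gcd dvd_rfl
      ((orderOf_dvd_natCard g).trans (h16.trans (by norm_num)))))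
  have hcard : Nat.card H = 24 ∨ Nat.card H = 48 := by
    have h9 := Nat.le_of_dvd (by norm_num) h48
    have h24 : 8 * 3 ∣ Nat.card H := Nat.Coprime.mul_dvd_of_dvd_of_dvd (by norm_num) h8 h3H
    have h0 : 0 < Nat.card H := Nat.card_pos
    obtain ⟨m, hm⟩ := h24
    rw [hm] at h9 h0 ⊢
    omega
  have : Fact (Nat.Prime 3) := ⟨Nat.prime_three⟩
  have hsyl3 : ∀ P : Sylow 3 H, Nat.card P = 3 := fun P => by
    rw [P.card_eq_multiplicity]
    rcases hcard with h | h <;> rw [h]
    · rw [show (24 : ℕ) = 3 ^ 1 * 8 by norm_num, Nat.factorization_mul (by norm_num) (by norm_num),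
        Finsupp.add_apply, Nat.Prime.factorization_pow Nat.prime_three, Finsupp.single_eq_same,
        Nat.factorization_eq_zero_of_not_dvd (show ¬ 3 ∣ 8 by norm_num)]
      rfl
    · rw [show (48 : ℕ) = 3 ^ 1 * 16 by norm_num, Nat.factorization_mul (by norm_num) (by norm_num),
        Finsupp.add_apply, Nat.Prime.factorization_pow Nat.prime_three, Finsupp.single_eq_same,
        Nat.factorization_eq_zero_of_not_dvd (show ¬ 3 ∣ 16 by norm_num)]
      rfl
  obtain ⟨P₀⟩ : Nonempty (Sylow 3 H) := inferInstance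
  obtain ⟨g₀, hg₀⟩ : ∃ g : P₀, orderOf g = 3 := exists_prime_orderOf_dvd_card' 3 (hsyl3 P₀).symm.dvd
  have hdisj : ∀ (P : Sylow 3 H), F ⊓ (P : Subgroup H) = ⊥ := fun P => inf_eq_bot_of_coprime (by
    rw [hFcard, hsyl3]; norm_num)
  have hnorm_comm : ∀ (P : Sylow 3 H) (k : H), k ∈ F → k ∈ normalizer ((P : Subgroup H) : Set H) →
      ∀ w ∈ (P : Subgroup H), Commute k w := by
    intro P k hk hkn w hw
    have h1 : k * w * k⁻¹ * w⁻¹ ∈ F ⊓ (P : Subgroup H) :=
      ⟨by rw [show k * w * k⁻¹ * w⁻¹ = k * (w * k⁻¹ * w⁻¹) by group]; exact mul_mem hk (hgen w _ (inv_mem hk)),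
        (P : Subgroup H).mul_mem ((mem_normalizer_iff.1 hkn w).1 hw) ((P : Subgroup H).inv_mem hw)⟩
    rw [hdisj, mem_bot, mul_inv_eq_one] at h1
    exact mul_inv_eq_iff_eq_mul.1 h1
  have hn1 : Nat.card (Sylow 3 H) ≠ 1 := by
    intro h1
    have : Subsingleton (Sylow 3 H) := (Nat.card_eq_one_iff_unique.1 h1).1
    have hPn : (P₀ : Subgroup H).Normal := P₀.normal_of_subsingleton
    have hc : (g₀ : H) ∈ centralizer (F : Set H) := mem_centralizer_iff.2 fun k hk =>
      (hnorm_comm P₀ k hk (by rw [normalizer_eq_top (H := (P₀ : Subgroup H))]; exact mem_top k) g₀ g₀.2).eq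
    have h2' := hodd1 g₀ (by rw [orderOf_coe, hg₀]; norm_num) hc
    rw [← orderOf_coe, h2', orderOf_one] at hg₀
    omega
  have hn4 : Nat.card (Sylow 3 H) = 4 := by
    have h1 : Nat.card (Sylow 3 H) ∣ 16 := by
      refine (Sylow.card_dvd_index P₀).trans ?_
      have h2' := (P₀ : Subgroup H).index_mul_card
      rw [hsyl3] at h2'
      rcases hcard with h | h <;> rw [h] at h2'
      · rw [show (P₀ : Subgroup H).index = 8 by omega]; norm_num
      · rw [show (P₀ : Subgroup H).index = 16 by omega]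
    have h2' : Nat.card (Sylow 3 H) % 3 = 1 % 3 := card_sylow_modEq_one 3 H
    have h3' := Nat.le_of_dvd (by norm_num) h1
    have h16 : Nat.card (Sylow 3 H) ≠ 16 := by
      intro h16
      have h4' : (normalizer ((P₀ : Subgroup H) : Set H)).index = 16 := by
        exact (Sylow.card_eq_index_normalizer P₀).symm.trans h16
      have h5 := (normalizer ((P₀ : Subgroup H) : Set H)).index_mul_card
      have hzn : z ∈ normalizer ((P₀ : Subgroup H) : Set H) := mem_normalizer_iff.2 fun w => by
        rw [← (hzc w).eq, mul_inv_cancel_right]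
      have h6 : 2 ∣ Nat.card (normalizer ((P₀ : Subgroup H) : Set H)) := by
        rw [← orderOf_eq_prime hz2 hz1, ← orderOf_mk z hzn]
        exact orderOf_dvd_natCard _
      rw [h4'] at h5
      omega
    interval_cases Nat.card (Sylow 3 H) <;> omega
  let τ : Sylow 3 H ≃ Fin 4 := Finite.equivFinOfCardEq hn4
  let π : H →* Equiv.Perm (Fin 4) := (τ.permCongrHom.toMonoidHom).comp (MulAction.toPermHom H (Sylow 3 H))
  have hπker : ∀ g, g ∈ π.ker → ∀ P : Sylow 3 H, g ∈ normalizer ((P : Subgroup H) : Set H) := by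
    intro g hg P
    refine Sylow.smul_eq_iff_mem_normalizer.1 ?_
    have h1 : MulAction.toPermHom H (Sylow 3 H) g = 1 := τ.permCongrHom.injective (by
      rw [map_one]; exact MonoidHom.mem_ker.1 hg)
    exact congrArg (fun σ : Equiv.Perm (Sylow 3 H) => σ P) h1
  have hker3 : IsPGroup 2 π.ker := isPGroup_two_of_odd fun g hg hgo => by
    by_contra hg1
    have h3g : orderOf g = 3 := by
      have h1 : orderOf g ∣ 3 := (hgo.pow_right 4).dvd_of_dvd_mul_left ((orderOf_dvd_natCard g).trans h48)
      exact ((Nat.dvd_prime Nat.prime_three).1 h1).resolve_left fun h => hg1 (orderOf_eq_one_iff.1 h)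
    have hgP : IsPGroup 3 (zpowers g) := IsPGroup.of_card (n := 1) (by rw [Nat.card_zpowers, h3g]; norm_num)
    have hall : ∀ P : Sylow 3 H, (P : Subgroup H) = zpowers g := fun P => by
      have h1 : g ∈ zpowers g ⊓ (P : Subgroup H) := by
        rw [← hgP.inf_normalizer_sylow P]
        exact ⟨mem_zpowers g, hπker g hg P⟩
      exact (eq_of_le_of_card_ge (zpowers_le.2 h1.2) (by rw [hsyl3, Nat.card_zpowers, h3g])).symm
    exact hn1 (Nat.card_eq_one_iff_unique.2 ⟨⟨fun P Q => Sylow.ext ((hall P).trans (hall Q).symm)⟩, inferInstance⟩)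
  have hker_eq : π.ker = zpowers z := by
    refine le_antisymm (fun k hk => ?_) (zpowers_le.2 ?_)
    · have hkF : k ∈ F := CfsgLib.Cores.le_pCore hker3 hk
      rcases em (k ^ 2 = 1) with hk2 | hk2
      · rcases hinvol k hkF hk2 with h | h
        · exact h ▸ one_mem _
        · exact h ▸ mem_zpowers z
      exfalso
      have hk4 : orderOf k = 4 := by
        have h1 : k ^ 4 = 1 := by
          obtain ⟨j, rfl | rfl⟩ := hS k hkF
          · rw [← pow_mul, mul_comm, pow_mul, hx4, one_pow]
          · rw [show (4 : ℕ) = 2 * 2 from rfl, pow_mul, pow_two (y * x ^ j), hyx', hyy2, hz2]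
        exact orderOf_eq_prime_pow (p := 2) (n := 1) (by simpa using hk2) h1
      have hcomm := hnorm_comm P₀ k hkF (hπker k hk P₀) g₀ g₀.2
      have hσ3 : act (g₀ : H) ^ 3 = 1 := by
        have h1 : (g₀ : H) ^ orderOf (g₀ : H) = 1 := pow_orderOf_eq_one _
        rw [orderOf_coe, hg₀] at h1
        rw [← map_pow, h1, map_one]
      have hσ := perm_eq_one_of_fixed hTle hσ3 (p := ⟨zpowers k, k, hkF, hk4, rfl⟩) (Subtype.ext (by
        show (zpowers k).map (MulAut.conj (g₀ : H)).toMonoidHom = zpowers k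
        rw [MonoidHom.map_zpowers]
        simp [← hcomm.eq]))
      obtain ⟨j, hj⟩ := IsPGroup.iff_orderOf.1 hactker ⟨_, MonoidHom.mem_ker.2 hσ⟩
      rw [orderOf_mk, orderOf_coe, hg₀] at hj
      have h2' : 2 ∣ 3 ∨ j = 0 := by
        rcases Nat.eq_zero_or_pos j with h | h
        · exact Or.inr h
        · exact Or.inl (hj ▸ dvd_pow_self 2 h.ne')
      rcases h2' with h | h
      · norm_num at h
      · simp [h] at hj
    · refine MonoidHom.mem_ker.2 ?_
      show τ.permCongrHom (MulAction.toPermHom H (Sylow 3 H) z) = 1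
      rw [show MulAction.toPermHom H (Sylow 3 H) z = 1 from Equiv.ext fun P => ?_, map_one]
      exact Sylow.smul_eq_iff_mem_normalizer.2 (mem_normalizer_iff.2 fun w => by
        rw [← (hzc w).eq, mul_inv_cancel_right])
  have hrange : Nat.card π.range * 2 = Nat.card H := by
    rw [← index_ker, ← π.ker.index_mul_card]
    congr 1
    rw [hker_eq, Nat.card_zpowers, orderOf_eq_prime hz2 hz1]
  have hcyc : IsCyclic π.ker := by rw [hker_eq]; infer_instance
  rcases hcard with h | h
  · left
    have hA : π.range = alternatingGroup (Fin 4) := by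
      refine Equiv.Perm.eq_alternatingGroup_of_index_eq_two ?_
      have h1 := π.range.index_mul_card
      rw [Nat.card_perm, Nat.card_fin, show Nat.factorial 4 = 24 from rfl,
        show Nat.card π.range = 12 by omega] at h1
      omega
    refine ⟨π.codRestrict (alternatingGroup (Fin 4)) fun g => hA ▸ ⟨g, rfl⟩, fun w => ?_, ?_⟩
    · obtain ⟨g, hg⟩ := hA.ge w.2
      exact ⟨g, Subtype.ext hg⟩
    · rwa [MonoidHom.ker_codRestrict]
  · right
    refine ⟨π, MonoidHom.range_eq_top.1 (eq_top_of_card_eq _ ?_), hcyc⟩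
    rw [Nat.card_perm, Nat.card_fin, show Nat.factorial 4 = 24 from rfl]
    omega

end Core

end CfsgLib.Icosa
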