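import Mathlib
import Cfsg.Agent.Lib.Icosa.Five
import Cfsg.Agent.Lib.Icosa.SmallQuot
import Cfsg.Agent.Lib.Icosa.SolvableQuot

/-!
# The six quotient types of fixed-point-free groups
-/

set_option autoImplicit false
set_option linter.unusedSectionVars false

namespace CfsgLib.Icosa

open Subgroup Equiv

theorem not_isZGroup_of_pair {K : Type*} [Group K] [Finite K] [IsZGroup K] {u v : K} (hu : u * u = 1) (hu1 : u ≠ 1)
    (hv : v * v = 1) (hv1 : v ≠ 1) (hne : v ≠ u) (hc : v * u = u * v) : False := by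
  have : Fact (Nat.Prime 2) := ⟨Nat.prime_two⟩
  have hcs : closure ({u, v} : Set K) ≤ centralizer ({u, v} : Set K) := (closure_le _).2 (by
    rintro w hw
    refine mem_centralizer_iff.2 fun w' hw' => ?_
    rcases hw with rfl | rfl <;> rcases hw' with rfl | rfl <;> first | rfl | exact hc | exact hc.symm)
  have hpg : IsPGroup 2 (closure ({u, v} : Set K)) := by
    rintro ⟨w, hw⟩
    refine ⟨1, Subtype.ext ?_⟩
    show w ^ 2 = 1
    refine closure_induction (p := fun w _ => w ^ 2 = 1) (fun x hx => ?_) (one_pow 2) (fun x y hx hy h1 h2 => ?_)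
      (fun x _ h1 => by rw [inv_pow, h1, inv_one]) hw
    · rcases hx with rfl | rfl <;> rw [pow_two] <;> assumption
    · have hxy : Commute x y := by
        have h3 : x ∈ centralizer ((closure ({u, v} : Set K) : Subgroup K) : Set K) := by
          rw [centralizer_closure]; exact hcs hx
        exact (mem_centralizer_iff.1 h3 y hy).symm
      rw [hxy.mul_pow, h1, h2, one_mul]
  obtain ⟨S, hS⟩ := hpg.exists_le_sylow
  have hcyc : IsCyclic (closure ({u, v} : Set K)) := hpg.isCyclic_of_isZGroup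
  have huK := subset_closure (k := ({u, v} : Set K)) (Or.inl rfl)
  have hvK := subset_closure (k := ({u, v} : Set K)) (Or.inr rfl)
  classical
  set C := closure ({u, v} : Set K)
  have := Fintype.ofFinite C
  have h1 := IsCyclic.card_pow_eq_one_le (α := C) (n := 2) two_pos
  have h2 : ({1, ⟨u, huK⟩, ⟨v, hvK⟩} : Finset C) ⊆ Finset.univ.filter fun w : C => w ^ 2 = 1 := by
    intro w hw
    simp only [Finset.mem_insert, Finset.mem_singleton] at hw
    refine Finset.mem_filter.2 ⟨Finset.mem_univ _, Subtype.ext ?_⟩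
    rcases hw with rfl | rfl | rfl
    · simp
    · simpa [pow_two] using hu
    · simpa [pow_two] using hv
  have h3 : ({1, ⟨u, huK⟩, ⟨v, hvK⟩} : Finset C).card = 3 :=
    Finset.card_eq_three.2 ⟨_, _, _, fun e => hu1 (congrArg Subtype.val e).symm,
      fun e => hv1 (congrArg Subtype.val e).symm, fun e => hne (congrArg Subtype.val e).symm, rfl⟩
  have := Finset.card_le_card h2
  omega

/-- Having no nontrivial normal Z-subgroup. -/
def BigType (X : Type*) [Group X] : Prop :=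
  12 ≤ Nat.card X ∧ ∀ K : Subgroup X, K.Normal → IsZGroup K → K = ⊥

theorem bigType_of_checks {n : ℕ} (X : Subgroup (Perm (Fin n))) (hA : alternatingGroup (Fin n) ≤ X)
    (hcard : 12 ≤ Nat.card X)
    (h1 : ∀ x : Perm (Fin n), x ≠ 1 → ∃ g, cm x g ^ 5 ≠ 1 ∧ Perm.sign g = 1)
    (h2 : ∀ x : Perm (Fin n), x ^ 5 ≠ 1 → ∃ g, cm x g ≠ 1 ∧ cm x g * cm x g = 1 ∧ Perm.sign g = 1)
    (h3 : ∀ u : Perm (Fin n), u * u = 1 → u ≠ 1 → Perm.sign u = 1 → ∃ h : Perm (Fin n),
      h * u * h⁻¹ ≠ u ∧ (h * u * h⁻¹) * u = u * (h * u * h⁻¹) ∧ Perm.sign h = 1) : BigType X := by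
  refine ⟨hcard, fun K hK hZ => (eq_bot_iff_forall _).2 fun x hx => ?_⟩
  by_contra hx1
  have hcm : ∀ (y : X), y ∈ K → ∀ g, Perm.sign g = 1 → ∃ w : X, w ∈ K ∧ (w : Perm (Fin n)) = cm (y : Perm (Fin n)) g := by
    intro y hy g hg
    refine ⟨y * ⟨g, hA hg⟩ * y⁻¹ * (⟨g, hA hg⟩ : X)⁻¹, ?_, rfl⟩
    rw [mul_assoc y, mul_assoc y]
    exact mul_mem hy (hK.conj_mem _ (inv_mem hy) _)
  obtain ⟨g, hg5, hg⟩ := h1 x fun e => hx1 (Subtype.ext e)
  obtain ⟨w, hw, hwe⟩ := hcm x hx g hg
  obtain ⟨g', hg1, hg2, hg'⟩ := h2 w (hwe ▸ hg5)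
  obtain ⟨u, hu, hue⟩ := hcm w hw g' hg'
  obtain ⟨h, hh1, hh2, hh⟩ := h3 (u : Perm (Fin n)) (hue ▸ hg2) (hue ▸ hg1) (by
    rw [hue, cm]
    simp only [map_mul, map_inv]
    rw [mul_comm (Perm.sign (w : Perm (Fin n))) (Perm.sign g'), mul_inv_cancel_right, mul_inv_cancel])
  have hv : ⟨h, hA hh⟩ * u * (⟨h, hA hh⟩ : X)⁻¹ ∈ K := hK.conj_mem u hu _
  refine not_isZGroup_of_pair (K := K) (u := ⟨u, hu⟩) (v := ⟨_, hv⟩) ?_ ?_ ?_ ?_ ?_ ?_
  · refine Subtype.ext (Subtype.ext ?_)
    show (u : Perm (Fin n)) * u = 1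
    rw [hue]
    exact hg2
  · exact fun e => hg1 (hue ▸ congrArg (fun v : K => ((v : X) : Perm (Fin n))) e)
  · refine Subtype.ext (Subtype.ext ?_)
    show (h * u * h⁻¹) * (h * u * h⁻¹) = 1
    have := hue ▸ hg2
    calc (h * u * h⁻¹) * (h * u * h⁻¹) = h * (u * u) * h⁻¹ := by group
      _ = 1 := by rw [this]; group
  · intro e
    have h4 : h * u * h⁻¹ = 1 := congrArg (fun v : K => ((v : X) : Perm (Fin n))) e
    exact hg1 (hue ▸ conj_eq_one_iff.1 h4)
  · exact fun e => hh1 (congrArg (fun v : K => ((v : X) : Perm (Fin n))) e)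
  · exact Subtype.ext (Subtype.ext hh2)

theorem BigType.of_equiv {X Y : Type*} [Group X] [Group Y] (e : X ≃* Y) (h : BigType X) : BigType Y := by
  refine ⟨Nat.card_congr e.toEquiv ▸ h.1, fun K hK hZ => ?_⟩
  have h1 := h.2 (K.comap e.toMonoidHom) inferInstance (by
    have : IsZGroup K := hZ
    exact IsZGroup.of_injective (f := e.toMonoidHom.subgroupComap K) fun a b hab =>
      Subtype.ext (e.injective (congrArg Subtype.val hab)))
  refine comap_injective (f := e.toMonoidHom) e.surjective ?_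
  rw [h1]
  exact ((MonoidHom.ker_eq_bot_iff _).2 e.injective).symm

theorem bigType_four : BigType (alternatingGroup (Fin 4)) ∧ BigType (Perm (Fin 4)) := by
  refine ⟨bigType_of_checks _ le_rfl ?_ four_comm four_invol four_pair, ?_⟩
  · rw [nat_card_alternatingGroup, Nat.card_fin]; decide
  · refine (bigType_of_checks ⊤ le_top ?_ four_comm four_invol four_pair).of_equiv topEquiv
    rw [card_top, Nat.card_perm, Nat.card_fin]; decide

theorem bigType_five : BigType (alternatingGroup (Fin 5)) ∧ BigType (Perm (Fin 5)) := by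
  refine ⟨bigType_of_checks _ le_rfl ?_ five_comm five_invol five_pair, ?_⟩
  · rw [nat_card_alternatingGroup, Nat.card_fin]; decide
  · refine (bigType_of_checks ⊤ le_top ?_ five_comm five_invol five_pair).of_equiv topEquiv
    rw [card_top, Nat.card_perm, Nat.card_fin]; decide

theorem not_isZGroup_klein : ¬ IsZGroup (DihedralGroup 2) := fun h =>
  not_isZGroup_of_pair (K := DihedralGroup 2) (u := .r 1) (v := .sr 0) rfl (by decide) rfl (by decide) (by decide) rfl

variable {G : Type*} [Group G] [Finite G] {V : Type*} [AddCommGroup V] [Module ℂ V] [FiniteDimensional ℂ V]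
  [Nontrivial V] {ρ : G →* Module.End ℂ V}

theorem IsFPF.isZGroup_of_cyclic (h : IsFPF ρ) (K : Subgroup G)
    (h2 : ∀ R : Subgroup G, R ≤ K → IsPGroup 2 R → IsCyclic R) : IsZGroup K := ⟨fun p hp P => by
  have := Fact.mk hp
  rw [((P : Subgroup K).equivMapOfInjective K.subtype K.subtype_injective).isCyclic]
  rcases eq_or_ne p 2 with rfl | hp2
  · exact h2 _ (map_subtype_le _) (P.2.map _)
  · exact h.isCyclic_of_odd hp2 (P.2.map _)⟩

/-- A two-subgroup of a quotient by an odd normal subgroup lifts. -/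
theorem exists_lift {O : Subgroup G} [O.Normal] (hO : (Nat.card O).Coprime 2) (R : Subgroup (G ⧸ O)) (hR : IsPGroup 2 R) :
    ∃ Q : Subgroup G, IsPGroup 2 Q ∧ Nonempty (Q ≃* R) := by
  have : Fact (Nat.Prime 2) := ⟨Nat.prime_two⟩
  obtain ⟨Q⟩ : Nonempty (Sylow 2 (R.comap (QuotientGroup.mk' O))) := inferInstance
  let f := (QuotientGroup.mk' O).subgroupComap R
  have hf : Function.Surjective f :=
    MonoidHom.subgroupComap_surjective_of_surjective _ R (QuotientGroup.mk'_surjective O)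
  have htop : IsPGroup 2 (⊤ : Subgroup R) := hR.to_subgroup ⊤
  have hQ : (Q.mapSurjective hf : Subgroup R) = ⊤ := ((Q.mapSurjective hf).3 htop le_top).symm
  refine ⟨(Q : Subgroup (R.comap (QuotientGroup.mk' O))).map (R.comap (QuotientGroup.mk' O)).subtype, Q.2.map _, ⟨?_⟩⟩
  refine ((Q : Subgroup (R.comap (QuotientGroup.mk' O))).equivMapOfInjective _ (Subgroup.subtype_injective _)).symm.trans ?_
  refine MulEquiv.ofBijective (f.comp (Q : Subgroup (R.comap (QuotientGroup.mk' O))).subtype) ⟨?_, ?_⟩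
  · rw [← MonoidHom.ker_eq_bot_iff, eq_bot_iff_forall]
    intro q hq
    have h1 : ((q : R.comap (QuotientGroup.mk' O)) : G) ∈ O :=
      (QuotientGroup.eq_one_iff _).1 (congrArg Subtype.val (MonoidHom.mem_ker.1 hq))
    obtain ⟨k, hk⟩ := IsPGroup.iff_orderOf.1 Q.2 q
    have h2 : orderOf q ∣ Nat.card O := by
      rw [← orderOf_coe, ← orderOf_coe, ← orderOf_mk _ h1]
      exact orderOf_dvd_natCard _
    rw [hk] at h2
    rcases Nat.eq_zero_or_pos k with rfl | hk0
    · exact orderOf_eq_one_iff.1 (by simpa using hk)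
    · exact absurd (Nat.dvd_one.1 (hO ▸ Nat.dvd_gcd ((dvd_pow_self 2 hk0.ne').trans h2) dvd_rfl)) (by norm_num)
  · intro r
    have : r ∈ (Q.mapSurjective hf : Subgroup R) := hQ ▸ mem_top r
    obtain ⟨q, hq, hqr⟩ := this
    exact ⟨⟨q, hq⟩, hqr⟩

/-- The existence part. -/
theorem IsFPF.exists_six_type (h : IsFPF ρ) :
    ∃ N : Subgroup G, N.Normal ∧ IsZGroup N ∧
      (N = ⊤ ∨
        (∃ f : G →* DihedralGroup 2, Function.Surjective f ∧ f.ker = N) ∨
        (∃ f : G →* alternatingGroup (Fin 4), Function.Surjective f ∧ f.ker = N) ∨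
        (∃ f : G →* Perm (Fin 4), Function.Surjective f ∧ f.ker = N) ∨
        (∃ f : G →* alternatingGroup (Fin 5), Function.Surjective f ∧ f.ker = N) ∨
        (∃ f : G →* Perm (Fin 5), Function.Surjective f ∧ f.ker = N)) := by
  have : Fact (Nat.Prime 2) := ⟨Nat.prime_two⟩
  by_cases hs : Group.IsSolvable G
  · by_cases hcyc : ∀ R : Subgroup G, IsPGroup 2 R → IsCyclic R
    · exact ⟨⊤, inferInstance, h.isZGroup_of_cyclic ⊤ fun R _ => hcyc R, Or.inl rfl⟩
    push Not at hcyc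
    obtain ⟨R₀, hR₀, hR₀c⟩ := hcyc
    set O := Cfsg.pPrimeCore 2 G with hOdef
    have hO : (Nat.card O).Coprime 2 := CfsgLib.Cores.coprime_card_pPrimeCore 2
    set mk := QuotientGroup.mk' O
    have hmkinj : ∀ R : Subgroup G, IsPGroup 2 R → Function.Injective (mk.comp R.subtype) := by
      intro R hR
      rw [← MonoidHom.ker_eq_bot_iff, eq_bot_iff_forall]
      intro q hq
      have h1 : (q : G) ∈ O := (QuotientGroup.eq_one_iff _).1 (MonoidHom.mem_ker.1 hq)
      obtain ⟨k, hk⟩ := IsPGroup.iff_orderOf.1 hR q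
      have h2 : orderOf q ∣ Nat.card O := by
        rw [← orderOf_coe, ← orderOf_mk _ h1]
        exact orderOf_dvd_natCard _
      rw [hk] at h2
      rcases Nat.eq_zero_or_pos k with rfl | hk0
      · exact orderOf_eq_one_iff.1 (by simpa using hk)
      · exact absurd (Nat.dvd_one.1 (hO ▸ Nat.dvd_gcd ((dvd_pow_self 2 hk0.ne').trans h2) dvd_rfl)) (by norm_num)
    have h2H : ∀ R : Subgroup (G ⧸ O), IsPGroup 2 R →
        IsCyclic R ∨ ∃ n : ℕ, Nonempty (R ≃* QuaternionGroup (2 ^ n)) := by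
      intro R hR
      obtain ⟨Q, hQ, ⟨e⟩⟩ := exists_lift hO R hR
      rcases h.cyclic_or_quaternion hQ with hc | ⟨-, n, ⟨e'⟩⟩
      · exact Or.inl (e.isCyclic.1 hc)
      · exact Or.inr ⟨n, ⟨e.symm.trans e'⟩⟩
    have hnc : ∃ R : Subgroup (G ⧸ O), IsPGroup 2 R ∧ ¬ IsCyclic R := by
      refine ⟨R₀.map mk, hR₀.map mk, fun hc => hR₀c ?_⟩
      have hr : (mk.comp R₀.subtype).range = R₀.map mk := by
        rw [MonoidHom.range_eq_map, ← Subgroup.map_map, ← MonoidHom.range_eq_map, Subgroup.range_subtype]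
      exact ((MonoidHom.ofInjective (hmkinj R₀ hR₀)).trans (MulEquiv.subgroupCongr hr)).isCyclic.2 hc
    have : Group.IsSolvable (G ⧸ O) := inferInstance
    have hC := CfsgLib.Solvable.centralizer_pCore_le (G := G ⧸ O) 2 (CfsgLib.Cores.pPrimeCore_quotient_self 2)
    have hpre : ∀ {X : Type} [Group X] (f : G ⧸ O →* X), IsCyclic f.ker → IsZGroup (f.comp mk).ker := by
      intro X _ f hf
      refine h.isZGroup_of_cyclic _ fun R hR hR2 => ?_
      let g : R →* f.ker := (mk.comp R.subtype).codRestrict f.ker fun r => hR r.2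
      exact isCyclic_of_injective g fun a b hab => hmkinj R hR2 (congrArg Subtype.val hab)
    have hsurj := QuotientGroup.mk'_surjective O
    rcases core_quotient hC h2H hnc with ⟨f, hf, hk⟩ | ⟨f, hf, hk⟩ | ⟨f, hf, hk⟩
    · exact ⟨_, MonoidHom.normal_ker _, hpre f hk, Or.inr (Or.inl ⟨_, hf.comp hsurj, rfl⟩)⟩
    · exact ⟨_, MonoidHom.normal_ker _, hpre f hk, Or.inr (Or.inr (Or.inl ⟨_, hf.comp hsurj, rfl⟩))⟩
    · exact ⟨_, MonoidHom.normal_ker _, hpre f hk, Or.inr (Or.inr (Or.inr (Or.inl ⟨_, hf.comp hsurj, rfl⟩)))⟩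
  obtain ⟨a, b, P⟩ := exists_icosaPair h hs
  obtain ⟨π, hker, hrange⟩ := P.exists_five_action
  obtain ⟨z, hzI, hρz, hz1, hz2, hzc⟩ := P.exists_neg
  have hZ : IsZGroup π.ker := by
    refine h.isZGroup_of_cyclic _ fun R hR hR2 => ?_
    have hsmall : ∀ w ∈ R, w ^ 4 = 1 → w = 1 ∨ w = z := fun w hw h4 => by
      have hwC : w ∈ centralizer ({a, b} : Set G) := hker ▸ hR hw
      have hwa : Commute w a := (mem_centralizer_iff.1 hwC a (Or.inl rfl)).symm
      have hwb : Commute w b := (mem_centralizer_iff.1 hwC b (Or.inr rfl)).symm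
      exact hzc w (P.centralizer_small hwa hwb (Or.inr (Or.inr h4))) hwa hwb
    refine (h.cyclic_or_quaternion hR2).resolve_right ?_
    rintro ⟨-, n, ⟨e⟩⟩
    set q := ((e.symm (QuaternionGroup.xa 0) : R) : G) with hq
    have h4 : orderOf q = 4 := by
      rw [hq, orderOf_coe, MulEquiv.orderOf_eq e.symm, QuaternionGroup.orderOf_xa]
    rcases hsmall q (e.symm _).2 (h4 ▸ pow_orderOf_eq_one q) with e1 | e1
    · rw [e1, orderOf_one] at h4; omega
    · rw [e1, orderOf_eq_prime hz2 hz1] at h4; omega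
  rcases hrange with hr | hr
  · exact ⟨_, MonoidHom.normal_ker _, hZ,
      Or.inr (Or.inr (Or.inr (Or.inr (Or.inr ⟨π, MonoidHom.range_eq_top.1 hr, rfl⟩))))⟩
  · refine ⟨_, MonoidHom.normal_ker _, hZ, Or.inr (Or.inr (Or.inr (Or.inr (Or.inl
      ⟨π.codRestrict (alternatingGroup (Fin 5)) fun g => hr ▸ ⟨g, rfl⟩, fun w => ?_, ?_⟩))))⟩
    · obtain ⟨g, hg⟩ := hr.ge w.2
      exact ⟨g, Subtype.ext hg⟩
    · rw [MonoidHom.ker_codRestrict]

theorem le_ker_of_bigType {X : Type*} [Group X] (hX : BigType X) {f : G →* X} (hf : Function.Surjective f)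
    {N : Subgroup G} [N.Normal] [IsZGroup N] : N ≤ f.ker := by
  have : Finite X := Finite.of_surjective f hf
  have h1 : (N.map f).Normal := ‹N.Normal›.map f hf
  have h2 : IsZGroup (N.map f) := IsZGroup.of_surjective (f.subgroupMap_surjective N)
  intro g hg
  have h3 : f g ∈ N.map f := mem_map_of_mem f hg
  rwa [hX.2 _ h1 h2, mem_bot] at h3

/-- Two maps onto the four-group have the same kernel. -/
theorem IsFPF.klein_ker_eq (h : IsFPF ρ) {f f' : G →* DihedralGroup 2} (hf : Function.Surjective f)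
    (hf' : Function.Surjective f') : f.ker = f'.ker := by
  have : Fact (Nat.Prime 2) := ⟨Nat.prime_two⟩
  let φ := f.prod f'
  have hexp : ∀ w : DihedralGroup 2, w * w = 1 := by decide
  have hφexp : ∀ g, φ g * φ g = 1 := fun g => Prod.ext (hexp (f g)) (hexp (f' g))
  obtain ⟨S⟩ : Nonempty (Sylow 2 G) := inferInstance
  have hrg : IsPGroup 2 φ.range := by
    rintro ⟨_, g, rfl⟩
    exact ⟨1, Subtype.ext (by rw [pow_one, SubmonoidClass.coe_pow, pow_two, hφexp]; rfl)⟩
  have hsurj : Function.Surjective φ.rangeRestrict := φ.rangeRestrict_surjective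
  have hS : ∀ g, ∃ s ∈ (S : Subgroup G), φ g = φ s := fun g => by
    have h1 : (S.mapSurjective hsurj : Subgroup φ.range) = ⊤ := ((S.mapSurjective hsurj).3 (hrg.to_subgroup ⊤) le_top).symm
    obtain ⟨s, hs, he⟩ := (h1 ▸ mem_top (φ.rangeRestrict g) :
      φ.rangeRestrict g ∈ (S.mapSurjective hsurj : Subgroup φ.range))
    exact ⟨s, hs, (congrArg Subtype.val he).symm⟩
  obtain ⟨p, q, hpq⟩ : ∃ p q : G, ∀ s ∈ (S : Subgroup G), φ s = 1 ∨ φ s = φ p ∨ φ s = φ q ∨ φ s = φ q * φ p := by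
    have hpow : ∀ (x : G) (i : ℕ), φ (x ^ i) = 1 ∨ φ (x ^ i) = φ x := fun x i => by
      rcases Nat.even_or_odd i with ⟨j, rfl⟩ | ⟨j, rfl⟩
      · left; rw [map_pow, ← two_mul, pow_mul, pow_two, hφexp, one_pow]
      · right; rw [map_pow, pow_succ, pow_mul, pow_two, hφexp, one_pow, one_mul]
    have hc : IsCyclic (S : Subgroup G) → ∃ x : G, ∀ s ∈ (S : Subgroup G), ∃ i : ℕ, s = x ^ i := fun hc => by
      obtain ⟨x, hx⟩ := hc.exists_monoid_generator
      refine ⟨x, fun s hs => ?_⟩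
      obtain ⟨i, hi⟩ := hx ⟨s, hs⟩
      exact ⟨i, by simpa using (congrArg Subtype.val hi).symm⟩
    have hfin : IsCyclic (S : Subgroup G) →
        ∃ p q : G, ∀ s ∈ (S : Subgroup G), φ s = 1 ∨ φ s = φ p ∨ φ s = φ q ∨ φ s = φ q * φ p := fun h' => by
      obtain ⟨x, hx⟩ := hc h'
      refine ⟨x, x, fun s hs => ?_⟩
      obtain ⟨i, rfl⟩ := hx s hs
      exact (hpow x i).imp_right Or.inl
    rcases h.cyclic_or_quaternion S.2 with hc' | ⟨-, n, ⟨e⟩⟩
    · exact hfin hc'
    rcases n with _ | n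
    · refine hfin (e.isCyclic.2 ?_)
      rw [pow_zero]
      exact isCyclic_of_orderOf_eq_card (QuaternionGroup.xa 0) (by
        rw [QuaternionGroup.orderOf_xa, Nat.card_eq_fintype_card, QuaternionGroup.card]; rfl)
    obtain ⟨x, y, -, -, -, -, -, -, hS'⟩ := CfsgLib.Invol.quaternion_gens (S : Subgroup G) n e
    refine ⟨x, y, fun s hs => ?_⟩
    obtain ⟨i, rfl | rfl⟩ := hS' s hs
    · exact (hpow x i).imp_right Or.inl
    · rw [map_mul φ y]
      rcases hpow x i with e1 | e1 <;> rw [e1]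
      · rw [mul_one]; exact Or.inr (Or.inr (Or.inl rfl))
      · exact Or.inr (Or.inr (Or.inr rfl))
  have hle : Nat.card φ.range ≤ 4 := by
    classical
    have hsub : (φ.range : Set (DihedralGroup 2 × DihedralGroup 2)) ⊆
        ↑({1, φ p, φ q, φ q * φ p} : Finset (DihedralGroup 2 × DihedralGroup 2)) := by
      rintro _ ⟨g, rfl⟩
      obtain ⟨s, hs, he⟩ := hS g
      rw [he]
      simpa [Finset.mem_insert, Finset.mem_singleton] using hpq s hs
    have h1 := Set.ncard_le_ncard hsub (Finset.finite_toSet _)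
    rw [Set.ncard_coe_finset] at h1
    exact (Nat.card_coe_set_eq _).trans_le (h1.trans (Finset.card_le_four (a := 1) (b := φ p) (c := φ q) (d := φ q * φ p)))
  have h4 : ∀ {k : G →* DihedralGroup 2}, Function.Surjective k → k.ker.index = 4 := fun {k} hk => by
    rw [index_ker, MonoidHom.range_eq_top.2 hk, card_top, DihedralGroup.nat_card]
  have hidx : φ.ker.index ≤ 4 := (index_ker φ).trans_le hle
  have hk : ∀ {k : G →* DihedralGroup 2}, Function.Surjective k → φ.ker ≤ k.ker → φ.ker = k.ker := by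
    intro k hk hle'
    refine eq_of_le_of_card_ge hle' ?_
    have e1 := φ.ker.index_mul_card
    have e2 := k.ker.index_mul_card
    rw [h4 hk] at e2
    by_contra hlt
    push Not at hlt
    have : φ.ker.index * Nat.card φ.ker ≤ 4 * Nat.card φ.ker := Nat.mul_le_mul_right _ hidx
    omega
  rw [← hk hf fun g hg => congrArg Prod.fst (MonoidHom.mem_ker.1 hg),
    hk hf' fun g hg => congrArg Prod.snd (MonoidHom.mem_ker.1 hg)]

/-- The uniqueness part. -/
theorem IsFPF.six_type_unique (h : IsFPF ρ) {N N' : Subgroup G} [N.Normal] [N'.Normal] [IsZGroup N] [IsZGroup N']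
    (hN : N = ⊤ ∨ (∃ f : G →* DihedralGroup 2, Function.Surjective f ∧ f.ker = N) ∨
      (∃ (X : Type) (_ : Group X) (f : G →* X), BigType X ∧ Function.Surjective f ∧ f.ker = N))
    (hN' : N' = ⊤ ∨ (∃ f : G →* DihedralGroup 2, Function.Surjective f ∧ f.ker = N') ∨
      (∃ (X : Type) (_ : Group X) (f : G →* X), BigType X ∧ Function.Surjective f ∧ f.ker = N')) : N = N' := by
  have hVT : ∀ {M : Subgroup G} {f : G →* DihedralGroup 2}, IsZGroup (⊤ : Subgroup G) → Function.Surjective f →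
      f.ker = M → False := fun {M f} hZ hf _ => not_isZGroup_klein (by
    have := hZ
    have : IsZGroup G := IsZGroup.of_surjective (f := (topEquiv : (⊤ : Subgroup G) ≃* G).toMonoidHom) topEquiv.surjective
    exact IsZGroup.of_surjective hf)
  have hB : ∀ {M M' : Subgroup G} {X : Type} [Group X] {f : G →* X} [M'.Normal] [IsZGroup M'], BigType X →
      Function.Surjective f → f.ker = M → M' ≤ M ∧ 12 ≤ M.index := fun {M M' X} _ {f} _ _ hX hf e => by
    refine ⟨e ▸ le_ker_of_bigType hX hf, ?_⟩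
    rw [← e, index_ker, MonoidHom.range_eq_top.2 hf, card_top]
    exact hX.1
  have hVidx : ∀ {M : Subgroup G} {f : G →* DihedralGroup 2}, Function.Surjective f → f.ker = M → M.index = 4 :=
    fun {M f} hf e => by rw [← e, index_ker, MonoidHom.range_eq_top.2 hf, card_top, DihedralGroup.nat_card]
  rcases hN with rfl | ⟨f, hf, e⟩ | ⟨X, _, f, hX, hf, e⟩ <;>
    rcases hN' with rfl | ⟨f', hf', e'⟩ | ⟨X', _, f', hX', hf', e'⟩
  · rfl
  · exact (hVT inferInstance hf' e').elim
  · obtain ⟨h1, h2⟩ := hB (M' := (⊤ : Subgroup G)) hX' hf' e'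
    rw [top_le_iff.1 h1, index_top] at h2
    omega
  · exact (hVT inferInstance hf e).elim
  · rw [← e, ← e', h.klein_ker_eq hf hf']
  · obtain ⟨h1, h2⟩ := hB (M' := N) hX' hf' e'
    have := Nat.le_of_dvd (by norm_num) (hVidx hf e ▸ index_dvd_of_le h1)
    omega
  · obtain ⟨h1, h2⟩ := hB (M' := (⊤ : Subgroup G)) hX hf e
    rw [top_le_iff.1 h1, index_top] at h2
    omega
  · obtain ⟨h1, h2⟩ := hB (M' := N') hX hf e
    have := Nat.le_of_dvd (by norm_num) (hVidx hf' e' ▸ index_dvd_of_le h1)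
    omega
  · exact le_antisymm (hB (M' := N) hX' hf' e').1 (hB (M' := N') hX hf e).1

end CfsgLib.Icosa
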